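import Groth.Agent.Lib.EtPic3.Killed
import Groth.Agent.Lib.EtStalk.TopInv
import Groth.Agent.Lib.Dix24.Kummer
import Groth.Agent.S0073
import Mathlib.RingTheory.Henselian

/-!
# Cohomology of étale schemes over zero-dimensional local rings
-/

set_option autoImplicit false
set_option linter.style.haveILetI false
set_option backward.isDefEq.respectTransparency false
set_option backward.isDefEq.respectTransparency.types false
set_option maxHeartbeats 1000000

universe u

open CategoryTheory CategoryTheory.Limits AlgebraicGeometry Opposite CategoryTheory.Abelian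
open Groth.Agent.EtStalk

namespace Groth.Agent.EtPic3

/-- Being separably closed passes to isomorphic fields. -/
theorem isSepClosed_of_ringEquiv {k l : Type u} [Field k] [IsSepClosed k] [Field l] (e : k ≃+* l) :
    IsSepClosed l := by
  refine IsSepClosed.of_exists_root _ fun p hm hp hs => ?_
  obtain ⟨x, hx⟩ := IsSepClosed.exists_root (p.map e.symm.toRingHom) (by
    rw [Polynomial.degree_map]; exact (Polynomial.degree_pos_of_irreducible hp).ne') (hs.map)
  refine ⟨e x, (map_eq_zero_iff _ e.symm.injective).1 ?_⟩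
  rw [Polynomial.IsRoot, Polynomial.eval_map] at hx
  have h2 := (Polynomial.eval₂_at_apply (p := p) e.symm.toRingHom (e x)).symm
  rw [show e.symm.toRingHom (e x) = x from e.symm_apply_apply x] at h2
  exact h2.trans hx

/-- Positive degree cohomology over a separably closed field vanishes. -/
theorem subsingleton_H_sepClosed (κ : Type u) [Field κ] [IsSepClosed κ] (G : EtCoh.Ab (Spec (CommRingCat.of κ)))
    {n : ℕ} (hn : 0 < n) : Subsingleton (EtCoh.H (Spec (CommRingCat.of κ)) G n) := by
  have hbij : Function.Bijective (algebraMap κ (IsLocalRing.ResidueField κ)) :=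
    ⟨(algebraMap κ (IsLocalRing.ResidueField κ)).injective, Ideal.Quotient.mk_surjective⟩
  haveI : IsSepClosed (IsLocalRing.ResidueField κ) :=
    isSepClosed_of_ringEquiv (RingEquiv.ofBijective (algebraMap κ (IsLocalRing.ResidueField κ)) hbij)
  exact Groth.Agent.S0073.result κ G n hn

/-- Invertibility of an integer passes to schemes above. -/
theorem invertibleOn_of_hom {W X : Scheme.{u}} (f : W ⟶ X) (n : ℕ) (h : Dix.InvertibleOn X n) :
    Dix.InvertibleOn W n := fun w hw => h (f w) <| by
  have h0 : (f.residueFieldMap w).hom (n : X.residueField (f w)) = 0 := by rw [map_natCast]; exact hw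
  exact (map_eq_zero_iff _ (f.residueFieldMap w).hom.injective).1 h0

/-- A surjective closed immersion induces injections on cohomology. -/
theorem exists_injective_of_thickening {X₀ X : Scheme.{u}} (i : X₀ ⟶ X) [IsClosedImmersion i] [Surjective i]
    (F : EtCoh.Ab X) (n : ℕ) : ∃ e : EtCoh.H X F n →+ EtCoh.H X₀ ((EtCoh.pull i).obj F) n, Function.Injective e := by
  haveI : IsIso ((EtCoh.pullPushAdj i).unit.app F) := isIso_unit_of_sections i F fun U hU => by
    refine EtStalk.isZero_of_isEmpty F U ⟨fun u => Set.disjoint_left.1 hU ⟨u, rfl⟩ (i.surjective _)⟩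
  let a := (Ext.mk₀ ((EtCoh.pullPushAdj i).unit.app F)).postcomp
    (EtCoh.const X ℤ) (add_zero n)
  refine ⟨(EtLim.HofPush i ((EtCoh.pull i).obj F) n).comp a,
    (FieldH25.bijective_HofPush_integral i ((EtCoh.pull i).obj F) n).1.comp ?_⟩
  exact (injective_iff_map_eq_zero a).2 fun z hz =>
    FieldH25.eq_zero_of_comp_iso z (asIso ((EtCoh.pullPushAdj i).unit.app F)) hz

variable (R : CommRingCat.{u}) [IsLocalRing R] [Subsingleton (Spec R)] {W : Scheme.{u}} (j : W ⟶ Spec R) [Etale j]

/-- The closed point. -/
noncomputable abbrev resPt : Spec (CommRingCat.of (IsLocalRing.ResidueField R)) ⟶ Spec R :=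
  Spec.map (CommRingCat.ofHom (IsLocalRing.residue R))

instance : IsClosedImmersion (resPt R) := IsClosedImmersion.spec_of_surjective _ Ideal.Quotient.mk_surjective

instance : Surjective (resPt R) := ⟨fun y => ⟨IsLocalRing.closedPoint _, Subsingleton.elim _ _⟩⟩

/-- The reduction. -/
noncomputable abbrev red : Scheme.{u} := pullback j (resPt R)

/-- The reduction is étale over the residue field. -/
noncomputable abbrev redHom : red R j ⟶ Spec (CommRingCat.of (IsLocalRing.ResidueField R)) := pullback.snd j (resPt R)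

/-- The inclusion of the reduction. -/
noncomputable abbrev redInc : red R j ⟶ W := pullback.fst j (resPt R)

include R j in
theorem discreteTopology_etale : DiscreteTopology W := by
  haveI : Etale (redHom R j) := MorphismProperty.pullback_snd _ _ ‹Etale j›
  haveI := discreteTopology_of_etale_field (redHom R j)
  refine discreteTopology_iff_forall_isClosed.2 fun S => ?_
  rw [← Set.image_preimage_eq S (redInc R j).surjective]
  exact (redInc R j).isClosedEmbedding.isClosedMap _ (isClosed_discrete _)

include R j in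
/-- Étale schemes over a zero dimensional local ring have no first cohomology of units. -/
theorem subsingleton_H1_pull_Gm_local :
    Subsingleton (EtCoh.H W ((EtCoh.pull j).obj (EtCoh.Gm _)) 1) := by
  haveI := discreteTopology_etale R j
  exact @Equiv.subsingleton _ _ ((EtCoh.HF W 1).mapIso (pullGmIso j)).addCommGroupIsoToAddEquiv.toEquiv
    (subsingleton_H1_Gm_of_discrete (X := W))

variable [CompactSpace W]

omit [Subsingleton (Spec R)] [Etale j] in
theorem compactSpace_red : CompactSpace (red R j) :=
  (redInc R j).isClosedEmbedding.compactSpace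

include R j in
/-- Positive degree cohomology is torsion. -/
theorem isAddTorsion_H_local (G : EtCoh.Ab W) {q : ℕ} (hq : 0 < q) : IsAddTorsion (EtCoh.H W G q) := by
  obtain ⟨e, he⟩ := exists_injective_of_thickening (redInc R j) G q
  haveI : Etale (redHom R j) := MorphismProperty.pullback_snd _ _ ‹Etale j›
  let W₀ : (Spec (CommRingCat.of (IsLocalRing.ResidueField R))).Etale := Scheme.Etale.mk (redHom R j)
  haveI : CompactSpace W₀.left := compactSpace_red R j
  intro x
  obtain ⟨N, hN, hNx⟩ := isOfFinAddOrder_iff_nsmul_eq_zero.1 (isAddTorsion_H_etale W₀ _ hq (e x))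
  exact isOfFinAddOrder_iff_nsmul_eq_zero.2 ⟨N, hN, he (by rw [map_nsmul, map_zero]; exact hNx)⟩

variable {ℓ : ℕ} (hcd : Dix.CohDimLEAt (Spec (CommRingCat.of (IsLocalRing.ResidueField R))) ℓ 1)

include R j hcd in
/-- Sheaves killed by `ℓ` have no cohomology above degree one. -/
theorem subsingleton_H_local_killed (G : EtCoh.Ab W) (hG : ℓ • 𝟙 G = 0) {q : ℕ} (hq : 1 < q) :
    Subsingleton (EtCoh.H W G q) := by
  obtain ⟨e, he⟩ := exists_injective_of_thickening (redInc R j) G q
  haveI : Etale (redHom R j) := MorphismProperty.pullback_snd _ _ ‹Etale j›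
  haveI := compactSpace_red R j
  haveI := isIntegralHom_of_etale_field (redHom R j)
  let G₀ := (EtCoh.push (redHom R j)).obj ((EtCoh.pull (redInc R j)).obj G)
  have hG₀ : ℓ • 𝟙 G₀ = 0 := by
    haveI : (EtCoh.pull (redInc R j)).Additive := (EtCoh.pullPushAdj _).left_adjoint_additive
    haveI : (EtCoh.push (redHom R j)).Additive := (EtCoh.pullPushAdj _).right_adjoint_additive
    have h := congrArg (fun f => (EtCoh.push (redHom R j)).map ((EtCoh.pull (redInc R j)).map f)) hG
    simpa [G₀] using h
  haveI : Subsingleton (EtCoh.H _ G₀ q) :=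
    hcd G₀ (Dix24.isPrimaryTorsion_of_killedBy (k := 1) (by rw [pow_one]; exact Dix24.killedBy_of_nsmul_id hG₀)) q hq
  haveI : Subsingleton (EtCoh.H (red R j) ((EtCoh.pull (redInc R j)).obj G) q) :=
    (FieldH25.bijective_HofPush_integral (redHom R j) _ q).2.subsingleton
  exact he.subsingleton

include R j hcd in
/-- Cohomology of units is killed by integers prime to `ℓ`. -/
theorem killed_H_Gm_local (hℓ : ℓ.Prime) (hinv : Dix.InvertibleOn (Spec R) ℓ) {q : ℕ} (hq : 1 < q)
    (x : EtCoh.H W (EtCoh.Gm W) q) : ∃ N : ℕ, N.Coprime ℓ ∧ N • x = 0 := by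
  have hno : ∀ y : EtCoh.H W (EtCoh.Gm W) q, ℓ • y = 0 → y = 0 := fun y hy => by
    haveI hepi : Epi (ℓ • 𝟙 (EtCoh.Gm W)) :=
      Groth.Agent.S0108.result W ℓ (Dix24.isUnit_natCast ℓ (invertibleOn_of_hom j ℓ hinv))
    obtain ⟨z, hz⟩ := Dix24.exists_of_nsmul_eq_zero ℓ y hy (Or.inl hepi)
    haveI := subsingleton_H_local_killed R j hcd (kernel (ℓ • 𝟙 (EtCoh.Gm W))) (Dix24.nsmul_id_kernel ℓ) hq
    rw [← hz, show z = 0 from Subsingleton.elim (α := EtCoh.H W (kernel (ℓ • 𝟙 (EtCoh.Gm W))) q) _ _, Ext.zero_comp]
  obtain ⟨N, hN, hNx⟩ := isOfFinAddOrder_iff_nsmul_eq_zero.1 (isAddTorsion_H_local R j _ (show 0 < q by omega) x)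
  obtain ⟨a, m, hm, rfl⟩ := Nat.exists_eq_pow_mul_and_not_dvd hN.ne' ℓ hℓ.ne_one
  refine ⟨m, (hℓ.coprime_iff_not_dvd.2 hm).symm, ?_⟩
  clear hN
  induction a with
  | zero => simpa using hNx
  | succ a ih =>
    refine ih (hno _ ?_)
    rw [← mul_nsmul', ← mul_assoc, ← pow_succ']
    exact hNx

end Groth.Agent.EtPic3
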