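import Groth.Agent.Lib.EtStalk.Agree
import Groth.Agent.Lib.EtStalk.Push
import Groth.Agent.Lib.EtStalk.FiniteSplit
import Groth.Prelude.Def_EtLim
import Mathlib.AlgebraicGeometry.Morphisms.QuasiFinite
import Mathlib.AlgebraicGeometry.Stalk

/-!
# `G_m` near a maximal point
-/

set_option autoImplicit false
set_option linter.style.haveILetI false
set_option backward.isDefEq.respectTransparency false
set_option backward.isDefEq.respectTransparency.types false
set_option maxHeartbeats 1000000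

universe u

open CategoryTheory CategoryTheory.Limits AlgebraicGeometry Opposite
open Groth.Agent.EtStalk

namespace Groth.Agent.EtPic3

section Scheme

variable {V Z : Scheme.{u}}

/-- Global functions on the spectrum of the local ring. -/
theorem fromSpecStalk_appTop_eq (v : V) : (V.fromSpecStalk v).appTop =
    V.presheaf.germ ⊤ v trivial ≫ (Scheme.ΓSpecIso (V.presheaf.stalk v)).inv := by
  rw [Scheme.fromSpecStalk_appTop]
  exact congrArg (V.presheaf.germ ⊤ v trivial ≫ ·)
    ((congrArg ((Scheme.ΓSpecIso (V.presheaf.stalk v)).inv ≫ ·)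
      ((Spec (V.presheaf.stalk v)).presheaf.map_id (op ⊤))).trans (Category.comp_id _))

/-- A function which is one at a point is one nearby. -/
theorem exists_res_eq_one (v : V) (a : Γ(V, ⊤)) (h : (V.fromSpecStalk v).appTop a = 1) :
    ∃ W : V.Opens, v ∈ W ∧ W.ι.appTop a = 1 := by
  rw [fromSpecStalk_appTop_eq, CommRingCat.comp_apply] at h
  have h1 : V.presheaf.germ ⊤ v trivial a = 1 := by
    have := congrArg (Scheme.ΓSpecIso (V.presheaf.stalk v)).hom h
    rwa [map_one, ← CommRingCat.comp_apply, Iso.inv_hom_id, CommRingCat.id_apply] at this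
  obtain ⟨W, hv, iW, iW', hW⟩ : ∃ (W : V.Opens) (_ : v ∈ W) (iW : W ⟶ ⊤) (iW' : W ⟶ ⊤),
      V.presheaf.map iW.op a = V.presheaf.map iW'.op 1 :=
    V.presheaf.germ_eq (U := ⊤) (V := ⊤) v trivial trivial a 1 (h1.trans (map_one _).symm)
  refine ⟨W, hv, ?_⟩
  rw [map_one] at hW
  rw [Scheme.Opens.ι_appTop,
    show (homOfLE (x := W.ι ''ᵁ ⊤) (le_top : _ ≤ (⊤ : V.Opens))).op =
      iW.op ≫ (homOfLE (x := W.ι ''ᵁ ⊤) (y := W) (by simp)).op from
      Subsingleton.elim _ _, Functor.map_comp, CommRingCat.comp_apply, hW, map_one]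

/-- A unit of the local ring extends to a neighbourhood. -/
theorem exists_unit_res (v : V) (c : Γ(Spec (V.presheaf.stalk v), ⊤)ˣ) :
    ∃ (W : V.Opens) (hv : v ∈ W) (a : Γ(W.toScheme, ⊤)ˣ), (W.fromSpecStalkOfMem v hv).appTop a.1 = c.1 := by
  obtain ⟨U, hvU, b, hb⟩ := V.presheaf.exists_germ_eq (x := v) ((Scheme.ΓSpecIso (V.presheaf.stalk v)).hom c.1)
  let W := V.basicOpen b
  have hWU : W ≤ U := V.basicOpen_le b
  have hu : IsUnit (V.presheaf.germ U v hvU b) := by
    rw [hb]
    exact c.isUnit.map (Scheme.ΓSpecIso (V.presheaf.stalk v)).hom.hom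
  have hv : v ∈ W := (V.mem_basicOpen b v hvU).2 hu
  have hbW : IsUnit (V.presheaf.map (homOfLE hWU).op b) := V.toRingedSpace.isUnit_res_basicOpen b
  have e1 : (⊤ : W.toScheme.Opens) ≤ W.ι ⁻¹ᵁ W := fun z _ => z.2
  refine ⟨W, hv, (hbW.map (W.ι.appLE W ⊤ e1).hom).unit, ?_⟩
  show ((W.fromSpecStalkOfMem v hv).appLE ⊤ ⊤ le_top) ((W.ι.appLE W ⊤ e1) (V.presheaf.map (homOfLE hWU).op b)) = c.1
  rw [← CommRingCat.comp_apply (W.ι.appLE W ⊤ e1), Scheme.Hom.appLE_comp_appLE]
  simp only [Scheme.Opens.fromSpecStalkOfMem_ι]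
  rw [Scheme.Hom.appLE, Scheme.fromSpecStalk_app hv]
  simp only [CommRingCat.comp_apply, TopCat.Presheaf.germ_res_apply, hb]
  rw [← CommRingCat.comp_apply, ← CommRingCat.comp_apply, ← CommRingCat.comp_apply, ← Functor.map_comp,
    show (homOfLE _).op ≫ (homOfLE _).op = 𝟙 (op (⊤ : (Spec (V.presheaf.stalk v)).Opens)) from Subsingleton.elim _ _,
    CategoryTheory.Functor.map_id, Category.comp_id, Iso.hom_inv_id, CommRingCat.id_apply]

/-- The spectrum of the local ring of a one-point scheme is the scheme. -/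
theorem isIso_fromSpecStalk_of_subsingleton [Subsingleton Z] (z : Z) : IsIso (Z.fromSpecStalk z) := by
  haveI : IsAffine Z := by
    obtain ⟨U, hU, hzU, -⟩ := exists_isAffineOpen_mem_and_subset (X := Z) (x := z) (U := ⊤) trivial
    have h : U = ⊤ := by ext y; simp [Subsingleton.elim y z, hzU]
    rw [h] at hU
    haveI : IsAffine (⊤ : Z.Opens).toScheme := hU
    exact IsAffine.of_isIso Z.topIso.inv
  let p : Spec Γ(Z, ⊤) := Z.isoSpec.hom z
  haveI : Subsingleton (Spec Γ(Z, ⊤)) := Z.isoSpec.inv.homeomorph.injective.subsingleton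
  haveI : Subsingleton (PrimeSpectrum Γ(Z, ⊤)) := inferInstanceAs (Subsingleton (Spec Γ(Z, ⊤)))
  haveI : Nontrivial Γ(Z, ⊤) := PrimeSpectrum.nontrivial (show PrimeSpectrum Γ(Z, ⊤) from p)
  haveI : IsLocalRing Γ(Z, ⊤) := by
    obtain ⟨m, hm⟩ := Ideal.exists_maximal Γ(Z, ⊤)
    exact IsLocalRing.of_unique_max_ideal ⟨m, hm, fun n hn => congrArg PrimeSpectrum.asIdeal
      (Subsingleton.elim (⟨n, hn.isPrime⟩ : PrimeSpectrum Γ(Z, ⊤)) ⟨m, hm.isPrime⟩)⟩
  have hp : p = IsLocalRing.closedPoint _ := Subsingleton.elim _ _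
  have h1 : IsIso ((Spec Γ(Z, ⊤)).fromSpecStalk p) := by
    rw [hp, Spec.fromSpecStalk_eq' Γ(Z, ⊤), ← stalkClosedPointIso_inv]
    infer_instance
  have h2 := Scheme.SpecMap_stalkMap_fromSpecStalk Z.isoSpec.hom (x := z)
  haveI : IsIso (Z.fromSpecStalk z ≫ Z.isoSpec.hom) := h2 ▸ inferInstance
  exact IsIso.of_isIso_comp_right _ Z.isoSpec.hom

/-- A lift of the spectrum of a local ring to a one-point scheme is an isomorphism. -/
theorem isIso_of_lift [Subsingleton Z] (f : Z ⟶ V) [Mono f] (v : V) (i : Spec (V.presheaf.stalk v) ⟶ Z)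
    (hi : i ≫ f = V.fromSpecStalk v) : IsIso i := by
  obtain ⟨z, rfl⟩ : ∃ z, f z = v := ⟨i (IsLocalRing.closedPoint (V.presheaf.stalk v)), by
    rw [← Scheme.Hom.comp_apply, hi]
    exact Scheme.fromSpecStalk_closedPoint⟩
  haveI := isIso_fromSpecStalk_of_subsingleton z
  refine ⟨inv (Z.fromSpecStalk z) ≫ Spec.map (f.stalkMap z), ?_, ?_⟩
  · rw [← cancel_mono (V.fromSpecStalk (f z))]
    simp only [Category.assoc, Scheme.SpecMap_stalkMap_fromSpecStalk, IsIso.inv_hom_id_assoc, hi, Category.id_comp]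
  · rw [← cancel_mono f]
    simp only [Category.assoc, hi, Scheme.SpecMap_stalkMap_fromSpecStalk, IsIso.inv_hom_id_assoc, Category.id_comp]

end Scheme

variable {X : Scheme.{u}}

/-- The function underlying a section of `G_m`. -/
noncomputable def uv {V : X.Etale} (s : (EtCoh.Gm X).obj.obj (op V)) : Γ(V.left, ⊤) :=
  (Additive.toMul (ULift.down (show ULift.{u + 1} (Additive (Γ(V.left, ⊤))ˣ) from s))).val

theorem eq_zero_of_uv {V : X.Etale} {s : (EtCoh.Gm X).obj.obj (op V)} (h : uv s = 1) : s = 0 := by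
  have h1 : Additive.toMul (ULift.down (show ULift.{u + 1} (Additive (Γ(V.left, ⊤))ˣ) from s)) = 1 := Units.ext h
  exact ULift.ext _ _ (Additive.toMul.injective h1)

theorem uv_injective {V : X.Etale} : Function.Injective (uv (V := V)) := fun s t h =>
  ULift.ext (show ULift.{u + 1} (Additive (Γ(V.left, ⊤))ˣ) from s) _ (Additive.toMul.injective (Units.ext h))

theorem uv_zero (V : X.Etale) : uv (0 : (EtCoh.Gm X).obj.obj (op V)) = 1 := rfl

theorem uv_map {V V' : X.Etale} (g : V' ⟶ V) (s : (EtCoh.Gm X).obj.obj (op V)) :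
    uv ((EtCoh.Gm X).obj.map g.op s) = g.left.appTop (uv s) := rfl

theorem uv_GmPush {Y : Scheme.{u}} (f : Y ⟶ X) {V : X.Etale} (s : (EtCoh.Gm X).obj.obj (op V)) :
    uv (X := Y) (V := (EtCoh.bc f).obj V) ((EtLim.GmPush f).hom.app (op V) s) = (bcFst f V).appTop (uv s) := rfl

/-- An element of a fibre lying in an open. -/
theorem exists_fib_sub {Ω : Type u} [Field Ω] [IsSepClosed Ω] {ξ : Spec (CommRingCat.of Ω) ⟶ X}
    {V : X.Etale} (φ : fib ξ V) (W : V.left.Opens) (h : fibPt φ ∈ W) :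
    ∃ y : fib ξ (EtSite.sub V W), (Scheme.pointSmallEtale ξ).fiber.map (EtSite.subHom V W) y = φ := by
  let x₀ : Spec (CommRingCat.of Ω) ⟶ V.left := φ.left
  have hsub : Set.range x₀ ⊆ Set.range W.ι := by
    rintro _ ⟨a, rfl⟩
    rw [Scheme.Opens.range_ι, Subsingleton.elim a (default : Spec (CommRingCat.of Ω))]
    exact h
  have hWι : IsOpenImmersion W.ι := inferInstance
  let xl : Spec (CommRingCat.of Ω) ⟶ W.toScheme := @IsOpenImmersion.lift _ _ _ W.ι x₀ hWι hsub
  have hxl : xl ≫ W.ι = x₀ := @IsOpenImmersion.lift_fac _ _ _ W.ι x₀ hWι hsub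
  let y : fib ξ (EtSite.sub V W) := Over.homMk xl (by
    exact (Category.assoc _ _ _).symm.trans ((congrArg (· ≫ V.hom) hxl).trans (Over.w φ)))
  exact ⟨y, Over.OverMorphism.ext hxl⟩

theorem hom_fibPt {Ω : Type u} [Field Ω] [IsSepClosed Ω] {ξ : Spec (CommRingCat.of Ω) ⟶ X}
    {V : X.Etale} (φ : fib ξ V) : V.hom (fibPt φ) = ξ default :=
  (Scheme.Hom.comp_apply φ.left V.hom _).symm.trans
    (congrArg (fun a : Spec (CommRingCat.of Ω) ⟶ X => a (default : Spec (CommRingCat.of Ω))) (Over.w φ))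

/-- The lift of the local ring at a point over `η` to the base change. -/
theorem exists_lift (η : X) (V : X.Etale) (v : V.left) (hv : V.hom v = η) :
    ∃ i : Spec (V.left.presheaf.stalk v) ⟶ ((EtCoh.bc (X.fromSpecStalk η)).obj V).left,
      i ≫ bcFst (X.fromSpecStalk η) V = V.left.fromSpecStalk v := by
  subst hv
  exact ⟨pullback.lift (V.left.fromSpecStalk v) (Spec.map (V.hom.stalkMap v))
    (Scheme.SpecMap_stalkMap_fromSpecStalk V.hom).symm, pullback.lift_fst _ _ _⟩

/-- The lift is an isomorphism when the fibre is one point. -/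
theorem isIso_lift (η : X) (hη : ∀ y : X, y ⤳ η → y = η) (V : X.Etale) (v : V.left)
    (huniq : ∀ w : V.left, V.hom w = η → w = v)
    (i : Spec (V.left.presheaf.stalk v) ⟶ ((EtCoh.bc (X.fromSpecStalk η)).obj V).left)
    (hi : i ≫ bcFst (X.fromSpecStalk η) V = V.left.fromSpecStalk v) : IsIso i := by
  haveI hg : IsPreimmersion (X.fromSpecStalk η) := IsAffineOpen.fromSpecStalk_isPreimmersion _ _ _
  haveI : IsPreimmersion (bcFst (X.fromSpecStalk η) V) :=
    MorphismProperty.pullback_fst (P := @IsPreimmersion) V.hom (X.fromSpecStalk η) hg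
  haveI : Subsingleton ((EtCoh.bc (X.fromSpecStalk η)).obj V).left := by
    refine ⟨fun a b => (bcFst (X.fromSpecStalk η) V).isEmbedding.injective ?_⟩
    suffices h : ∀ a, bcFst (X.fromSpecStalk η) V a = v by rw [h a, h b]
    intro a
    refine huniq _ (hη _ ?_)
    rw [show V.hom (bcFst (X.fromSpecStalk η) V a) = X.fromSpecStalk η (pullback.snd V.hom (X.fromSpecStalk η) a) from
      (Scheme.Hom.comp_apply _ _ _).symm.trans ((congrArg (fun t : pullback V.hom (X.fromSpecStalk η) ⟶ X => t a)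
        pullback.condition).trans (Scheme.Hom.comp_apply _ _ _))]
    exact (Scheme.range_fromSpecStalk (X := X) (x := η)).subset (Set.mem_range_self _)
  exact isIso_of_lift (bcFst (X.fromSpecStalk η) V) v i hi

/-- Over a maximal point a neighbourhood can be shrunk to a single point. -/
theorem exists_nhd_single [QuasiSeparatedSpace X] (η : X) (hη : ∀ y : X, y ⤳ η → y = η) (V : X.Etale)
    (v : V.left) (hv : V.hom v = η) :
    ∃ A : V.left.Opens, v ∈ A ∧ ∀ w ∈ A, V.hom w = η → w = v := by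
  obtain ⟨A, hA, hvA, -⟩ := exists_isAffineOpen_mem_and_subset (X := V.left) (x := v) (U := ⊤) trivial
  haveI : AlgebraicGeometry.Etale V.hom := V.prop
  haveI : IsAffine A.toScheme := hA
  let q : A.toScheme ⟶ X := A.ι ≫ V.hom
  haveI : AlgebraicGeometry.Etale q := MorphismProperty.comp_mem _ _ _ inferInstance V.prop
  haveI : QuasiCompact q := quasiCompact_of_compactSpace _
  haveI : LocallyQuasiFinite q := FiniteSplit.locallyQuasiFinite_of_etale q
  have hfin : {w : V.left | w ∈ A ∧ V.hom w = η ∧ w ≠ v}.Finite := by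
    refine ((q.finite_preimage_singleton η).image A.ι).subset fun w ⟨hw, hw', _⟩ => ⟨⟨w, hw⟩, ?_, rfl⟩
    exact hw'
  let T := ⋃ w ∈ {w : V.left | w ∈ A ∧ V.hom w = η ∧ w ≠ v}, closure ({w} : Set V.left)
  have hT : IsClosed T := hfin.isClosed_biUnion fun _ _ => isClosed_closure
  refine ⟨A ⊓ ⟨Tᶜ, hT.isOpen_compl⟩, ⟨hvA, fun h => ?_⟩, fun w hw hw' => ?_⟩
  · obtain ⟨w, ⟨hw, hw', hne⟩, hcl⟩ := Set.mem_iUnion₂.1 h
    -- a specialization inside the fibre
    have hsp : w ⤳ v := specializes_iff_mem_closure.2 hcl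
    haveI : LocallyQuasiFinite V.hom := FiniteSplit.locallyQuasiFinite_of_etale V.hom
    haveI := (V.hom.isDiscrete_preimage_singleton η).to_subtype
    have h2 : (⟨w, hw'⟩ : V.hom ⁻¹' {η}) ⤳ (⟨v, hv⟩ : V.hom ⁻¹' {η}) :=
      (Topology.IsInducing.subtypeVal.specializes_iff).1 hsp
    exact hne (congrArg Subtype.val h2.eq)
  · by_contra hne
    exact hw.2 (Set.mem_biUnion ⟨hw.1, hw', hne⟩ (subset_closure (Set.mem_singleton _)))

/-- At a maximal point the units are the units of the local ring. -/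
theorem bijective_stalk_GmPush [QuasiSeparatedSpace X] (η : X) (hη : ∀ y : X, y ⤳ η → y = η)
    {Ω : Type u} [Field Ω] [IsSepClosed Ω] (ξ : Spec (CommRingCat.of Ω) ⟶ X)
    (hξ : ξ (default : Spec (CommRingCat.of Ω)) = η) :
    Function.Bijective ((EtCoh.stalk ξ).map (EtLim.GmPush (X.fromSpecStalk η))) := by
  let g := X.fromSpecStalk η
  constructor
  · refine (injective_iff_map_eq_zero _).2 fun p hp => ?_
    obtain ⟨V, x, s, rfl⟩ := germ_surjective _ _ p
    rw [germ_nat, ← map_zero (germ ξ ((EtCoh.push g).obj (EtCoh.Gm _)) x).hom] at hp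
    obtain ⟨V', r, y, hy, he⟩ := (germ_eq_iff ξ _ x _ 0).1 hp
    rw [map_zero, ← NatTrans.naturality_apply] at he
    have hu := congrArg (uv (X := Spec (X.presheaf.stalk η)) (V := (EtCoh.bc g).obj V')) he
    rw [uv_GmPush, uv_zero] at hu
    obtain ⟨i, hi⟩ := exists_lift η V' (fibPt y) ((hom_fibPt y).trans hξ)
    obtain ⟨W, hW, hW1⟩ := exists_res_eq_one (fibPt y) (uv ((EtCoh.Gm X).obj.map r.op s)) (by
      rw [← hi, Scheme.Hom.comp_appTop, CommRingCat.comp_apply, hu, map_one])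
    obtain ⟨z, hz⟩ := exists_fib_sub y W hW
    rw [← hy, ← hz, ← germ_map, ← germ_map, show (EtCoh.Gm X).obj.map (EtSite.subHom V' W).op
      ((EtCoh.Gm X).obj.map r.op s) = 0 from eq_zero_of_uv ((uv_map _ _).trans hW1), map_zero]
  · intro p
    obtain ⟨V₀, x₀, t₀, rfl⟩ := germ_surjective _ _ p
    obtain ⟨A, hA, huniq⟩ := exists_nhd_single η hη V₀ (fibPt x₀) ((hom_fibPt x₀).trans hξ)
    obtain ⟨x, hx⟩ := exists_fib_sub x₀ A hA
    rw [← hx, ← germ_map]
    let V := EtSite.sub V₀ A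
    let t : ((EtCoh.push g).obj (EtCoh.Gm _)).obj.obj (op V) :=
      ((EtCoh.push g).obj (EtCoh.Gm _)).obj.map (EtSite.subHom V₀ A).op t₀
    let v : V.left := fibPt x
    have hV : ∀ w : V.left, V.hom w = η → w = v := fun w hw => by
      have h1 : A.ι w = fibPt x₀ := huniq _ w.2 hw
      have h2 : A.ι v = fibPt x₀ := congrArg fibPt hx
      exact A.ι.isOpenEmbedding.injective (h1.trans h2.symm)
    obtain ⟨i, hi⟩ := exists_lift η V v ((hom_fibPt x).trans hξ)
    haveI := isIso_lift η hη V v hV i hi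
    let tu : Γ(((EtCoh.bc g).obj V).left, ⊤)ˣ :=
      Additive.toMul (ULift.down (show ULift.{u + 1} (Additive (Γ(((EtCoh.bc g).obj V).left, ⊤))ˣ) from t))
    obtain ⟨W, hW, a, ha⟩ := exists_unit_res v (Units.map i.appTop.hom.toMonoidHom tu)
    let V' := EtSite.sub V W
    obtain ⟨y, hy⟩ := exists_fib_sub x W hW
    let v' : V'.left := (⟨v, hW⟩ : W)
    let i' : Spec (V.left.presheaf.stalk v) ⟶ ((EtCoh.bc g).obj V').left :=
      pullback.lift (W.fromSpecStalkOfMem v hW) (i ≫ pullback.snd V.hom g) (by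
        show W.fromSpecStalkOfMem v hW ≫ W.ι ≫ V.hom = _
        rw [Scheme.Opens.fromSpecStalkOfMem_ι_assoc, ← hi, Category.assoc, Category.assoc]
        exact congrArg (i ≫ ·) pullback.condition)
    have hi' : i' ≫ bcFst g V' = W.fromSpecStalkOfMem v hW := pullback.lift_fst _ _ _
    have hsq : i' ≫ ((EtCoh.bc g).map (EtSite.subHom V W)).left = i := by
      have hg : IsPreimmersion g := IsAffineOpen.fromSpecStalk_isPreimmersion _ _ _
      haveI : IsPreimmersion (bcFst g V) :=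
        MorphismProperty.pullback_fst (P := @IsPreimmersion) V.hom g hg
      rw [← cancel_mono (bcFst g V), Category.assoc, bcFst_nat, ← Category.assoc, hi', hi]
      exact Scheme.Opens.fromSpecStalkOfMem_ι _ _ _
    haveI : IsIso i' := by
      have hV' : ∀ w : V'.left, V'.hom w = η → w = v' := fun w hw =>
        W.ι.isOpenEmbedding.injective (hV _ hw)
      let j : Spec (V'.left.presheaf.stalk v') ⟶ ((EtCoh.bc g).obj V').left := Spec.map (W.ι.stalkMap v') ≫ i'
      haveI : IsIso (W.ι.stalkMap v') := inferInstance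
      have hj : j ≫ bcFst g V' = V'.left.fromSpecStalk v' := by
        show (Spec.map (W.ι.stalkMap v') ≫ i') ≫ bcFst g V' = _
        rw [Category.assoc, hi', Scheme.Opens.fromSpecStalkOfMem, ← Category.assoc, ← Spec.map_comp,
          IsIso.inv_hom_id, Spec.map_id, Category.id_comp]
        rfl
      haveI := isIso_lift η hη V' v' hV' j hj
      exact IsIso.of_isIso_comp_left (Spec.map (W.ι.stalkMap v')) i'
    let s : (EtCoh.Gm X).obj.obj (op V') :=
      (ULift.up (Additive.ofMul a) : ULift.{u + 1} (Additive (Γ(V'.left, ⊤))ˣ))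
    refine ⟨germ ξ _ y s, ?_⟩
    rw [germ_nat, ← hy, ← germ_map]
    refine congrArg _ (uv_injective (X := Spec (X.presheaf.stalk η)) (V := (EtCoh.bc g).obj V')
      ((ConcreteCategory.bijective_of_isIso i'.appTop).1 ?_))
    rw [uv_GmPush, ← CommRingCat.comp_apply, ← Scheme.Hom.comp_appTop, hi']
    refine ha.trans ?_
    show i.appTop (uv (X := Spec (X.presheaf.stalk η)) (V := (EtCoh.bc g).obj V) t) = _
    exact congrArg (fun k : Spec (V.left.presheaf.stalk v) ⟶ ((EtCoh.bc g).obj V).left =>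
      k.appTop (uv (X := Spec (X.presheaf.stalk η)) (V := (EtCoh.bc g).obj V) t)) hsq.symm

/-- Away from the closure of a point the stalks of a direct image from its local ring vanish. -/
theorem subsingleton_stalk_push (η : X) (hη : ∀ y : X, y ⤳ η → y = η) (G : EtCoh.Ab (Spec (X.presheaf.stalk η)))
    {Ω : Type u} [Field Ω] [IsSepClosed Ω] (ξ : Spec (CommRingCat.of Ω) ⟶ X)
    (hξ : ¬ η ⤳ ξ (default : Spec (CommRingCat.of Ω))) :
    Subsingleton ((EtCoh.stalk ξ).obj ((EtCoh.push (X.fromSpecStalk η)).obj G)) := by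
  refine subsingleton_of_forall_eq 0 fun p => ?_
  obtain ⟨V, x, s, rfl⟩ := germ_surjective _ _ p
  let W : V.left.Opens := V.hom ⁻¹ᵁ ⟨(closure ({η} : Set X))ᶜ, isClosed_closure.isOpen_compl⟩
  obtain ⟨y, hy⟩ := exists_fib_sub x W (show V.hom (fibPt x) ∉ closure ({η} : Set X) by
    rw [hom_fibPt]
    exact fun h => hξ (specializes_iff_mem_closure.2 h))
  rw [← hy, ← germ_map]
  have he : IsEmpty ((EtCoh.bc (X.fromSpecStalk η)).obj (EtSite.sub V W)).left := by
    refine isEmpty_bc_of_disjoint _ (Set.disjoint_left.2 ?_)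
    rintro z ⟨w, rfl⟩ ⟨q, hq⟩
    have h1 : X.fromSpecStalk η q = η := hη _ ((Scheme.range_fromSpecStalk (X := X) (x := η)).subset ⟨q, rfl⟩)
    refine w.2 ?_
    show V.hom (W.ι w) ∈ closure ({η} : Set X)
    rw [show V.hom (W.ι w) = η from (Scheme.Hom.comp_apply _ _ _).symm.trans (hq.symm.trans h1)]
    exact subset_closure (Set.mem_singleton _)
  have := AddCommGrpCat.subsingleton_of_isZero (isZero_of_isEmpty G _ he)
  exact (congrArg _ (@Subsingleton.elim _ this _ 0)).trans (map_zero _)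

end Groth.Agent.EtPic3
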