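import Groth.Prelude.Def_EtGm
import Mathlib.CategoryTheory.Sites.EpiMono
import Mathlib.AlgebraicGeometry.Morphisms.Etale

/-!
# Sections of étale sheaves over opens, and units
-/

set_option autoImplicit false
set_option linter.style.haveILetI false
set_option backward.isDefEq.respectTransparency.types false

universe u

open CategoryTheory CategoryTheory.Limits AlgebraicGeometry Opposite

namespace Groth.Agent.EtPic3

variable {X : Scheme.{u}}

/-- An open as an object of the small étale site. -/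
noncomputable abbrev et (W : X.Opens) : X.Etale := Scheme.Etale.mk W.ι

/-- Inclusion of opens in the small étale site. -/
noncomputable def etHom {V W : X.Opens} (h : V ≤ W) : et V ⟶ et W :=
  MorphismProperty.Over.homMk (X.homOfLE h) (X.homOfLE_ι h)

/-- The map to the final object. -/
noncomputable def toTop (V : X.Etale) : V ⟶ EtCoh.top X :=
  MorphismProperty.Over.homMk V.hom (Category.comp_id _)

theorem hom_ext {U V : X.Etale} {a b : U ⟶ V} (h : a.left = b.left) : a = b := MorphismProperty.Over.Hom.ext h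

theorem hom_ext_et {U : X.Etale} {W : X.Opens} (a b : U ⟶ et W) : a = b := by
  apply hom_ext
  exact (cancel_mono W.ι).1 ((MorphismProperty.Over.w a).trans (MorphismProperty.Over.w b).symm)

theorem hom_ext_top {U : X.Etale} (a b : U ⟶ EtCoh.top X) : a = b := by
  apply hom_ext
  have h1 : a.left ≫ 𝟙 X = U.hom := MorphismProperty.Over.w a
  have h2 : b.left ≫ 𝟙 X = U.hom := MorphismProperty.Over.w b
  exact (Category.comp_id _).symm.trans (h1.trans (h2.symm.trans (Category.comp_id _)))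

/-- A morphism landing in an open factors through it. -/
noncomputable def liftOpen {T : Scheme.{u}} (h : T ⟶ X) (W : X.Opens) (hW : ∀ z, h z ∈ W) : T ⟶ W.toScheme :=
  IsOpenImmersion.lift W.ι h (by rw [Scheme.Opens.range_ι]; rintro _ ⟨z, rfl⟩; exact hW z)

theorem liftOpen_ι {T : Scheme.{u}} (h : T ⟶ X) (W : X.Opens) (hW : ∀ z, h z ∈ W) : liftOpen h W hW ≫ W.ι = h :=
  IsOpenImmersion.lift_fac _ _ _

/-- An object landing in an open maps to it. -/
noncomputable def liftEt (T : X.Etale) (W : X.Opens) (h : ∀ z, T.hom z ∈ W) : T ⟶ et W :=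
  MorphismProperty.Over.homMk (liftOpen (X := X) (T := T.left) T.hom W h) (liftOpen_ι (X := X) (T := T.left) T.hom W h)

theorem map_map (F : EtCoh.Ab X) {A B C : X.Etale} (a : A ⟶ B) (b : B ⟶ C) (t : F.obj.obj (op C)) :
    F.obj.map a.op (F.obj.map b.op t) = F.obj.map (a ≫ b).op t := by
  rw [op_comp, F.obj.map_comp]
  rfl

theorem map_eq_map (F : EtCoh.Ab X) {A C : X.Etale} {a b : A ⟶ C} (h : a = b) (t : F.obj.obj (op C)) :
    F.obj.map a.op t = F.obj.map b.op t := by rw [h]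

theorem isSheafFor (F : EtCoh.Ab X) {U : X.Etale} {ι : Type u} {Z : ι → X.Etale} (f : ∀ i, Z i ⟶ U)
    (hcov : ∀ x : U.left, ∃ i z, (f i).left z = x) :
    Presieve.IsSheafFor (F.obj ⋙ CategoryTheory.forget _) (Presieve.ofArrows Z f) := by
  rw [Presieve.isSheafFor_iff_generate]
  refine (isSheaf_iff_isSheaf_of_type _ _).1
    ((Presheaf.isSheaf_iff_isSheaf_forget _ _ (CategoryTheory.forget _)).1 F.property) _ ?_
  rw [show Sieve.generate (Presieve.ofArrows Z f) = Sieve.ofArrows Z f from rfl,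
    Scheme.ofArrows_mem_smallEtaleTopology_iff]
  exact Set.eq_univ_of_forall fun x => Set.mem_iUnion.2 (hcov x)

theorem sect_ext (F : EtCoh.Ab X) {U : X.Etale} {ι : Type u} {Z : ι → X.Etale} (f : ∀ i, Z i ⟶ U)
    (hcov : ∀ x : U.left, ∃ i z, (f i).left z = x) {s t : F.obj.obj (op U)}
    (h : ∀ i, F.obj.map (f i).op s = F.obj.map (f i).op t) : s = t :=
  (isSheafFor F f hcov).isSeparatedFor.ext fun _ _ hg => by
    obtain ⟨i⟩ := hg
    exact h i

theorem exists_glue (F : EtCoh.Ab X) {U : X.Etale} {ι : Type u} {Z : ι → X.Etale} (f : ∀ i, Z i ⟶ U)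
    (hcov : ∀ x : U.left, ∃ i z, (f i).left z = x) (s : ∀ i, F.obj.obj (op (Z i)))
    (h : ∀ i j (T : X.Etale) (a : T ⟶ Z i) (b : T ⟶ Z j), a ≫ f i = b ≫ f j →
      F.obj.map a.op (s i) = F.obj.map b.op (s j)) :
    ∃ S, ∀ i, F.obj.map (f i).op S = s i :=
  ((Presieve.isSheafFor_arrows_iff _ f).1 (isSheafFor F f hcov) s (fun i j T a b e => h i j T a b e)).exists

theorem glue_opens_top (F : EtCoh.Ab X) {ι : Type u} (U : ι → X.Opens) (hU : ∀ x : X, ∃ i, x ∈ U i)
    (s : ∀ i, F.obj.obj (op (et (U i))))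
    (h : ∀ i j, F.obj.map (etHom (inf_le_left : U i ⊓ U j ≤ U i)).op (s i) =
      F.obj.map (etHom (inf_le_right : U i ⊓ U j ≤ U j)).op (s j)) :
    ∃ S, ∀ i, F.obj.map (toTop (et (U i))).op S = s i := by
  refine exists_glue F (fun i => toTop (et (U i))) (fun x => ?_) s fun i j T a b e => ?_
  · obtain ⟨i, hi⟩ := hU x
    exact ⟨i, ⟨x, hi⟩, rfl⟩
  · have hT : ∀ z, T.hom z ∈ U i ⊓ U j := fun z => by
      constructor
      · rw [← MorphismProperty.Over.w a]; exact (a.left z).2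
      · rw [← MorphismProperty.Over.w b]; exact (b.left z).2
    let c : T ⟶ et (U i ⊓ U j) := liftEt T (U i ⊓ U j) hT
    rw [hom_ext_et a (c ≫ etHom inf_le_left), hom_ext_et b (c ≫ etHom inf_le_right), ← map_map, ← map_map, h]

theorem ext_opens_top (F : EtCoh.Ab X) {ι : Type u} (U : ι → X.Opens) (hU : ∀ x : X, ∃ i, x ∈ U i)
    {s t : F.obj.obj (op (EtCoh.top X))}
    (h : ∀ i, F.obj.map (toTop (et (U i))).op s = F.obj.map (toTop (et (U i))).op t) : s = t := by
  refine sect_ext F (fun i => toTop (et (U i))) (fun x => ?_) h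
  obtain ⟨i, hi⟩ := hU x
  exact ⟨i, ⟨x, hi⟩, rfl⟩

theorem app_natural {F G : EtCoh.Ab X} (g : F ⟶ G) {A B : X.Etale} (a : A ⟶ B) (t : F.obj.obj (op B)) :
    g.hom.app (op A) (F.obj.map a.op t) = G.obj.map a.op (g.hom.app (op B) t) :=
  NatTrans.naturality_apply g.hom a.op t

theorem app_injective {F G : EtCoh.Ab X} (g : F ⟶ G) [Mono g] (A : X.Etale) :
    Function.Injective (g.hom.app (op A)) := by
  haveI : Mono g.hom := (sheafToPresheaf _ _).map_mono g
  exact (AddCommGrpCat.mono_iff_injective _).1 (NatTrans.mono_iff_mono_app _ |>.1 inferInstance (op A))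

/-! ### Units -/

/-- A unit as a section of `G_m`. -/
noncomputable def ε (V : X.Etale) : Additive Γ(V.left, ⊤)ˣ →+ (EtCoh.Gm X).obj.obj (op V) :=
  AddEquiv.ulift.symm.toAddMonoidHom

theorem ε_injective (V : X.Etale) : Function.Injective (ε V) := AddEquiv.ulift.symm.injective

theorem ε_surjective (V : X.Etale) : Function.Surjective (ε V) := AddEquiv.ulift.symm.surjective

/-- Restriction of units. -/
noncomputable def resU {V W : X.Etale} (f : V ⟶ W) : Γ(W.left, ⊤)ˣ →* Γ(V.left, ⊤)ˣ :=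
  Units.map f.left.appTop.hom.toMonoidHom

theorem map_ε {V W : X.Etale} (f : V ⟶ W) (a : Γ(W.left, ⊤)ˣ) :
    (EtCoh.Gm X).obj.map f.op (ε W (Additive.ofMul a)) = ε V (Additive.ofMul (resU f a)) := rfl

/-- A unit on an open, pulled back to a scheme mapping into it. -/
noncomputable def pu {T : Scheme.{u}} {W : X.Opens} (h : T ⟶ X) (hT : ⊤ ≤ h ⁻¹ᵁ W) : Γ(X, W)ˣ →* Γ(T, ⊤)ˣ :=
  Units.map (h.appLE W ⊤ hT).hom.toMonoidHom

theorem pu_comp {S T : Scheme.{u}} {W : X.Opens} (k : S ⟶ T) (h : T ⟶ X) (hT : ⊤ ≤ h ⁻¹ᵁ W)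
    (h' : S ⟶ X) (e : k ≫ h = h') (hS : ⊤ ≤ h' ⁻¹ᵁ W) (u : Γ(X, W)ˣ) :
    Units.map k.appTop.hom.toMonoidHom (pu h hT u) = pu h' hS u := by
  subst e
  refine Units.ext ?_
  show k.appTop (h.appLE W ⊤ hT u.1) = (k ≫ h).appLE W ⊤ hS u.1
  rw [← Scheme.Hom.appLE_comp_appLE k h W ⊤ ⊤ hT (by simp), CommRingCat.comp_apply]
  simp [Scheme.Hom.appTop, Scheme.Hom.app_eq_appLE]

theorem pu_res {T : Scheme.{u}} {W W' : X.Opens} (hW : W' ≤ W) (h : T ⟶ X) (hT : ⊤ ≤ h ⁻¹ᵁ W')
    (hT' : ⊤ ≤ h ⁻¹ᵁ W) (u : Γ(X, W)ˣ) :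
    pu h hT (Units.map (X.presheaf.map (homOfLE hW).op).hom.toMonoidHom u) = pu h hT' u := by
  refine Units.ext ?_
  show h.appLE W' ⊤ hT (X.presheaf.map (homOfLE hW).op u.1) = h.appLE W ⊤ hT' u.1
  rw [← CommRingCat.comp_apply, Scheme.Hom.map_appLE]

theorem top_le_ι (W : X.Opens) : (⊤ : W.toScheme.Opens) ≤ W.ι ⁻¹ᵁ W := by simp

/-- A unit on an open as a section over its object of the small étale site. -/
noncomputable def εW {W : X.Opens} (u : Γ(X, W)ˣ) : (EtCoh.Gm X).obj.obj (op (et W)) :=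
  ε (et W) (Additive.ofMul (pu W.ι (top_le_ι W) u))

theorem εW_mul {W : X.Opens} (u v : Γ(X, W)ˣ) : εW (u * v) = εW u + εW v := by
  rw [εW, map_mul]; exact (ε (et W)).map_add _ _

theorem εW_one {W : X.Opens} : εW (1 : Γ(X, W)ˣ) = 0 := by
  rw [εW, map_one]; exact (ε (et W)).map_zero

theorem εW_inv {W : X.Opens} (u : Γ(X, W)ˣ) : εW u⁻¹ = -εW u := by
  rw [εW, map_inv]; exact (ε (et W)).map_neg _

theorem map_εW {V W : X.Opens} (h : V ≤ W) (u : Γ(X, W)ˣ) :
    (EtCoh.Gm X).obj.map (etHom h).op (εW u) =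
      εW (Units.map (X.presheaf.map (homOfLE h).op).hom.toMonoidHom u) := by
  rw [εW, map_ε, εW, pu_res h V.ι (top_le_ι V) (le_trans (top_le_ι V) (V.ι.preimage_mono h))]
  exact congrArg (fun x => ε (et V) (Additive.ofMul x)) (pu_comp _ W.ι _ V.ι (X.homOfLE_ι h) _ u)

theorem εW_bijective (W : X.Opens) : Function.Bijective (εW (W := W)) := by
  have hb : Function.Bijective (W.ι.appLE W ⊤ (top_le_ι W)).hom := by
    have : IsIso (W.ι.appLE W ⊤ (top_le_ι W)) := by
      have h : W.ι.appLE W ⊤ (top_le_ι W) = W.topIso.inv := by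
        rw [Scheme.Opens.ι_appLE, Scheme.Opens.topIso_inv]; congr 1
      rw [h]; infer_instance
    exact ConcreteCategory.bijective_of_isIso (W.ι.appLE W ⊤ (top_le_ι W))
  refine ⟨fun u v h => Units.ext (hb.1 ?_), fun t => ?_⟩
  · exact congrArg Units.val (Additive.ofMul.injective (ε_injective _ h))
  · obtain ⟨a, rfl⟩ := ε_surjective (et W) t
    obtain ⟨r, hr⟩ := hb.2 ((Additive.toMul a : Γ(W.toScheme, ⊤)ˣ) : Γ(W.toScheme, ⊤))
    have hu : IsUnit r := by
      let e := RingEquiv.ofBijective (W.ι.appLE W ⊤ (top_le_ι W)).hom hb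
      exact (MulEquiv.isUnit_map e).1 (show IsUnit (e r) from hr.symm ▸ Units.isUnit _)
    refine ⟨hu.unit, congrArg (ε (et W)) (congrArg Additive.ofMul (Units.ext ?_))⟩
    exact hr

end Groth.Agent.EtPic3
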