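import Groth.Agent.Lib.EtPic3.Killed
import Groth.Agent.Lib.EtStalk.OpenImm
import Mathlib.AlgebraicGeometry.Noetherian
import Mathlib.Topology.NoetherianSpace

/-!
# Sheaves supported at closed points
-/

set_option autoImplicit false
set_option linter.style.haveILetI false
set_option backward.isDefEq.respectTransparency false
set_option backward.isDefEq.respectTransparency.types false
set_option maxHeartbeats 1000000

universe u

open CategoryTheory CategoryTheory.Limits AlgebraicGeometry Opposite CategoryTheory.Abelian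
open Groth.Agent.EtStalk

namespace Groth.Agent.EtPic3

variable {X : Scheme.{u}}

/-- The stalks outside the closed points vanish. -/
def SuppClosed (F : EtCoh.Ab X) : Prop :=
  ∀ (Ω : Type u) [Field Ω] [IsSepClosed Ω] (ξ : Spec (CommRingCat.of Ω) ⟶ X),
    ¬ IsClosed ({ξ (default : Spec (CommRingCat.of Ω))} : Set X) → Subsingleton ((EtCoh.stalk ξ).obj F)

/-- The stalks outside a finite set vanish. -/
def SuppIn (F : EtCoh.Ab X) (T : Finset X) : Prop :=
  ∀ (Ω : Type u) [Field Ω] [IsSepClosed Ω] (ξ : Spec (CommRingCat.of Ω) ⟶ X),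
    ξ (default : Spec (CommRingCat.of Ω)) ∉ T → Subsingleton ((EtCoh.stalk ξ).obj F)

/-- The hypothesis on the closed points. -/
def PointsKilled (P : Submonoid ℕ) (X : Scheme.{u}) : Prop :=
  ∀ x : X, IsClosed ({x} : Set X) → ∀ (G : EtCoh.Ab (Spec (X.residueField x))) (n : ℕ), 0 < n →
    ∀ z : EtCoh.H (Spec (X.residueField x)) G n, Killed P z

variable {P : Submonoid ℕ} (hP : PointsKilled P X)

include hP in
/-- Cohomology of sheaves supported on finitely many closed points is killed. -/
theorem killed_H_suppIn : ∀ (T : Finset X), (∀ x ∈ T, IsClosed ({x} : Set X)) → ∀ (F : EtCoh.Ab X), SuppIn F T →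
    ∀ (n : ℕ), 0 < n → ∀ z : EtCoh.H X F n, Killed P z := by
  classical
  intro T
  induction T using Finset.induction_on with
  | empty =>
    intro _ F hF n _ z
    have hz : IsZero F := (isZero_iff_stalk F).2 fun Ω _ _ ξ =>
      haveI := hF Ω ξ (Finset.notMem_empty _)
      AddCommGrpCat.isZero_of_subsingleton _
    haveI : Subsingleton (EtCoh.H X F n) := ⟨fun a b => by
      have h : ∀ c : EtCoh.H X F n, c = 0 := fun c => by
        have h0 : c.comp (Ext.mk₀ (𝟙 F)) (add_zero n) = 0 := by
          rw [hz.eq_of_src (𝟙 F) 0, Ext.mk₀_zero, Ext.comp_zero]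
        rwa [Ext.comp_mk₀_id] at h0
      rw [h a, h b]⟩
    rw [Subsingleton.elim z 0]
    exact killed_zero
  | insert x T hxT ih =>
    intro hT F hF n hn z
    have hx : IsClosed ({x} : Set X) := hT x (Finset.mem_insert_self _ _)
    haveI : IsClosedImmersion (X.fromSpecResidueField x) := isClosed_singleton_iff_isClosedImmersion.1 hx
    let i := X.fromSpecResidueField x
    let a := (EtCoh.pullPushAdj i).unit.app F
    have hr : Set.range i = {x} := Scheme.range_fromSpecResidueField x
    have hbij : ∀ (Ω : Type u) [Field Ω] [IsSepClosed Ω] (ξ : Spec (CommRingCat.of Ω) ⟶ X),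
        ξ (default : Spec (CommRingCat.of Ω)) = x → Function.Bijective ((EtCoh.stalk ξ).map a) := by
      intro Ω _ _ ξ hξ
      obtain ⟨ζ, rfl⟩ := exists_lift_point i ξ (hr ▸ hξ)
      rw [← ConcreteCategory.isIso_iff_bijective,
        show (EtCoh.stalk (ζ ≫ i)).map a = stalkPull i ζ F ≫ inv (pushStalk i ζ ((EtCoh.pull i).obj F)) by
          rw [IsIso.eq_comp_inv, unit_pushStalk]]
      infer_instance
    haveI : Epi a := (epi_iff_stalk a).2 fun Ω _ _ ξ => by
      by_cases h : ξ (default : Spec (CommRingCat.of Ω)) = x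
      · exact (hbij Ω ξ h).2
      · have := AddCommGrpCat.subsingleton_of_isZero (stalk_push_isZero i ((EtCoh.pull i).obj F) ξ (hr ▸ h))
        exact fun b => ⟨0, @Subsingleton.elim _ this _ _⟩
    let S := ShortComplex.mk (kernel.ι a) a (kernel.condition a)
    have hS : S.ShortExact := { exact := ShortComplex.exact_of_f_is_kernel _ (kernelIsKernel a) }
    have hK : SuppIn S.X₁ T := fun Ω _ _ ξ hξ => by
      haveI hm : Mono ((EtCoh.stalk ξ).map S.f) := inferInstance
      have hinj := (AddCommGrpCat.mono_iff_injective _).1 hm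
      refine subsingleton_of_forall_eq 0 fun p => hinj ?_
      rw [map_zero]
      by_cases h : ξ (default : Spec (CommRingCat.of Ω)) = x
      · refine (hbij Ω ξ h).1 ?_
        rw [map_zero, ← ConcreteCategory.comp_apply, ← Functor.map_comp]
        show (EtCoh.stalk ξ).map (kernel.ι a ≫ a) p = 0
        rw [kernel.condition, Functor.map_zero]
        rfl
      · haveI := hF Ω ξ (by simp [h, hξ])
        exact Subsingleton.elim (α := ((EtCoh.stalk ξ).obj F : Type (u + 1))) _ _
    obtain ⟨N, hN, hNz⟩ := killed_of_injective (EtLim.HofPush i ((EtCoh.pull i).obj F) n)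
      (FieldH25.bijective_HofPush_integral i _ n).1
      (hP x hx ((EtCoh.pull i).obj F) n hn (EtLim.HofPush i _ n (z.comp (Ext.mk₀ S.g) (add_zero n))))
    refine killed_of_nsmul hN ?_
    have h0 : (N • z).comp (Ext.mk₀ S.g) (add_zero n) = 0 :=
      (map_nsmul ((Ext.mk₀ S.g).postcomp _ (add_zero n)) N z).trans hNz
    obtain ⟨y, hy⟩ := Ext.covariant_sequence_exact₂ _ hS (N • z) h0
    rw [← hy]
    exact Killed.map ((Ext.mk₀ S.f).postcomp _ (add_zero n))
      (ih (fun y hy => hT y (Finset.mem_insert_of_mem hy)) S.X₁ hK n hn y)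

section Colimit

variable (F : EtCoh.Ab X)

/-- The indices of the filtration by supports. -/
structure SIdx (X : Scheme.{u}) : Type (u + 1) where
  val : ULift.{u + 1} (Finset X)
  closed : ∀ x ∈ val.down, IsClosed ({x} : Set X)

instance : Preorder (SIdx X) where
  le a b := a.val.down ⊆ b.val.down
  le_refl a := subset_refl _
  le_trans a b c := subset_trans

instance : Nonempty (SIdx X) := ⟨⟨⟨∅⟩, fun x hx => absurd hx (Finset.notMem_empty x)⟩⟩

instance : IsDirectedOrder (SIdx X) := by
  classical
  exact ⟨fun a b => ⟨⟨⟨a.val.down ∪ b.val.down⟩, fun x hx =>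
    (Finset.mem_union.1 hx).elim (a.closed x) (b.closed x)⟩, Finset.subset_union_left, Finset.subset_union_right⟩⟩

/-- The complement of the finite set. -/
def cpl (m : SIdx X) : X.Opens :=
  ⟨(m.val.down : Set X)ᶜ, by
    have h : IsClosed (⋃ x ∈ m.val.down, ({x} : Set X)) := isClosed_biUnion_finset m.closed
    rwa [show (⋃ x ∈ m.val.down, ({x} : Set X)) = (m.val.down : Set X) by ext; simp, ← isOpen_compl_iff] at h⟩

/-- Restriction to the complement. -/
noncomputable def cplMap (m : SIdx X) :
    F ⟶ (EtCoh.push (cpl m).ι).obj ((EtCoh.pull (cpl m).ι).obj F) :=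
  (EtCoh.pullPushAdj (cpl m).ι).unit.app F

variable {F}

/-- The sections killed by restriction to the complement. -/
theorem cplMap_eq_zero_iff (m : SIdx X) {U : X.Etale} (s : F.obj.obj (op U)) :
    (cplMap F m).hom.app (op U) s = 0 ↔ ∀ u : U.left, U.hom u ∉ m.val.down → u ∈ agree F s 0 := by
  constructor
  · intro h u hu
    obtain ⟨z, hz, -⟩ := Scheme.Pullback.exists_preimage_pullback (f := U.hom) (g := (cpl m).ι) u ⟨U.hom u, hu⟩ rfl
    rw [← hz]
    refine (mem_agree_unit (cpl m).ι F s 0 z).1 ?_
    rw [map_zero]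
    exact ⟨_, 𝟙 _, ⟨z, rfl⟩, congrArg _ h⟩
  · intro h
    refine eq_of_agree ((EtCoh.pull (cpl m).ι).obj F) (U := (EtCoh.bc (cpl m).ι).obj U) fun z => ?_
    have hz : U.hom (bcFst (cpl m).ι U z) ∉ m.val.down := by
      show U.hom (pullback.fst U.hom (cpl m).ι z) ∉ _
      rw [show U.hom (pullback.fst U.hom (cpl m).ι z) = (cpl m).ι (pullback.snd U.hom (cpl m).ι z) from
        (Scheme.Hom.comp_apply _ _ _).symm.trans ((congrArg (fun a : pullback U.hom (cpl m).ι ⟶ X => a z)
          pullback.condition).trans (Scheme.Hom.comp_apply _ _ _))]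
      exact (pullback.snd U.hom (cpl m).ι z).2
    have := (mem_agree_unit (cpl m).ι F s 0 z).2 (h _ hz)
    rwa [map_zero] at this

variable (F)

theorem ker_le {m k : SIdx X} (h : m ≤ k) : kernel.ι (cplMap F m) ≫ cplMap F k = 0 := by
  apply (sheafToPresheaf _ _).map_injective
  ext U s
  obtain ⟨U⟩ := U
  show (cplMap F k).hom.app (op U) ((kernel.ι (cplMap F m)).hom.app (op U) s) = 0
  rw [cplMap_eq_zero_iff]
  intro u hu
  refine (cplMap_eq_zero_iff m _).1 ?_ u fun hm => hu (h hm)
  exact congrArg (fun φ : kernel (cplMap F m) ⟶ _ => φ.hom.app (op U) s) (kernel.condition (cplMap F m))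

/-- The filtration by supports. -/
noncomputable def sDiag : SIdx X ⥤ EtCoh.Ab X where
  obj m := kernel (cplMap F m)
  map {m k} h := kernel.lift _ (kernel.ι _) (ker_le F (leOfHom h))
  map_id m := equalizer.hom_ext (by simp)
  map_comp f g := equalizer.hom_ext (by simp)

/-- The cocone of the filtration. -/
noncomputable def sCocone : Cocone (sDiag F) where
  pt := F
  ι := { app := fun m => kernel.ι _
         naturality := fun m k h => by simp [sDiag] }

variable [IsNoetherian X]

theorem isIso_sDesc (hF : SuppClosed F) : IsIso (colimit.desc (sDiag F) (sCocone F)) := by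
  haveI : IsFiltered (SIdx X) := isFiltered_of_directed_le_nonempty _
  haveI : CategoryTheory.IsConnected (SIdx X) := IsFiltered.isConnected _
  let α : sDiag F ⟶ (Functor.const _).obj F := (sCocone F).ι
  haveI : ∀ m, Mono (α.app m) := fun m => inferInstanceAs (Mono (kernel.ι _))
  haveI : Mono α := NatTrans.mono_of_mono_app α
  haveI : Mono (colimit.desc (sDiag F) (sCocone F)) :=
    colim.map_mono' α (colimit.isColimit _) (isColimitConstCocone _ _) _ (fun m => by simp [α])
  haveI : Sheaf.IsLocallySurjective (colimit.desc (sDiag F) (sCocone F)) := by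
    constructor
    intro U s
    rw [EtSite.mem_et_iff]
    intro x
    obtain ⟨A, hA, hxA, -⟩ := exists_isAffineOpen_mem_and_subset (X := U.left) (x := x) (U := ⊤) trivial
    let V := EtSite.sub U A
    let g : V ⟶ U := EtSite.subHom U A
    refine ⟨V, g, ⟨x, hxA⟩, ?_, rfl⟩
    haveI : IsAffine V.left := hA
    haveI : CompactSpace ((𝟭 Scheme).obj V.left) := inferInstanceAs (CompactSpace V.left)
    haveI : Etale V.hom := V.prop
    haveI : IsLocallyNoetherian ((Functor.fromPUnit X).obj V.right) := inferInstanceAs (IsLocallyNoetherian X)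
    haveI : IsLocallyNoetherian V.left := LocallyOfFiniteType.isLocallyNoetherian V.hom
    haveI : IsNoetherian V.left := { }
    show ∃ t, (colimit.desc (sDiag F) (sCocone F)).hom.app (op V) t = F.obj.map g.op s
    let t₀ := F.obj.map g.op s
    let Z : TopologicalSpace.Closeds V.left := ⟨(agree F t₀ 0)ᶜ, (isOpen_agree F t₀ 0).isClosed_compl⟩
    haveI : TopologicalSpace.NoetherianSpace V.left := inferInstance
    obtain ⟨S, hS, hSf, hirr, hZ⟩ := TopologicalSpace.NoetherianSpace.exists_finite_set_isClosed_irreducible Z.2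
    have hclosed : ∀ z ∈ (Z : Set V.left), IsClosed ({V.hom z} : Set X) := fun z hz => by
      by_contra h
      obtain ⟨φ, hφ⟩ := exists_fib V z
      haveI := hF _ (geomPt X (V.hom z)) (by rwa [geomPt_default])
      exact hz (hφ ▸ (mem_agree_iff_germ F φ t₀ 0).2 (Subsingleton.elim _ _))
    have hsub : V.hom '' (Z : Set V.left) ⊆ ⋃ C ∈ S, V.hom '' C := by
      show V.hom '' (Z : Set V.left) ⊆ _
      rw [show (Z : Set V.left) = ⋃₀ S from hZ, Set.image_sUnion]
      intro y hy
      obtain ⟨_, ⟨C, hC, rfl⟩, hy⟩ := hy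
      exact Set.mem_biUnion hC hy
    have hfin : (V.hom '' (Z : Set V.left)).Finite := by
      refine (hS.biUnion fun C hC => ?_).subset hsub
      have hirrC := hirr C hC
      have hCZ : C ⊆ (Z : Set V.left) := by rw [show (Z : Set V.left) = ⋃₀ S from hZ]; exact Set.subset_sUnion_of_mem hC
      have hclC : IsClosed C := hSf C hC
      let η := hirrC.genericPoint
      have hη : η ∈ C := by
        have := hirrC.isGenericPoint_genericPoint_closure.mem
        rwa [hclC.closure_eq] at this
      refine (Set.finite_singleton (V.hom η)).subset ?_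
      rintro _ ⟨c, hc, rfl⟩
      have hsp : η ⤳ c := by
        refine hirrC.isGenericPoint_genericPoint_closure.specializes ?_
        exact subset_closure hc
      exact (hsp.map V.hom.continuous).mem_closed (hclosed η (hCZ hη)) rfl
    let m : SIdx X := ⟨⟨hfin.toFinset⟩, fun y hy => by
      obtain ⟨z, hz, rfl⟩ := hfin.mem_toFinset.1 hy
      exact hclosed z hz⟩
    let ev := sheafToPresheaf X.smallEtaleTopology AddCommGrpCat.{u + 1} ⋙ (evaluation _ _).obj (op V)
    haveI : ev.Additive := { }
    have hm : ev.map (cplMap F m) t₀ = 0 := by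
      show (cplMap F m).hom.app (op V) t₀ = 0
      rw [cplMap_eq_zero_iff]
      intro u hu
      by_contra h
      exact hu (hfin.mem_toFinset.2 ⟨u, h, rfl⟩)
    have hex : (ShortComplex.mk _ _ (kernel.condition (cplMap F m))).Exact :=
      ShortComplex.exact_of_f_is_kernel _ (kernelIsKernel _)
    have hex' := (hex.map_of_mono_of_preservesKernel ev inferInstance inferInstance)
    rw [ShortComplex.ab_exact_iff] at hex'
    obtain ⟨r, hr⟩ := hex' t₀ hm
    refine ⟨(colimit.ι (sDiag F) m).hom.app (op V) r, ?_⟩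
    have := ConcreteCategory.congr_hom (congrArg (fun φ => φ.hom.app (op V))
      (colimit.ι_desc (sCocone F) m)) r
    exact this.trans hr
  haveI : Epi (colimit.desc (sDiag F) (sCocone F)) :=
    (Sheaf.isLocallySurjective_iff_epi' _ _).1 inferInstance
  exact isIso_of_mono_of_epi _

include hP in
/-- Cohomology of a sheaf supported at closed points is killed. -/
theorem killed_H_suppClosed (hF : SuppClosed F) {n : ℕ} (hn : 0 < n) (z : EtCoh.H X F n) : Killed P z := by
  haveI : IsFiltered (SIdx X) := isFiltered_of_directed_le_nonempty _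
  haveI := isIso_sDesc F hF
  let d := colimit.desc (sDiag F) (sCocone F)
  obtain ⟨m, y, hy⟩ := (EtColim.surj_inj X n (sDiag F)).1 (z.comp (Ext.mk₀ (inv d)) (add_zero n))
  have hz : z = y.comp (Ext.mk₀ (kernel.ι (cplMap F m))) (add_zero n) := by
    have := congrArg (fun w => Ext.comp w (Ext.mk₀ d) (add_zero n)) hy
    simp only [ExtColim.comp_mk₀, d, colimit.ι_desc, IsIso.inv_hom_id] at this
    exact (this.trans (Ext.comp_mk₀_id _)).symm
  rw [hz]
  refine Killed.map ((Ext.mk₀ (kernel.ι (cplMap F m))).postcomp _ (add_zero n))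
    (killed_H_suppIn hP m.val.down m.closed _ (fun Ω _ _ ξ hξ => ?_) n hn y)
  haveI hmono : Mono ((EtCoh.stalk ξ).map (kernel.ι (cplMap F m))) := inferInstance
  refine subsingleton_of_forall_eq 0 fun p => (AddCommGrpCat.mono_iff_injective _).1 hmono ?_
  rw [map_zero]
  obtain ⟨U, x, s, rfl⟩ := germ_surjective _ _ p
  change (EtCoh.stalk ξ).map (kernel.ι (cplMap F m)) (germ ξ (kernel (cplMap F m)) x s) = 0
  rw [germ_nat, ← map_zero (germ ξ F x).hom]
  refine (mem_agree_iff_germ F x _ 0).1 ?_
  refine (cplMap_eq_zero_iff m _).1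
    (congrArg (fun φ : kernel (cplMap F m) ⟶ _ => φ.hom.app (op U) s) (kernel.condition (cplMap F m))) _ ?_
  have hw : U.hom (fibPt x) = ξ default :=
    (Scheme.Hom.comp_apply x.left U.hom _).symm.trans
      (congrArg (fun a : Spec (CommRingCat.of Ω) ⟶ X => a (default : Spec (CommRingCat.of Ω))) (Over.w x))
  rwa [hw]

end Colimit

end Groth.Agent.EtPic3
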