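import Groth.Agent.Lib.EtPic3.PushKernel
import Groth.Agent.Lib.EtPic3.ClosedSupp
import Groth.Agent.Lib.EtPic3.MaxPoint
import Groth.Agent.Lib.EtPic3.Artinian

/-!
# Cohomology of `G_m` on one-dimensional noetherian schemes
-/

set_option autoImplicit false
set_option linter.style.haveILetI false
set_option backward.isDefEq.respectTransparency false
set_option backward.isDefEq.respectTransparency.types false
set_option maxHeartbeats 1000000

universe u

open CategoryTheory CategoryTheory.Limits AlgebraicGeometry Opposite CategoryTheory.Abelian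
open Groth.Agent.EtStalk

namespace Groth.Agent.EtPic3

variable {X : Scheme.{u}}

/-- Maximal points: generic points of irreducible components. -/
def IsMaxPt (X : Scheme.{u}) (η : X) : Prop := ∀ y : X, y ⤳ η → y = η

theorem closure_mem_irreducibleComponents {η : X} (hη : IsMaxPt X η) :
    closure {η} ∈ irreducibleComponents (X : Type u) := by
  refine ⟨isIrreducible_singleton.closure, fun C hC hle => ?_⟩
  obtain ⟨y, hy⟩ := QuasiSober.sober hC.closure isClosed_closure
  have h1 : η ∈ closure C := subset_closure (hle (subset_closure rfl))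
  have h2 : y = η := hη y (hy.specializes h1)
  rw [← h2, hy.def]
  exact subset_closure

theorem finite_maxPts (X : Scheme.{u}) [IsNoetherian X] : Finite {η : X // IsMaxPt X η} := by
  haveI : TopologicalSpace.NoetherianSpace X := inferInstance
  haveI := (TopologicalSpace.NoetherianSpace.finite_irreducibleComponents (α := (X : Type u))).to_subtype
  refine Finite.of_injective (β := irreducibleComponents (X : Type u))
    (fun η => ⟨closure {η.1}, closure_mem_irreducibleComponents η.2⟩) fun a b h => Subtype.ext ?_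
  exact inseparable_iff_closure_eq.2 (congrArg Subtype.val h) |>.eq

/-- In dimension at most one a point is closed or maximal. -/
theorem isMaxPt_of_dim_le_one (hdim : topologicalKrullDim X ≤ 1) {x : X} (hx : ¬ IsClosed ({x} : Set X)) :
    IsMaxPt X x := by
  intro y hy
  by_contra hne
  obtain ⟨z, hz, hzx⟩ : ∃ z, x ⤳ z ∧ z ≠ x := by
    by_contra h
    push_neg at h
    refine hx (closure_eq_iff_isClosed.1 (Set.Subset.antisymm (fun z hz => ?_) subset_closure))
    exact h z (specializes_iff_mem_closure.2 hz)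
  let c : X → TopologicalSpace.IrreducibleCloseds X := fun a =>
    ⟨closure {a}, isIrreducible_singleton.closure, isClosed_closure⟩
  have hlt : ∀ {a b : X}, a ⤳ b → b ≠ a → c b < c a := fun {a b} h hne' => by
    refine lt_of_le_of_ne (fun t ht => ?_) fun he => hne' ?_
    · exact (specializes_iff_closure_subset.1 h) ht
    · exact inseparable_iff_closure_eq.2 (congrArg (fun s : TopologicalSpace.IrreducibleCloseds X => (s : Set X)) he) |>.eq
  let s : LTSeries (TopologicalSpace.IrreducibleCloseds X) :=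
    ⟨2, ![c z, c x, c y], fun i => by
      fin_cases i
      · exact hlt hz hzx
      · exact hlt hy (Ne.symm hne)⟩
  have h := (Order.LTSeries.length_le_krullDim s).trans hdim
  change ((2 : ℕ) : WithBot ℕ∞) ≤ 1 at h
  exact absurd h (by decide)

/-- The fibre of an affine étale scheme over the local ring at a point is compact. -/
theorem compactSpace_bc_stalk [QuasiSeparatedSpace X] (η : X) (V : X.Etale) (hV : IsAffine V.left) :
    CompactSpace ((EtCoh.bc (X.fromSpecStalk η)).obj V).left := by
  haveI : CompactSpace ((𝟭 Scheme).obj V.left) := inferInstanceAs (CompactSpace V.left)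
  haveI : QuasiCompact (X.fromSpecStalk η) := quasiCompact_of_compactSpace _
  haveI : QuasiCompact (pullback.fst V.hom (X.fromSpecStalk η)) :=
    MorphismProperty.pullback_fst (P := @QuasiCompact) _ _ inferInstance
  exact QuasiCompact.compactSpace_of_compactSpace (pullback.fst V.hom (X.fromSpecStalk η) : _ ⟶ V.left)

theorem subsingleton_spec_stalk {η : X} (hη : IsMaxPt X η) : Subsingleton (Spec (X.presheaf.stalk η)) := by
  haveI hg : IsPreimmersion (X.fromSpecStalk η) := IsAffineOpen.fromSpecStalk_isPreimmersion _ _ _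
  refine ⟨fun a b => (X.fromSpecStalk η).isEmbedding.injective ?_⟩
  have h : ∀ a, X.fromSpecStalk η a = η := fun a =>
    hη _ ((Scheme.range_fromSpecStalk (X := X) (x := η)).subset ⟨a, rfl⟩)
  rw [h a, h b]

variable (X) [IsNoetherian X]

/-- The index set. -/
abbrev MaxPts : Type u := {η : X // IsMaxPt X η}

noncomputable instance : Fintype (MaxPts X) := @Fintype.ofFinite _ (finite_maxPts X)

/-- An enumeration of the maximal points. -/
noncomputable def maxPt (i : Fin (Fintype.card (MaxPts X))) : MaxPts X := (Fintype.equivFin (MaxPts X)).symm i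

/-- The units at the maximal points. -/
noncomputable abbrev genUnits : EtCoh.Ab X :=
  ⨁ fun i : Fin (Fintype.card (MaxPts X)) =>
    (EtCoh.push (X.fromSpecStalk (maxPt X i).1)).obj (EtCoh.Gm (Spec (X.presheaf.stalk (maxPt X i).1)))

/-- Restriction to the maximal points. -/
noncomputable def toGen : EtCoh.Gm X ⟶ genUnits X :=
  biproduct.lift fun i => EtLim.GmPush (X.fromSpecStalk (maxPt X i).1)

variable {X}

theorem bijective_stalk_toGen {Ω : Type u} [Field Ω] [IsSepClosed Ω] (ξ : Spec (CommRingCat.of Ω) ⟶ X)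
    (hξ : IsMaxPt X (ξ default)) : Function.Bijective ((EtCoh.stalk ξ).map (toGen X)) := by
  classical
  haveI : PreservesBinaryBiproducts (EtCoh.stalk ξ) := preservesBinaryBiproducts_of_preservesBinaryProducts _
  haveI : (EtCoh.stalk ξ).Additive := Functor.additive_of_preservesBinaryBiproducts _
  let F := fun i : Fin (Fintype.card (MaxPts X)) =>
    (EtCoh.push (X.fromSpecStalk (maxPt X i).1)).obj (EtCoh.Gm (Spec (X.presheaf.stalk (maxPt X i).1)))
  let η₀ : MaxPts X := ⟨ξ default, hξ⟩
  let i₀ := Fintype.equivFin (MaxPts X) η₀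
  have hi₀ : maxPt X i₀ = η₀ := Equiv.symm_apply_apply _ _
  have hπ : ∀ η p, (EtCoh.stalk ξ).map (biproduct.π F η) ((EtCoh.stalk ξ).map (toGen X) p) =
      (EtCoh.stalk ξ).map (EtLim.GmPush (X.fromSpecStalk (maxPt X η).1)) p := fun η p => by
    rw [← ConcreteCategory.comp_apply, ← Functor.map_comp, toGen, biproduct.lift_π]
  have hbij := bijective_stalk_GmPush (maxPt X i₀).1 (maxPt X i₀).2 ξ (by rw [hi₀])
  have hext : ∀ d : (EtCoh.stalk ξ).obj (⨁ F), (∀ η, (EtCoh.stalk ξ).map (biproduct.π F η) d = 0) → d = 0 := by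
    intro d hd
    have h := ConcreteCategory.congr_hom (congrArg (EtCoh.stalk ξ).map (biproduct.total : ∑ η, biproduct.π F η ≫ biproduct.ι F η = 𝟙 (⨁ F))) d
    rw [Functor.map_sum, CategoryTheory.Functor.map_id] at h
    refine h.symm.trans ?_
    show AddCommGrpCat.homAddEquiv (∑ η, (EtCoh.stalk ξ).map (biproduct.π F η ≫ biproduct.ι F η)) d = 0
    rw [map_sum, AddMonoidHom.finset_sum_apply]
    refine Finset.sum_eq_zero fun η _ => ?_
    show (EtCoh.stalk ξ).map (biproduct.π F η ≫ biproduct.ι F η) d = 0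
    rw [Functor.map_comp, ConcreteCategory.comp_apply, hd, map_zero]
  have hsub : ∀ η, η ≠ i₀ → Subsingleton ((EtCoh.stalk ξ).obj (F η)) := fun η hne =>
    subsingleton_stalk_push (maxPt X η).1 (maxPt X η).2 _ ξ fun h => hne <| by
      have h1 : maxPt X η = η₀ := Subtype.ext (η₀.2 _ h)
      rw [← hi₀] at h1
      exact (Fintype.equivFin (MaxPts X)).symm.injective h1
  constructor
  · intro p q hpq
    exact hbij.1 (by rw [← hπ i₀, ← hπ i₀, hpq])
  · intro b
    obtain ⟨p, hp⟩ := hbij.2 ((EtCoh.stalk ξ).map (biproduct.π F i₀) b)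
    refine ⟨p, sub_eq_zero.1 (hext _ fun η => ?_)⟩
    by_cases hη : η = i₀
    · subst hη; rw [map_sub, hπ, hp, sub_self]
    · exact @Subsingleton.elim _ (hsub η hη) _ _

variable {P : Submonoid ℕ} (hdim : topologicalKrullDim X ≤ 1) (hP : PointsKilled P X)

include hdim hP in
/-- A class of `G_m` killed at the maximal points is killed. -/
theorem killed_of_maxPts (n : ℕ) (hn : 0 < n)
    (hloc : ∀ η : X, IsMaxPt X η → ∀ q : ℕ, 0 < q → q ≤ n → ∀ W : (Spec (X.presheaf.stalk η)).Etale,
      CompactSpace W.left → ∀ z : EtCoh.H W.left ((EtCoh.pull W.hom).obj (EtCoh.Gm _)) q, Killed P z)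
    (ξ : EtCoh.H X (EtCoh.Gm X) (n + 1))
    (hξ : ∀ η : X, IsMaxPt X η → Killed P (EtLim.HGmPull (X.fromSpecStalk η) (n + 1) ξ)) : Killed P ξ := by
  classical
  let φ := toGen X
  let S := ShortComplex.mk (kernel.ι φ) (cokernel.π (kernel.ι φ)) (cokernel.condition _)
  have hS : S.ShortExact := { exact := ShortComplex.exact_cokernel (kernel.ι φ) }
  let m := Abelian.factorThruCoimage φ
  have hm : cokernel.π (kernel.ι φ) ≫ m = φ := Abelian.coimage.fac φ
  let T := ShortComplex.mk m (cokernel.π m) (cokernel.condition _)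
  have hT : T.ShortExact := { exact := ShortComplex.exact_cokernel m }
  have hbij : ∀ (Ω : Type u) [Field Ω] [IsSepClosed Ω] (x : Spec (CommRingCat.of Ω) ⟶ X),
      ¬ IsClosed ({x default} : Set X) → Function.Bijective ((EtCoh.stalk x).map φ) :=
    fun Ω _ _ x hx => bijective_stalk_toGen x (isMaxPt_of_dim_le_one hdim hx)
  have hK : SuppClosed S.X₁ := fun Ω _ _ x hx => by
    haveI hmo : Mono ((EtCoh.stalk x).map (kernel.ι φ)) := inferInstance
    refine subsingleton_of_forall_eq 0 fun p => (AddCommGrpCat.mono_iff_injective _).1 hmo ?_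
    refine (hbij Ω x hx).1 ?_
    rw [map_zero, map_zero, ← ConcreteCategory.comp_apply, ← Functor.map_comp, kernel.condition, Functor.map_zero]
    rfl
  have hC : SuppClosed T.X₃ := fun Ω _ _ x hx => by
    haveI hep : Epi ((EtCoh.stalk x).map (cokernel.π m)) := inferInstance
    refine subsingleton_of_forall_eq 0 fun p => ?_
    obtain ⟨b, rfl⟩ := (AddCommGrpCat.epi_iff_surjective _).1 hep p
    obtain ⟨a, rfl⟩ := (hbij Ω x hx).2 b
    rw [← ConcreteCategory.comp_apply, ← Functor.map_comp,
      show φ ≫ cokernel.π m = 0 from (congrArg (· ≫ cokernel.π m) hm.symm).trans (by rw [Category.assoc, cokernel.condition, comp_zero]), Functor.map_zero]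
    rfl
  let F := fun i : Fin (Fintype.card (MaxPts X)) =>
    (EtCoh.push (X.fromSpecStalk (maxPt X i).1)).obj (EtCoh.Gm (Spec (X.presheaf.stalk (maxPt X i).1)))
  have hz : Killed P (ξ.comp (Ext.mk₀ φ) (add_zero (n + 1))) := by
    have h : ξ.comp (Ext.mk₀ φ) (add_zero (n + 1)) = ∑ η : Fin (Fintype.card (MaxPts X)),
        (ξ.comp (Ext.mk₀ (EtLim.GmPush (X.fromSpecStalk (maxPt X η).1))) (add_zero (n + 1))).comp
          (Ext.mk₀ (biproduct.ι F η)) (add_zero (n + 1)) := by
      have key : φ = ∑ η : Fin (Fintype.card (MaxPts X)), EtLim.GmPush (X.fromSpecStalk (maxPt X η).1) ≫ biproduct.ι F η := biproduct.lift_eq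
      have hlin := map_sum (Ext.addEquiv₀ (X := EtCoh.Gm X) (Y := ⨁ F)).symm
        (fun η => EtLim.GmPush (X.fromSpecStalk (maxPt X η).1) ≫ biproduct.ι F η) Finset.univ
      rw [key, show Ext.mk₀ (∑ η : Fin (Fintype.card (MaxPts X)), EtLim.GmPush (X.fromSpecStalk (maxPt X η).1) ≫ biproduct.ι F η) =
        ∑ η : Fin (Fintype.card (MaxPts X)), Ext.mk₀ (EtLim.GmPush (X.fromSpecStalk (maxPt X η).1) ≫ biproduct.ι F η) from hlin, Ext.comp_sum]
      refine Finset.sum_congr rfl fun η _ => ?_
      rw [Ext.comp_assoc_of_third_deg_zero, Ext.mk₀_comp_mk₀]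
    rw [h]
    refine killed_sum _ _ fun η _ => Killed.map ((Ext.mk₀ (biproduct.ι F η)).postcomp _ (add_zero (n + 1))) ?_
    obtain ⟨N, hN, hN0⟩ := hξ (maxPt X η).1 (maxPt X η).2
    refine killed_of_nsmul hN (killed_ker_HofPush (X.fromSpecStalk (maxPt X η).1) (compactSpace_bc_stalk (maxPt X η).1) P n _
      (hloc (maxPt X η).1 (maxPt X η).2) _ ?_)
    rw [map_nsmul]
    exact hN0
  obtain ⟨N, hN, hN0⟩ := hz
  have h1 : (N • ξ.comp (Ext.mk₀ S.g) (add_zero (n + 1))).comp (Ext.mk₀ T.f) (add_zero (n + 1)) = 0 := by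
    refine (map_nsmul ((Ext.mk₀ T.f).postcomp _ (add_zero (n + 1))) N _).trans ?_
    show N • (ξ.comp (Ext.mk₀ S.g) (add_zero (n + 1))).comp (Ext.mk₀ T.f) (add_zero (n + 1)) = 0
    rw [Ext.comp_assoc_of_third_deg_zero, Ext.mk₀_comp_mk₀, show S.g ≫ T.f = φ from hm]
    exact hN0
  obtain ⟨c, hc⟩ := Ext.covariant_sequence_exact₁ _ hT _ h1 (n₀ := n) rfl
  obtain ⟨M, hM, hM0⟩ := Killed.map (hT.extClass.postcomp _ rfl) (killed_H_suppClosed hP T.X₃ hC hn c)
  refine killed_of_nsmul hN (killed_of_nsmul hM ?_)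
  have h2 : (M • (N • ξ)).comp (Ext.mk₀ S.g) (add_zero (n + 1)) = 0 := by
    refine (map_nsmul ((Ext.mk₀ S.g).postcomp _ (add_zero (n + 1))) M _).trans ?_
    rw [show ((Ext.mk₀ S.g).postcomp _ (add_zero (n + 1))) (N • ξ) = c.comp hT.extClass rfl from
      (map_nsmul ((Ext.mk₀ S.g).postcomp _ (add_zero (n + 1))) N ξ).trans hc.symm]
    exact hM0
  obtain ⟨y, hy⟩ := Ext.covariant_sequence_exact₂ _ hS _ h2
  rw [← hy]
  exact Killed.map ((Ext.mk₀ S.f).postcomp _ (add_zero (n + 1))) (killed_H_suppClosed hP S.X₁ hK (by omega) y)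

end Groth.Agent.EtPic3
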