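import Groth.Agent.Lib.EtPic3.CurveGm

/-!
# Torsion and vanishing results for `G_m` in dimension one
-/

set_option autoImplicit false
set_option linter.style.haveILetI false
set_option backward.isDefEq.respectTransparency false
set_option backward.isDefEq.respectTransparency.types false
set_option maxHeartbeats 1000000

universe u

open CategoryTheory CategoryTheory.Limits AlgebraicGeometry Opposite CategoryTheory.Abelian
open Groth.Agent.EtStalk

namespace Groth.Agent.EtPic3

/-- The positive integers. -/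
def posNat : Submonoid ℕ where
  carrier := {n | 0 < n}
  one_mem' := Nat.one_pos
  mul_mem' := fun ha hb => Nat.mul_pos ha hb

/-- The integers prime to `ℓ`. -/
def coprimeTo (ℓ : ℕ) : Submonoid ℕ where
  carrier := {n | n.Coprime ℓ}
  one_mem' := Nat.coprime_one_left ℓ
  mul_mem' := fun ha hb => Nat.Coprime.mul_left ha hb

variable {X : Scheme.{u}}

/-- Transport a killing along `pullGmIso`. -/
theorem killed_pullGm {P : Submonoid ℕ} {S : Scheme.{u}} (W : S.Etale) {q : ℕ}
    (h : ∀ z : EtCoh.H W.left (EtCoh.Gm W.left) q, Killed P z)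
    (z : EtCoh.H W.left ((EtCoh.pull W.hom).obj (EtCoh.Gm S)) q) : Killed P z := by
  haveI : Etale W.hom := W.prop
  let e := ((EtCoh.HF W.left q).mapIso (pullGmIso W.hom)).addCommGroupIsoToAddEquiv
  exact killed_of_injective e.toAddMonoidHom e.injective (h _)

theorem pointsKilled_of_sepClosed (P : Submonoid ℕ)
    (hcl : ∀ x : X, IsClosed ({x} : Set X) → IsSepClosed (X.residueField x)) : PointsKilled P X := by
  intro x hx G n hn z
  haveI : IsSepClosed (X.residueField x : Type u) := hcl x hx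
  haveI := subsingleton_H_sepClosed (X.residueField x : Type u) G hn
  rw [show z = 0 from Subsingleton.elim (α := EtCoh.H (Spec (CommRingCat.of (X.residueField x : Type u))) G n) _ _]
  exact killed_zero

/-- First cohomology of units over the local rings at maximal points. -/
theorem killed_H1_local {P : Submonoid ℕ} {η : X} (hη : IsMaxPt X η) (W : (Spec (X.presheaf.stalk η)).Etale)
    (z : EtCoh.H W.left ((EtCoh.pull W.hom).obj (EtCoh.Gm _)) 1) : Killed P z := by
  haveI := subsingleton_spec_stalk hη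
  haveI : Etale W.hom := W.prop
  rw [show z = 0 from @Subsingleton.elim _ (subsingleton_H1_pull_Gm_local (X.presheaf.stalk η) W.hom) z 0]
  exact killed_zero

variable (X) [IsNoetherian X] (hdim : topologicalKrullDim X ≤ 1)

include hdim in
/-- `H^q(X, G_m)` is torsion for `q ≥ 2`. -/
theorem isAddTorsion_H_Gm (q : ℕ) (hq : 2 ≤ q) : IsAddTorsion (EtCoh.H X (EtCoh.Gm X) q) := by
  intro ξ
  obtain ⟨n, rfl⟩ := Nat.exists_eq_add_one.2 (show 0 < q by omega)
  have hP : PointsKilled posNat X := fun x _ G k hk z => by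
    obtain ⟨N, hN, h⟩ := isOfFinAddOrder_iff_nsmul_eq_zero.1
      (FieldH25.isOfFinAddOrder_H (k := (X.residueField x : Type u)) G hk z)
    exact ⟨N, hN, h⟩
  have htors : ∀ (η : X), IsMaxPt X η → ∀ (W : Scheme.{u}) (j : W ⟶ Spec (X.presheaf.stalk η)) [Etale j]
      [CompactSpace W] (k : ℕ), 0 < k → ∀ z : EtCoh.H W (EtCoh.Gm W) k, Killed posNat z :=
    fun η hη W j _ _ k hk z => by
      haveI := subsingleton_spec_stalk hη
      obtain ⟨N, hN, h⟩ := isOfFinAddOrder_iff_nsmul_eq_zero.1 (isAddTorsion_H_local (X.presheaf.stalk η) j _ hk z)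
      exact ⟨N, hN, h⟩
  obtain ⟨N, hN, h⟩ := killed_of_maxPts hdim hP n (by omega)
    (fun η hη k hk _ W hW => killed_pullGm W fun z =>
      haveI : Etale W.hom := W.prop
      htors η hη W.left W.hom k hk z)
    ξ fun η hη => htors η hη _ (𝟙 _) (n + 1) n.succ_pos _
  exact isOfFinAddOrder_iff_nsmul_eq_zero.2 ⟨N, hN, h⟩

variable (ℓ : ℕ) (hℓ : ℓ.Prime) (hinv : Dix.InvertibleOn X ℓ)
  (hcd : ∀ x : X, closure {x} ∈ irreducibleComponents (X : Type u) → Dix.CohDimLEAt (Spec (X.residueField x)) ℓ 1)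
  (hcl : ∀ x : X, IsClosed ({x} : Set X) → IsSepClosed (X.residueField x))

include hdim hℓ hinv hcd hcl in
/-- `H^q(X, G_m)` has no `ℓ`-primary torsion for `q ≥ 2`. -/
theorem eq_zero_of_pow_nsmul (i : ℕ) (hi : 2 ≤ i) (ξ : EtCoh.H X (EtCoh.Gm X) i) (k : ℕ) (hξ : ℓ ^ k • ξ = 0) :
    ξ = 0 := by
  obtain ⟨n, rfl⟩ := Nat.exists_eq_add_one.2 (show 0 < i by omega)
  have hG : ∀ (η : X), IsMaxPt X η → ∀ (W : Scheme.{u}) (j : W ⟶ Spec (X.presheaf.stalk η)) [Etale j]
      [CompactSpace W] (q : ℕ), 1 < q → ∀ z : EtCoh.H W (EtCoh.Gm W) q, Killed (coprimeTo ℓ) z :=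
    fun η hη W j _ _ q hq z => by
      haveI := subsingleton_spec_stalk hη
      exact killed_H_Gm_local (X.presheaf.stalk η) j (hcd η (closure_mem_irreducibleComponents hη)) hℓ
        (invertibleOn_of_hom (X.fromSpecStalk η) ℓ hinv) hq z
  obtain ⟨N, hN, h⟩ := killed_of_maxPts hdim (pointsKilled_of_sepClosed (coprimeTo ℓ) hcl) n (by omega)
    (fun η hη q hq _ W hW z => by
      haveI : Etale W.hom := W.prop
      rcases Nat.lt_or_ge 1 q with h | h
      · exact killed_pullGm W (fun z => hG η hη W.left W.hom q h z) z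
      · obtain rfl : q = 1 := by omega
        exact killed_H1_local hη W z)
    ξ fun η hη => hG η hη _ (𝟙 _) (n + 1) (by omega) _
  refine AddMonoid.addOrderOf_eq_one_iff.1 (Nat.dvd_one.1 ?_)
  exact (Nat.dvd_gcd (addOrderOf_dvd_of_nsmul_eq_zero h) (addOrderOf_dvd_of_nsmul_eq_zero hξ)).trans
    (dvd_of_eq (Nat.Coprime.pow_right k (show N.Coprime ℓ from hN)))

end Groth.Agent.EtPic3
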