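import Groth.Agent.Lib.EtPic3.PushTorsion
import Mathlib.Algebra.Group.Submonoid.Operations

/-!
# Cohomology classes killed by a multiplicative set of integers
-/

set_option autoImplicit false
set_option linter.style.haveILetI false
set_option backward.isDefEq.respectTransparency false
set_option backward.isDefEq.respectTransparency.types false
set_option maxHeartbeats 1000000

universe u

open CategoryTheory CategoryTheory.Limits AlgebraicGeometry Opposite CategoryTheory.Abelian

namespace Groth.Agent.EtPic3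

/-- `x` is killed by an element of `P`. -/
def Killed (P : Submonoid ℕ) {A : Type*} [AddCommGroup A] (x : A) : Prop := ∃ N ∈ P, N • x = 0

variable {P : Submonoid ℕ}

theorem killed_zero {A : Type*} [AddCommGroup A] : Killed P (0 : A) := ⟨1, P.one_mem, smul_zero _⟩

theorem Killed.map {A B : Type*} [AddCommGroup A] [AddCommGroup B] (f : A →+ B) {x : A} (h : Killed P x) :
    Killed P (f x) := by
  obtain ⟨N, hN, hx⟩ := h
  exact ⟨N, hN, by rw [← map_nsmul, hx, map_zero]⟩

theorem killed_of_injective {A B : Type*} [AddCommGroup A] [AddCommGroup B] (f : A →+ B)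
    (hf : Function.Injective f) {x : A} (h : Killed P (f x)) : Killed P x := by
  obtain ⟨N, hN, hx⟩ := h
  exact ⟨N, hN, hf (by rw [map_nsmul, hx, map_zero])⟩

theorem killed_of_nsmul {A : Type*} [AddCommGroup A] {x : A} {N : ℕ} (hN : N ∈ P) (h : Killed P (N • x)) :
    Killed P x := by
  obtain ⟨M, hM, hx⟩ := h
  exact ⟨M * N, P.mul_mem hM hN, by rw [mul_nsmul', hx]⟩

theorem killed_add {A : Type*} [AddCommGroup A] {x y : A} (hx : Killed P x) (hy : Killed P y) :
    Killed P (x + y) := by
  obtain ⟨M, hM, hMx⟩ := hx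
  obtain ⟨N, hN, hNy⟩ := hy
  refine ⟨M * N, P.mul_mem hM hN, ?_⟩
  rw [smul_add, mul_nsmul, hMx, mul_nsmul', hNy, smul_zero, smul_zero, add_zero]

theorem killed_sum {A : Type*} [AddCommGroup A] {ι : Type*} (s : Finset ι) (f : ι → A)
    (h : ∀ i ∈ s, Killed P (f i)) : Killed P (∑ i ∈ s, f i) :=
  Finset.sum_induction f (Killed P) (fun _ _ => killed_add) killed_zero h

variable {X : Scheme.{u}} (P) (F : EtCoh.Ab X)

/-- Every section is locally killed by an element of `P`. -/
def IsPTor : Prop :=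
  ∀ (U : X.Etale) (s : EtCoh.sect F U) (x : U.left), ∃ (V : X.Etale) (g : V ⟶ U),
    (∃ v : V.left, g.left.base v = x) ∧ Killed P (F.obj.map g.op s)

/-- The indices of the filtration by killers. -/
structure Idx : Type (u + 1) where
  val : ULift.{u + 1} ℕ
  mem : val.down ∈ P

instance : Preorder (Idx.{u} P) where
  le a b := a.val.down ∣ b.val.down
  le_refl a := dvd_refl _
  le_trans a b c := dvd_trans

instance : Nonempty (Idx.{u} P) := ⟨⟨⟨1⟩, P.one_mem⟩⟩

instance : IsDirectedOrder (Idx.{u} P) :=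
  ⟨fun a b => ⟨⟨⟨a.val.down * b.val.down⟩, P.mul_mem a.mem b.mem⟩, dvd_mul_right _ _, dvd_mul_left _ _⟩⟩

variable {P}

theorem kerN_le {N M : ℕ} (h : N ∣ M) : kernel.ι (N • 𝟙 F) ≫ (M • 𝟙 F) = 0 := by
  obtain ⟨c, rfl⟩ := h
  rw [mul_nsmul, Preadditive.comp_nsmul, kernel.condition, nsmul_zero]

variable (P)

/-- The filtration by killers. -/
noncomputable def pDiag : Idx.{u} P ⥤ EtCoh.Ab X where
  obj m := kernel (m.val.down • 𝟙 F)
  map {m k} h := kernel.lift _ (kernel.ι _) (kerN_le F (leOfHom h : m.val.down ∣ k.val.down))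
  map_id m := equalizer.hom_ext (by simp)
  map_comp f g := equalizer.hom_ext (by simp)

/-- The cocone of the filtration. -/
noncomputable def pCocone : Cocone (pDiag P F) where
  pt := F
  ι := { app := fun m => kernel.ι _
         naturality := fun m k h => by simp [pDiag] }

theorem isIso_pDesc (hF : IsPTor P F) : IsIso (colimit.desc (pDiag P F) (pCocone P F)) := by
  haveI : IsFiltered (Idx.{u} P) := isFiltered_of_directed_le_nonempty _
  haveI : CategoryTheory.IsConnected (Idx.{u} P) := IsFiltered.isConnected _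
  let α : pDiag P F ⟶ (Functor.const _).obj F := (pCocone P F).ι
  haveI : ∀ m, Mono (α.app m) := fun m => inferInstanceAs (Mono (kernel.ι _))
  haveI : Mono α := NatTrans.mono_of_mono_app α
  haveI : Mono (colimit.desc (pDiag P F) (pCocone P F)) :=
    colim.map_mono' α (colimit.isColimit _) (isColimitConstCocone _ _) _ (fun m => by simp [α])
  haveI : Sheaf.IsLocallySurjective (colimit.desc (pDiag P F) (pCocone P F)) := by
    constructor
    intro U s
    rw [EtSite.mem_et_iff]
    intro x
    obtain ⟨V, g, ⟨v, hv⟩, k, hk, hks⟩ := hF U s x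
    refine ⟨V, g, v, ?_, hv⟩
    show ∃ t, (colimit.desc (pDiag P F) (pCocone P F)).hom.app (op V) t = F.obj.map g.op s
    let t₀ := F.obj.map g.op s
    let ev := sheafToPresheaf X.smallEtaleTopology AddCommGrpCat.{u + 1} ⋙ (evaluation _ _).obj (op V)
    haveI : ev.Additive := { }
    have hm : (ev.map (k • 𝟙 F)) t₀ = 0 := by
      rw [Functor.map_nsmul, CategoryTheory.Functor.map_id]
      exact hks
    have hex : (ShortComplex.mk _ _ (kernel.condition (k • 𝟙 F))).Exact :=
      ShortComplex.exact_of_f_is_kernel _ (kernelIsKernel _)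
    have hex' := (hex.map_of_mono_of_preservesKernel ev inferInstance inferInstance)
    rw [ShortComplex.ab_exact_iff] at hex'
    obtain ⟨r, hr⟩ := hex' t₀ hm
    refine ⟨(colimit.ι (pDiag P F) ⟨⟨k⟩, hk⟩).hom.app (op V) r, ?_⟩
    have := ConcreteCategory.congr_hom (congrArg (fun φ => φ.hom.app (op V))
      (colimit.ι_desc (pCocone P F) (⟨⟨k⟩, hk⟩ : Idx.{u} P))) r
    exact this.trans hr
  haveI : Epi (colimit.desc (pDiag P F) (pCocone P F)) :=
    (Sheaf.isLocallySurjective_iff_epi' _ _).1 inferInstance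
  exact isIso_of_mono_of_epi _

/-- Cohomology of a `P`-torsion sheaf is killed by `P`. -/
theorem killed_H [CompactSpace X] [QuasiSeparatedSpace X] (hF : IsPTor P F) (n : ℕ) (x : EtCoh.H X F n) :
    Killed P x := by
  haveI : IsFiltered (Idx.{u} P) := isFiltered_of_directed_le_nonempty _
  haveI := isIso_pDesc P F hF
  let d := colimit.desc (pDiag P F) (pCocone P F)
  obtain ⟨⟨⟨k⟩, hk⟩, y, hy⟩ := (EtColim.surj_inj X n (pDiag P F)).1 (x.comp (Ext.mk₀ (inv d)) (add_zero n))
  have hx : x = y.comp (Ext.mk₀ (kernel.ι (k • 𝟙 F))) (add_zero n) := by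
    have := congrArg (fun z => Ext.comp z (Ext.mk₀ d) (add_zero n)) hy
    simp only [ExtColim.comp_mk₀, d, colimit.ι_desc, IsIso.inv_hom_id] at this
    exact (this.trans (Ext.comp_mk₀_id _)).symm
  refine ⟨k, hk, ?_⟩
  have hz : k • kernel.ι (k • 𝟙 F) = 0 := by
    have h := kernel.condition (k • 𝟙 F)
    rwa [Preadditive.comp_nsmul, Category.comp_id] at h
  rw [hx]
  change k • y.precomp F (add_zero n) (Ext.mk₀ (kernel.ι (k • 𝟙 F))) = 0
  rw [← map_nsmul, show k • Ext.mk₀ (kernel.ι (k • 𝟙 F)) = 0 from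
    ((Ext.addEquiv₀ (X := kernel (k • 𝟙 F)) (Y := F)).symm.toAddMonoidHom.map_nsmul _ _).symm.trans
      ((congrArg Ext.mk₀ hz).trans (Ext.mk₀_zero _ _))]
  exact map_zero _

end Groth.Agent.EtPic3
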