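import Groth.Agent.Lib.EtPic3.Basic
import Groth.Prelude.Def_EtLim
import Mathlib.CategoryTheory.Preadditive.Injective.Basic

/-!
# Unit cocycles become coboundaries in an injective sheaf
-/

set_option autoImplicit false
set_option linter.style.haveILetI false
set_option backward.isDefEq.respectTransparency.types false

universe u

open CategoryTheory CategoryTheory.Limits AlgebraicGeometry Opposite

namespace Groth.Agent.EtPic3

variable {X : Scheme.{u}}

section Pi

variable {ι : Type u} (P : ι → EtCoh.Ab X) (A : X.Etale)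

/-- The sections functor at an object. -/
noncomputable abbrev secAt : EtCoh.Ab X ⥤ Type (u + 1) :=
  sheafToPresheaf _ _ ⋙ (evaluation _ AddCommGrpCat.{u + 1}).obj (op A) ⋙ CategoryTheory.forget _

/-- Sections of a product exist componentwise. -/
theorem exists_pi_section (t : ∀ i, (P i).obj.obj (op A)) :
    ∃ T : (∏ᶜ P : EtCoh.Ab X).obj.obj (op A), ∀ i, (Pi.π P i).hom.app (op A) T = t i := by
  let hc := isLimitOfPreserves (secAt A) (limit.isLimit (Discrete.functor P))
  refine ⟨(Types.isLimitEquivSections hc).symm ⟨fun j => t j.as, ?_⟩, fun i => ?_⟩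
  · intro a b h
    obtain rfl := Discrete.ext (Discrete.eq_of_hom h)
    obtain rfl : h = 𝟙 a := Subsingleton.elim _ _
    simp
  · exact Types.isLimitEquivSections_symm_apply hc _ ⟨i⟩

/-- Sections of a product agree if they agree componentwise. -/
theorem pi_section_ext {T T' : (∏ᶜ P : EtCoh.Ab X).obj.obj (op A)}
    (h : ∀ i, (Pi.π P i).hom.app (op A) T = (Pi.π P i).hom.app (op A) T') : T = T' :=
  Concrete.isLimit_ext (
    Discrete.functor P ⋙ sheafToPresheaf _ _ ⋙ (evaluation _ AddCommGrpCat.{u + 1}).obj (op A))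
    (isLimitOfPreserves (sheafToPresheaf _ _ ⋙ (evaluation _ AddCommGrpCat.{u + 1}).obj (op A))
      (limit.isLimit (Discrete.functor P))) T T' fun j => h j.as

end Pi

theorem GmPush_app {Y : Scheme.{u}} (k : Y ⟶ X) (A : X.Etale) (r : Γ(A.left, ⊤)ˣ) :
    (EtLim.GmPush k).hom.app (op A) (ε A (Additive.ofMul r)) =
      ε (X := Y) ((EtCoh.bc k).obj A) (Additive.ofMul
        (Units.map (pullback.fst A.hom k).appTop.hom.toMonoidHom r)) := rfl

section Godement

variable {ι : Type u} (U : ι → X.Opens)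

/-- The product of the direct images of `G_m` from the opens. -/
noncomputable abbrev godObj : EtCoh.Ab X :=
  ∏ᶜ fun i => (EtCoh.push (U i).ι).obj (EtCoh.Gm (U i).toScheme)

/-- The restriction map to the product of direct images. -/
noncomputable abbrev godMap : EtCoh.Gm X ⟶ godObj U := Pi.lift fun i => EtLim.GmPush (U i).ι

theorem godMap_app (A : X.Etale) (t : (EtCoh.Gm X).obj.obj (op A)) (i : ι) :
    (Pi.π (fun i => (EtCoh.push (U i).ι).obj (EtCoh.Gm (U i).toScheme)) i).hom.app (op A)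
      ((godMap U).hom.app (op A) t) = (EtLim.GmPush (U i).ι).hom.app (op A) t := by
  have h : godMap U ≫ Pi.π _ i = EtLim.GmPush (U i).ι := Pi.lift_π _ _
  conv_rhs => rw [← h]
  rfl

theorem mono_godMap (hU : ∀ x : X, ∃ i, x ∈ U i) : Mono (godMap U) := by
  have hinj : ∀ A : X.Etale, Function.Injective ((godMap U).hom.app (op A)) := fun A a b hab => by
    obtain ⟨a, rfl⟩ := ε_surjective A a
    obtain ⟨b, rfl⟩ := ε_surjective A b
    have hi : ∀ i, Units.map (pullback.fst A.hom (U i).ι).appTop.hom.toMonoidHom (Additive.toMul a) =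
        Units.map (pullback.fst A.hom (U i).ι).appTop.hom.toMonoidHom (Additive.toMul b) := fun i => by
      have h := congrArg ((Pi.π (fun i => (EtCoh.push (U i).ι).obj (EtCoh.Gm (U i).toScheme)) i).hom.app (op A)) hab
      rw [godMap_app, godMap_app] at h
      exact Additive.ofMul.injective (ε_injective ((EtCoh.bc (U i).ι).obj A) h)
    let Z : ι → X.Etale := fun i => Scheme.Etale.mk (pullback.fst A.hom (U i).ι ≫ A.hom)
    let f : ∀ i, Z i ⟶ A := fun i => MorphismProperty.Over.homMk (pullback.fst A.hom (U i).ι) rfl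
    refine sect_ext (EtCoh.Gm X) f (fun y => ?_) fun i => ?_
    · obtain ⟨i, h⟩ := hU (A.hom y)
      obtain ⟨z, hz, -⟩ := Scheme.Pullback.exists_preimage_pullback (f := A.hom) (g := (U i).ι) y ⟨_, h⟩ rfl
      exact ⟨i, z, hz⟩
    · exact congrArg (fun v => ε (Z i) (Additive.ofMul v)) (hi i)
  haveI : Mono (godMap U).hom := by
    haveI : ∀ A, Mono ((godMap U).hom.app A) := fun A =>
      (AddCommGrpCat.mono_iff_injective _).2 (hinj A.unop)
    exact NatTrans.mono_of_mono_app _
  exact (sheafToPresheaf _ _).mono_of_mono_map (inferInstanceAs (Mono (godMap U).hom))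

end Godement

/-- The unit `u` pulled back to `T`, as a section, where `T` lands in `W`. -/
noncomputable abbrev puT {Y : Scheme.{u}} {T : Y.Etale} {W : X.Opens} (h : T.left ⟶ X) (hT : ⊤ ≤ h ⁻¹ᵁ W)
    (u : Γ(X, W)ˣ) : (EtCoh.Gm Y).obj.obj (op T) := ε T (Additive.ofMul (pu h hT u))

theorem map_puT {Y : Scheme.{u}} {S T : Y.Etale} (k : S ⟶ T) {W : X.Opens} (h : T.left ⟶ X)
    (hT : ⊤ ≤ h ⁻¹ᵁ W) (h' : S.left ⟶ X) (e : k.left ≫ h = h') (hS : ⊤ ≤ h' ⁻¹ᵁ W) (u : Γ(X, W)ˣ) :
    (EtCoh.Gm Y).obj.map k.op (puT h hT u) = puT h' hS u := by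
  rw [puT, map_ε]
  exact congrArg (fun v => ε S (Additive.ofMul v)) (pu_comp _ _ _ _ e _ u)

theorem fst_ι_mem {V W : X.Opens} :
    (⊤ : (pullback V.ι W.ι).Opens) ≤ (pullback.fst V.ι W.ι ≫ V.ι) ⁻¹ᵁ (V ⊓ W) := by
  intro z _
  refine ⟨((pullback.fst V.ι W.ι) z).2, ?_⟩
  rw [pullback.condition]
  exact ((pullback.snd V.ι W.ι) z).2

/-- A unit cocycle on an open cover becomes a coboundary in any injective sheaf containing `G_m`. -/
theorem exists_coboundary {I : EtCoh.Ab X} [Injective I] (m₀ : EtCoh.Gm X ⟶ I) {ι : Type u}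
    (U : ι → X.Opens) (hU : ∀ x : X, ∃ i, x ∈ U i) (u : ∀ i j, Γ(X, U i ⊓ U j)ˣ)
    (hu : ∀ i j k,
      Units.map (X.presheaf.map (homOfLE (inf_le_left : U i ⊓ U j ⊓ U k ≤ U i ⊓ U j)).op).hom.toMonoidHom (u i j) *
        Units.map (X.presheaf.map (homOfLE (le_inf (inf_le_left.trans inf_le_right) inf_le_right :
          U i ⊓ U j ⊓ U k ≤ U j ⊓ U k)).op).hom.toMonoidHom (u j k) =
      Units.map (X.presheaf.map (homOfLE (le_inf (inf_le_left.trans inf_le_left) inf_le_right :
          U i ⊓ U j ⊓ U k ≤ U i ⊓ U k)).op).hom.toMonoidHom (u i k)) :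
    ∃ s : ∀ i, I.obj.obj (op (et (U i))), ∀ i j,
      I.obj.map (etHom (inf_le_left : U i ⊓ U j ≤ U i)).op (s i) -
        I.obj.map (etHom (inf_le_right : U i ⊓ U j ≤ U j)).op (s j) = m₀.hom.app _ (εW (u i j)) := by
  haveI := mono_godMap U hU
  have hex : ∀ x, ∃ T : (godObj U).obj.obj (op (et (U x))), ∀ i,
      (Pi.π (fun i => (EtCoh.push (U i).ι).obj (EtCoh.Gm (U i).toScheme)) i).hom.app _ T =
        puT (T := (EtCoh.bc (U i).ι).obj (et (U x))) (pullback.fst (U x).ι (U i).ι ≫ (U x).ι)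
          fst_ι_mem (u x i) := fun x => exists_pi_section _ _ _
  choose e he using hex
  refine ⟨fun x => (Injective.factorThru m₀ (godMap U)).hom.app _ (e x), fun x y => ?_⟩
  have key : (godObj U).obj.map (etHom (inf_le_left : U x ⊓ U y ≤ U x)).op (e x) -
      (godObj U).obj.map (etHom (inf_le_right : U x ⊓ U y ≤ U y)).op (e y) =
        (godMap U).hom.app _ (εW (u x y)) := by
    refine pi_section_ext _ _ fun i => ?_
    let h : ((EtCoh.bc (U i).ι).obj (et (U x ⊓ U y))).left ⟶ X :=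
      pullback.fst (U x ⊓ U y).ι (U i).ι ≫ (U x ⊓ U y).ι
    have hW : ⊤ ≤ h ⁻¹ᵁ (U x ⊓ U y ⊓ U i) := fst_ι_mem
    rw [map_sub, app_natural, app_natural, he, he, godMap_app, εW, GmPush_app]
    have e1 : ((EtCoh.bc (U i).ι).map (etHom (inf_le_left : U x ⊓ U y ≤ U x))).left ≫
        pullback.fst (U x).ι (U i).ι ≫ (U x).ι = h := by
      refine (Category.assoc _ _ _).symm.trans ((congrArg (· ≫ _) (EtCoh.isPullback_bc_map (U i).ι _).w).trans ?_)
      exact (Category.assoc _ _ _).trans (congrArg (_ ≫ ·) (X.homOfLE_ι inf_le_left))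
    have e2 : ((EtCoh.bc (U i).ι).map (etHom (inf_le_right : U x ⊓ U y ≤ U y))).left ≫
        pullback.fst (U y).ι (U i).ι ≫ (U y).ι = h := by
      refine (Category.assoc _ _ _).symm.trans ((congrArg (· ≫ _) (EtCoh.isPullback_bc_map (U i).ι _).w).trans ?_)
      exact (Category.assoc _ _ _).trans (congrArg (_ ≫ ·) (X.homOfLE_ι inf_le_right))
    have hxy : ⊤ ≤ h ⁻¹ᵁ (U x ⊓ U y) := hW.trans (h.preimage_mono inf_le_left)
    have hxi : ⊤ ≤ h ⁻¹ᵁ (U x ⊓ U i) :=
      hW.trans (h.preimage_mono (le_inf (inf_le_left.trans inf_le_left) inf_le_right))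
    have hyi : ⊤ ≤ h ⁻¹ᵁ (U y ⊓ U i) :=
      hW.trans (h.preimage_mono (le_inf (inf_le_left.trans inf_le_right) inf_le_right))
    have hcoc := congrArg (pu h hW) (hu x y i)
    rw [map_mul, pu_res _ h hW hxy, pu_res _ h hW hyi, pu_res _ h hW hxi] at hcoc
    have hfin : puT (Y := (U i).toScheme) (T := (EtCoh.bc (U i).ι).obj (et (U x ⊓ U y))) h hxi (u x i) -
        puT h hyi (u y i) = puT h hxy (u x y) := by
      rw [sub_eq_iff_eq_add, puT, puT, puT, ← hcoc, ← map_add, ← ofMul_mul]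
    refine Eq.trans ?_ (hfin.trans ?_)
    · exact congrArg₂ (· - ·) (map_puT _ _ fst_ι_mem h e1 hxi (u x i)) (map_puT _ _ fst_ι_mem h e2 hyi (u y i))
    · exact congrArg (fun v => ε (X := (U i).toScheme) _ (Additive.ofMul v))
        (pu_comp (pullback.fst (U x ⊓ U y).ι (U i).ι) (U x ⊓ U y).ι (top_le_ι _) h rfl hxy (u x y)).symm
  rw [← app_natural, ← app_natural, ← map_sub, key]
  have hc : godMap U ≫ Injective.factorThru m₀ (godMap U) = m₀ := Injective.comp_factorThru _ _
  conv_rhs => rw [← hc]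
  rfl

end Groth.Agent.EtPic3
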