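import Groth.Agent.Lib.EtPic3.Connect
import Groth.Agent.Lib.EtPic3.Inject
import Groth.Agent.Lib.PicH1_21.Natural

/-!
# Comparison of `H¹_et(X, G_m)` with `H¹(X, O^×)` by Čech cocycles
-/

set_option autoImplicit false
set_option linter.style.haveILetI false
set_option backward.isDefEq.respectTransparency false

universe u

open CategoryTheory CategoryTheory.Limits AlgebraicGeometry Opposite TopologicalSpace

noncomputable section

namespace Groth.Agent.EtPic3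

open Groth.Agent.PicH1_21 (QSec GSec gu gres qres)

variable {X : Scheme.{u}}

/-- Restriction of units between opens. -/
abbrev rU {V W : X.Opens} (h : V ≤ W) : Γ(X, W)ˣ →* Γ(X, V)ˣ :=
  Units.map (X.presheaf.map (homOfLE h).op).hom.toMonoidHom

theorem gu_rU {V W : X.Opens} (h : V ≤ W) (r : Γ(X, W)ˣ) (y : V) :
    gu V y (rU h r) = gu W ⟨y.1, h y.2⟩ r := PicH1_21.gu_res (homOfLE h) r y

theorem unit_ext {W : X.Opens} {r r' : Γ(X, W)ˣ} (h : ∀ y : W, gu W y r = gu W y r') : r = r' :=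
  Units.ext (TopCat.Presheaf.section_ext X.sheaf W _ _ fun y hy => congrArg Units.val (h ⟨y, hy⟩))

/-- Restriction of sections between opens. -/
abbrev rF (F : EtCoh.Ab X) {V W : X.Opens} (h : V ≤ W) : F.obj.obj (op (et W)) →+ F.obj.obj (op (et V)) :=
  (F.obj.map (etHom h).op).hom

theorem rF_rF (F : EtCoh.Ab X) {T V W : X.Opens} (h : V ≤ W) (h' : T ≤ V) (t : F.obj.obj (op (et W))) :
    rF F h' (rF F h t) = rF F (h'.trans h) t :=
  (map_map F _ _ t).trans (map_eq_map F (hom_ext_et _ _) t)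

/-- Restriction of global sections. -/
abbrev rTop (F : EtCoh.Ab X) (W : X.Opens) : F.obj.obj (op (EtCoh.top X)) →+ F.obj.obj (op (et W)) :=
  (F.obj.map (toTop (et W)).op).hom

theorem rF_rTop (F : EtCoh.Ab X) {V W : X.Opens} (h : V ≤ W) (t : F.obj.obj (op (EtCoh.top X))) :
    rF F h (rTop F W t) = rTop F V t :=
  (map_map F _ _ t).trans (map_eq_map F (hom_ext_top _ _) t)

/-- A unit as a section of the injective sheaf. -/
abbrev mU {W : X.Opens} (r : Γ(X, W)ˣ) : (seq X).X₂.obj.obj (op (et W)) :=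
  (seq X).f.hom.app (op (et W)) (εW r)

theorem rF_mU {V W : X.Opens} (h : V ≤ W) (r : Γ(X, W)ˣ) :
    rF (seq X).X₂ h (mU r) = mU (rU h r) := by
  refine (app_natural (seq X).f (etHom h) (εW r)).symm.trans ?_
  exact congrArg _ (map_εW h r)

theorem mU_mul {W : X.Opens} (r r' : Γ(X, W)ˣ) : mU (r * r') = mU r + mU r' := by
  rw [mU, εW_mul]
  exact map_add _ _ _

theorem mU_injective {W : X.Opens} : Function.Injective (mU (W := W)) :=
  (app_injective (seq X).f (et W)).comp (εW_bijective W).1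

theorem g_mU {W : X.Opens} (r : Γ(X, W)ˣ) : (seq X).g.hom.app _ (mU r) = 0 := by
  show ((seq X).f ≫ (seq X).g).hom.app _ (εW r) = 0
  rw [(seq X).zero]
  rfl

theorem g_rF {V W : X.Opens} (h : V ≤ W) (t : (seq X).X₂.obj.obj (op (et W))) :
    (seq X).g.hom.app _ (rF (seq X).X₂ h t) = rF (seq X).X₃ h ((seq X).g.hom.app _ t) :=
  app_natural _ _ _

theorem exists_mU {W : X.Opens} (t : (seq X).X₂.obj.obj (op (et W))) (h : (seq X).g.hom.app _ t = 0) :
    ∃ r, mU r = t := by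
  obtain ⟨v, hv⟩ := seq_exact_app _ t h
  obtain ⟨r, rfl⟩ := (εW_bijective W).2 v
  exact ⟨r, hv⟩

/-- Common Čech data of a section of the étale quotient and of the Zariski quotient. -/
structure Data (q : (seq X).X₃.obj.obj (op (EtCoh.top X))) (q' : QSec (𝟙 X) ⊤) where
  ι : Type u
  U : ι → X.Opens
  cover : ∀ x : X, ∃ i, x ∈ U i
  s : ∀ i, (seq X).X₂.obj.obj (op (et (U i)))
  g : ∀ i, GSec (𝟙 X) (U i)
  unit : ∀ i j, Γ(X, U i ⊓ U j)ˣ
  hs : ∀ i, (seq X).g.hom.app _ (s i) = rTop (seq X).X₃ (U i) q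
  hg : ∀ i, PicH1_21.π (𝟙 X) (U i) (g i) = qres (𝟙 X) le_top q'
  hsu : ∀ i j, rF (seq X).X₂ inf_le_left (s i) - rF (seq X).X₂ inf_le_right (s j) = mU (unit i j)
  hgu : ∀ i j (y : X) (hi : y ∈ U i) (hj : y ∈ U j),
    g i ⟨y, hi⟩ = Additive.ofMul (gu (U i ⊓ U j) ⟨y, ⟨hi, hj⟩⟩ (unit i j)) + g j ⟨y, hj⟩

/-- The two sections have common Čech data. -/
def Rel (q : (seq X).X₃.obj.obj (op (EtCoh.top X))) (q' : QSec (𝟙 X) ⊤) : Prop := Nonempty (Data q q')

theorem rel_add {q₁ q₂} {q₁' q₂' : QSec (𝟙 X) ⊤} (h₁ : Rel q₁ q₁') (h₂ : Rel q₂ q₂') :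
    Rel (q₁ + q₂) (q₁' + q₂') := by
  obtain ⟨a⟩ := h₁
  obtain ⟨b⟩ := h₂
  refine ⟨{
    ι := a.ι × b.ι
    U := fun p => a.U p.1 ⊓ b.U p.2
    cover := fun x => by
      obtain ⟨i, hi⟩ := a.cover x
      obtain ⟨k, hk⟩ := b.cover x
      exact ⟨(i, k), hi, hk⟩
    s := fun p => rF _ inf_le_left (a.s p.1) + rF _ inf_le_right (b.s p.2)
    g := fun p => gres (𝟙 X) inf_le_left (a.g p.1) + gres (𝟙 X) inf_le_right (b.g p.2)
    unit := fun p p' => rU (le_inf (inf_le_left.trans inf_le_left) (inf_le_right.trans inf_le_left)) (a.unit p.1 p'.1) *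
      rU (le_inf (inf_le_left.trans inf_le_right) (inf_le_right.trans inf_le_right)) (b.unit p.2 p'.2)
    hs := fun p => ?_
    hg := fun p => ?_
    hsu := fun p p' => ?_
    hgu := fun p p' y hi hj => ?_ }⟩
  · rw [map_add, g_rF, g_rF, a.hs, b.hs, rF_rTop, rF_rTop, ← map_add]
  · rw [map_add, ← PicH1_21.qres_π, ← PicH1_21.qres_π, a.hg, b.hg, PicH1_21.qres_qres, PicH1_21.qres_qres,
      ← map_add]
  · rw [mU_mul, ← rF_mU, ← rF_mU, ← a.hsu, ← b.hsu]
    simp only [map_sub, map_add, rF_rF]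
    abel
  · rw [map_mul, gu_rU, gu_rU, ofMul_mul]
    show a.g p.1 ⟨y, hi.1⟩ + b.g p.2 ⟨y, hi.2⟩ = _ + (a.g p'.1 ⟨y, hj.1⟩ + b.g p'.2 ⟨y, hj.2⟩)
    rw [a.hgu p.1 p'.1 y hi.1 hj.1, b.hgu p.2 p'.2 y hi.2 hj.2]
    abel

theorem rel_eq_zero_iff {q : (seq X).X₃.obj.obj (op (EtCoh.top X))} {q' : QSec (𝟙 X) ⊤} (h : Rel q q') :
    Λ q = 0 ↔ PicH1_21.δ (𝟙 X) q' = 0 := by
  obtain ⟨d⟩ := h
  rw [Λ_eq_zero_iff, PicH1_21.δ_eq_zero_iff]
  constructor
  · rintro ⟨S, hS⟩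
    have ha : ∀ i, ∃ r, mU r = d.s i - rTop _ (d.U i) S := fun i => exists_mU _ (by
      rw [map_sub, d.hs, app_natural, hS, sub_self])
    choose r hr using ha
    have hu : ∀ i j, rU inf_le_left (r i) = d.unit i j * rU inf_le_right (r j) := fun i j => mU_injective (by
      rw [mU_mul, ← d.hsu, ← rF_mU, ← rF_mU, hr, hr, map_sub, map_sub, rF_rTop, rF_rTop]
      abel)
    choose i hi using d.cover
    let G : GSec (𝟙 X) ⊤ := fun z => d.g (i z.1) ⟨z.1, hi z.1⟩ - Additive.ofMul (gu (d.U (i z.1)) ⟨z.1, hi z.1⟩ (r (i z.1)))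
    refine ⟨G, PicH1_21.q_ext (𝟙 X) d.U (fun _ => le_top) (fun z _ => Opens.mem_iSup.2 (d.cover z)) fun k => ?_⟩
    have hk : d.g k = fun y => Additive.ofMul (gu (d.U k) y (r k)) + gres (𝟙 X) le_top G y := funext fun y => by
      have h1 := congrArg (fun w => Additive.ofMul (gu (d.U k ⊓ d.U (i y.1)) ⟨y.1, ⟨y.2, hi y.1⟩⟩ w)) (hu k (i y.1))
      simp only [map_mul, gu_rU, ofMul_mul] at h1
      show d.g k y = _ + (d.g (i y.1) ⟨y.1, hi y.1⟩ - _)
      rw [d.hgu k (i y.1) y.1 y.2 (hi y.1)]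
      erw [h1]
      abel
    rw [PicH1_21.qres_π, ← d.hg k, hk]
    exact (PicH1_21.π_units (𝟙 X) (r k) _).symm
  · rintro ⟨G, hG⟩
    have ha : ∀ i, ∃ r : Γ(X, d.U i)ˣ, ∀ y, d.g i y = Additive.ofMul (gu (d.U i) y r) + gres (𝟙 X) le_top G y :=
      fun i => PicH1_21.exists_unit_of_π_eq (𝟙 X) (by rw [← PicH1_21.qres_π, hG, d.hg i])
    choose r hr using ha
    have hu : ∀ i j, rU inf_le_left (r i) = d.unit i j * rU inf_le_right (r j) := fun i j => unit_ext fun y => by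
      apply Additive.ofMul.injective
      rw [map_mul, ofMul_mul, gu_rU, gu_rU]
      have h1 := d.hgu i j y.1 y.2.1 y.2.2
      rw [hr, hr, ← add_assoc] at h1
      exact add_right_cancel h1
    obtain ⟨S, hS⟩ := glue_opens_top (seq X).X₂ d.U d.cover (fun i => d.s i - mU (r i)) fun i j => by
      show rF _ inf_le_left (d.s i - mU (r i)) = rF _ inf_le_right (d.s j - mU (r j))
      rw [map_sub, map_sub, rF_mU, rF_mU, hu, mU_mul, ← d.hsu i j]
      abel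
    refine ⟨S, ext_opens_top _ d.U d.cover fun i => ?_⟩
    rw [← app_natural, hS i, map_sub, d.hs, g_mU, sub_zero]

theorem exists_rel_left (q : (seq X).X₃.obj.obj (op (EtCoh.top X))) : ∃ q', Rel q q' := by
  choose U hx s hs using seq_lift_local q
  have hd : ∀ i j : X, ∃ r, mU r = rF (seq X).X₂ (inf_le_left : U i ⊓ U j ≤ U i) (s i) -
      rF (seq X).X₂ (inf_le_right : U i ⊓ U j ≤ U j) (s j) := fun i j => exists_mU _ (by
    rw [map_sub, g_rF, g_rF, hs, hs]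
    show rF _ _ (rTop _ _ q) - rF _ _ (rTop _ _ q) = 0
    rw [rF_rTop, rF_rTop, sub_self])
  choose r hr using hd
  have hc : ∀ i j k : X, rU (inf_le_left : U i ⊓ U j ⊓ U k ≤ U i ⊓ U j) (r i j) *
      rU (le_inf (inf_le_left.trans inf_le_right) inf_le_right : U i ⊓ U j ⊓ U k ≤ U j ⊓ U k) (r j k) =
      rU (le_inf (inf_le_left.trans inf_le_left) inf_le_right : U i ⊓ U j ⊓ U k ≤ U i ⊓ U k) (r i k) :=
    fun i j k => mU_injective (by
      rw [mU_mul, ← rF_mU, ← rF_mU, ← rF_mU, hr, hr, hr]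
      simp only [map_sub, rF_rF]
      abel)
  let g : ∀ i : X, GSec (𝟙 X) (U i) := fun i y => Additive.ofMul (gu (U i ⊓ U y.1) ⟨y.1, ⟨y.2, hx y.1⟩⟩ (r i y.1))
  have hgu : ∀ (i j : X) (y : X) (hi : y ∈ U i) (hj : y ∈ U j),
      g i ⟨y, hi⟩ = Additive.ofMul (gu (U i ⊓ U j) ⟨y, ⟨hi, hj⟩⟩ (r i j)) + g j ⟨y, hj⟩ := fun i j y hi hj => by
    have h1 := congrArg (fun w => Additive.ofMul (gu (U i ⊓ U j ⊓ U y) ⟨y, ⟨⟨hi, hj⟩, hx y⟩⟩ w)) (hc i j y)
    dsimp only at h1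
    rw [map_mul, ofMul_mul] at h1
    erw [gu_rU, gu_rU, gu_rU] at h1
    exact h1.symm
  obtain ⟨q', hq'⟩ := PicH1_21.q_glue (𝟙 X) U (fun _ => le_top) (fun z _ => Opens.mem_iSup.2 ⟨z, hx z⟩)
    (fun i => PicH1_21.π (𝟙 X) (U i) (g i)) fun i j => by
      rw [PicH1_21.qres_π, PicH1_21.qres_π,
        show gres (𝟙 X) (inf_le_left : U i ⊓ U j ≤ U i) (g i) = fun y =>
          Additive.ofMul (gu (U i ⊓ U j) y (r i j)) + gres (𝟙 X) (inf_le_right : U i ⊓ U j ≤ U j) (g j) y from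
        funext fun y => hgu i j y.1 y.2.1 y.2.2]
      exact PicH1_21.π_units (𝟙 X) (D := U i ⊓ U j) (r i j) _
  exact ⟨q', ⟨{
    ι := X
    U := U
    cover := fun x => ⟨x, hx x⟩
    s := s
    g := g
    unit := r
    hs := hs
    hg := fun i => (hq' i).symm
    hsu := fun i j => (hr i j).symm
    hgu := hgu }⟩⟩

theorem exists_rel_right (q' : QSec (𝟙 X) ⊤) : ∃ q, Rel q q' := by
  choose U hU hx g hg using fun x : X => PicH1_21.exists_lift (𝟙 X) q' (show x ∈ (⊤ : X.Opens) from trivial)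
  have hd : ∀ i j : X, ∃ r : Γ(X, U i ⊓ U j)ˣ, ∀ y : (U i ⊓ U j : X.Opens),
      g i ⟨y.1, y.2.1⟩ = Additive.ofMul (gu (U i ⊓ U j) y r) + g j ⟨y.1, y.2.2⟩ := fun i j => by
    have h : PicH1_21.π (𝟙 X) (U i ⊓ U j) (gres (𝟙 X) inf_le_right (g j)) =
        PicH1_21.π (𝟙 X) (U i ⊓ U j) (gres (𝟙 X) inf_le_left (g i)) := by
      rw [← PicH1_21.qres_π, ← PicH1_21.qres_π, hg, hg, PicH1_21.qres_qres, PicH1_21.qres_qres]
    exact PicH1_21.exists_unit_of_π_eq (𝟙 X) h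
  choose r hr using hd
  have hcov : ∀ x : X, ∃ i, x ∈ U i := fun x => ⟨x, hx x⟩
  obtain ⟨s, hs⟩ := exists_coboundary (seq X).f U hcov r fun i j k => unit_ext fun y => by
    apply Additive.ofMul.injective
    rw [map_mul, ofMul_mul]
    show Additive.ofMul (gu _ y (rU _ _)) + Additive.ofMul (gu _ y (rU _ _)) = Additive.ofMul (gu _ y (rU _ _))
    rw [gu_rU, gu_rU, gu_rU]
    have h1 := hr i j ⟨y.1, ⟨y.2.1.1, y.2.1.2⟩⟩
    have h2 := hr j k ⟨y.1, ⟨y.2.1.2, y.2.2⟩⟩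
    have h3 := hr i k ⟨y.1, ⟨y.2.1.1, y.2.2⟩⟩
    rw [h2, h3, ← add_assoc] at h1
    exact (add_right_cancel h1).symm
  obtain ⟨q, hq⟩ := glue_opens_top (seq X).X₃ U hcov (fun i => (seq X).g.hom.app _ (s i)) fun i j => by
    rw [← app_natural, ← app_natural, ← sub_eq_zero, ← map_sub, hs i j]
    exact g_mU (r i j)
  exact ⟨q, ⟨{
    ι := X
    U := U
    cover := hcov
    s := s
    g := g
    unit := r
    hs := fun i => (hq i).symm
    hg := hg
    hsu := hs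
    hgu := fun i j y hi hj => hr i j ⟨y, hi, hj⟩ }⟩⟩

/-- An additive relation compatible with two surjections gives an isomorphism. -/
theorem nonempty_addEquiv_of_rel {P P' H H' : Type*} [AddCommGroup P] [AddCommGroup P'] [AddCommGroup H]
    [AddCommGroup H'] (R : P → P' → Prop) (a : P →+ H) (b : P' →+ H') (ha : Function.Surjective a)
    (hb : Function.Surjective b) (hl : ∀ p, ∃ p', R p p') (hr : ∀ p', ∃ p, R p p')
    (hadd : ∀ {p q p' q'}, R p p' → R q q' → R (p + q) (p' + q'))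
    (h0 : ∀ {p p'}, R p p' → (a p = 0 ↔ b p' = 0)) : Nonempty (H ≃+ H') := by
  have well : ∀ {p p' q q'}, R p p' → R q q' → (a p = a q ↔ b p' = b q') := fun {p p' q q'} h h' => by
    obtain ⟨n', hn⟩ := hl (-q)
    have e1 := h0 (hadd h hn)
    have e2 := h0 (hadd h' hn)
    rw [map_add, map_add, map_neg, add_neg_cancel, eq_self_iff_true, true_iff] at e2
    rw [map_add, map_add, map_neg, ← sub_eq_add_neg, sub_eq_zero, eq_neg_of_add_eq_zero_right e2,
      ← sub_eq_add_neg, sub_eq_zero] at e1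
    exact e1
  choose p hp using ha
  choose r hrp using fun h => hl (p h)
  let φ : H →+ H' := AddMonoidHom.mk' (fun h => b (r h)) fun x y => by
    rw [← map_add]
    exact (well (hrp _) (hadd (hrp x) (hrp y))).1 (by rw [map_add, hp, hp, hp])
  refine ⟨AddEquiv.ofBijective φ ⟨fun x y hxy => ?_, fun h' => ?_⟩⟩
  · rw [← hp x, ← hp y]
    exact (well (hrp x) (hrp y)).2 hxy
  · obtain ⟨p', rfl⟩ := hb h'
    obtain ⟨q, hq⟩ := hr p'
    exact ⟨a q, (well (hrp _) hq).1 (hp _)⟩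

variable (X) in
/-- `H¹_et(X, G_m) ≅ H¹(X, O^×)`. -/
theorem nonempty_addEquiv_H1 : Nonempty (EtCoh.H X (EtCoh.Gm X) 1 ≃+ PicH1_21.H1 (𝟙 X)) :=
  nonempty_addEquiv_of_rel Rel Λ (PicH1_21.δ (𝟙 X)) Λ_surjective (PicH1_21.δ_surjective (𝟙 X))
    exists_rel_left exists_rel_right rel_add rel_eq_zero_iff

end Groth.Agent.EtPic3
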