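import Groth.Agent.Lib.EtPic3.Local
import Groth.Prelude.Def_EtCore
import Mathlib.Algebra.Homology.DerivedCategory.Ext.ExactSequences

/-!
# The connecting map of the injective presentation of `G_m`
-/

set_option autoImplicit false
set_option linter.style.haveILetI false
set_option backward.isDefEq.respectTransparency.types false

universe u

open CategoryTheory CategoryTheory.Limits AlgebraicGeometry Opposite CategoryTheory.Abelian

namespace Groth.Agent.EtPic3

variable (X : Scheme.{u})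

/-- `0 → G_m → I → Q → 0` with `I` injective. -/
noncomputable def seq : ShortComplex (EtCoh.Ab X) :=
  ShortComplex.mk (Injective.ι (EtCoh.Gm X)) (cokernel.π (Injective.ι (EtCoh.Gm X))) (cokernel.condition _)

instance : Injective (seq X).X₂ := inferInstanceAs (Injective (Injective.under _))

instance : Mono (seq X).f := inferInstanceAs (Mono (Injective.ι _))

instance : Epi (seq X).g := inferInstanceAs (Epi (cokernel.π _))

theorem seq_shortExact : (seq X).ShortExact := { exact := ShortComplex.exact_cokernel _ }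

variable {X}

/-- A section killed by the quotient map is a unit. -/
theorem seq_exact_app (V : X.Etale) (t : (seq X).X₂.obj.obj (op V)) (h : (seq X).g.hom.app _ t = 0) :
    ∃ u, (seq X).f.hom.app (op V) u = t := by
  let G := sheafToPresheaf X.smallEtaleTopology AddCommGrpCat.{u + 1} ⋙
    (evaluation _ AddCommGrpCat.{u + 1}).obj (op V)
  haveI : G.Additive := { }
  haveI : PreservesFiniteLimits G := inferInstance
  exact (ShortComplex.ab_exact_iff _).1
    ((seq_shortExact X).exact.map_of_mono_of_preservesKernel G (seq_shortExact X).mono_f inferInstance) t h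

/-- Quotient sections lift Zariski locally. -/
theorem seq_lift_local (q : (seq X).X₃.obj.obj (op (EtCoh.top X))) (x : X) :
    ∃ U : X.Opens, x ∈ U ∧ ∃ S : (seq X).X₂.obj.obj (op (et U)),
      (seq X).g.hom.app _ S = (seq X).X₃.obj.map (toTop (et U)).op q :=
  haveI : @Mono (EtCoh.Ab X) _ (EtCoh.Gm X) (seq X).X₂ (seq X).f := inferInstanceAs (Mono (seq X).f)
  exists_lift_local (seq X).f (seq X).g (seq X).zero seq_exact_app q x

/-- The additive function `ψ` attached to a global section. -/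
noncomputable def secHom (F : EtCoh.Ab X) : F.obj.obj (op (EtCoh.top X)) ≃+
    ((constantSheaf X.smallEtaleTopology AddCommGrpCat.{u + 1}).obj
      (AddCommGrpCat.of (ULift.{u + 1} ℤ)) ⟶ F) :=
  (Ext.addEquiv₀.symm.trans (Sheaf.H.equiv₀ F (EtCore.topIsTerminal X))).symm

/-- The connecting map. -/
noncomputable def Λ : (seq X).X₃.obj.obj (op (EtCoh.top X)) →+ EtCoh.H X (EtCoh.Gm X) 1 :=
  AddMonoidHom.mk'
    (fun q => ((Sheaf.H.equiv₀ (seq X).X₃ (EtCore.topIsTerminal X)).symm q).comp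
      (seq_shortExact X).extClass (zero_add 1))
    fun a b => by rw [map_add]; exact Ext.add_comp _ _ _ _

theorem Λ_surjective : Function.Surjective (Λ (X := X)) := fun c => by
  obtain ⟨y, hy⟩ := Ext.covariant_sequence_exact₁ _ (seq_shortExact X) c (Ext.eq_zero_of_injective _) (n₀ := 0) rfl
  refine ⟨Sheaf.H.equiv₀ (seq X).X₃ (EtCore.topIsTerminal X) y, ?_⟩
  exact (congrArg (fun z : EtCoh.H X (seq X).X₃ 0 => z.comp (seq_shortExact X).extClass (zero_add 1))
    (AddEquiv.symm_apply_apply _ y)).trans hy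

theorem Λ_eq_zero_iff (q : (seq X).X₃.obj.obj (op (EtCoh.top X))) :
    Λ q = 0 ↔ ∃ s, (seq X).g.hom.app _ s = q := by
  constructor
  · intro h
    obtain ⟨y, hy⟩ := Ext.covariant_sequence_exact₃ _ (seq_shortExact X) _ (n₁ := 1) rfl h
    refine ⟨Sheaf.H.equiv₀ (seq X).X₂ (EtCore.topIsTerminal X) y, ?_⟩
    rw [Sheaf.H.equiv₀_naturality, Sheaf.H.map_apply, hy, AddEquiv.apply_symm_apply]
  · rintro ⟨s, rfl⟩
    show ((Sheaf.H.equiv₀ _ _).symm _).comp (seq_shortExact X).extClass (zero_add 1) = 0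
    rw [← Sheaf.H.equiv₀_symm_naturality, Sheaf.H.map_apply]
    refine (Ext.comp_assoc_of_second_deg_zero _ _ _ (zero_add 1)).trans ?_
    rw [(seq_shortExact X).comp_extClass, Ext.comp_zero]

/-- The value of a morphism out of the constant sheaf. -/
noncomputable def evalOne {F : EtCoh.Ab X}
    (f : (constantSheaf X.smallEtaleTopology AddCommGrpCat.{u + 1}).obj (AddCommGrpCat.of (ULift.{u + 1} ℤ)) ⟶ F) :
    F.obj.obj (op (EtCoh.top X)) :=
  (EtCore.constAdj X).homEquiv _ _ f ⟨1⟩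

theorem evalOne_mk₀ (q : (seq X).X₃.obj.obj (op (EtCoh.top X))) :
    ∃ f, (Sheaf.H.equiv₀ (seq X).X₃ (EtCore.topIsTerminal X)).symm q = Ext.mk₀ f ∧ evalOne f = q := by
  obtain ⟨f, hf⟩ := (Ext.mk₀_bijective _ _).2 ((Sheaf.H.equiv₀ (seq X).X₃ (EtCore.topIsTerminal X)).symm q)
  refine ⟨f, hf.symm, ?_⟩
  have h := congrArg (Sheaf.H.equiv₀ (seq X).X₃ (EtCore.topIsTerminal X)) hf
  rw [AddEquiv.apply_symm_apply] at h
  rw [← h]
  simp only [Sheaf.H.equiv₀, AddEquiv.trans_apply]
  rw [show Ext.addEquiv₀ (Ext.mk₀ f) = f from Ext.addEquiv₀.apply_symm_apply f]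
  rfl

theorem evalOne_injective {F : EtCoh.Ab X} : Function.Injective (evalOne (F := F)) := fun f f' h => by
  apply ((EtCore.constAdj X).homEquiv _ _).injective
  ext ⟨n⟩
  have hn : (⟨n⟩ : ULift.{u + 1} ℤ) = n • ⟨1⟩ := ULift.ext _ _ (by simp)
  rw [hn, map_zsmul, map_zsmul]
  exact congrArg (n • ·) h

theorem evalOne_comp {F G : EtCoh.Ab X}
    (f : (constantSheaf X.smallEtaleTopology AddCommGrpCat.{u + 1}).obj (AddCommGrpCat.of (ULift.{u + 1} ℤ)) ⟶ F)
    (φ : F ⟶ G) : evalOne (f ≫ φ) = φ.hom.app _ (evalOne f) := by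
  unfold evalOne
  rw [Adjunction.homEquiv_naturality_right]
  rfl

theorem evalOne_surjective {F : EtCoh.Ab X} (a : F.obj.obj (op (EtCoh.top X))) : ∃ f, evalOne f = a := by
  let e : AddCommGrpCat.of (ULift.{u + 1} ℤ) ⟶ (EtCore.gsec X).obj F :=
    AddCommGrpCat.ofHom ((zmultiplesHom _ a).comp AddEquiv.ulift.toAddMonoidHom)
  refine ⟨((EtCore.constAdj X).homEquiv _ _).symm e, ?_⟩
  rw [evalOne, Equiv.apply_symm_apply]
  show (1 : ℤ) • a = a
  rw [one_smul]

theorem evalOne_pullConst {Y : Scheme.{u}} (j : Y ⟶ X) {F : EtCoh.Ab X}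
    (f : EtCoh.const X ℤ ⟶ F) :
    evalOne ((EtCore.pullConst j ℤ).inv ≫ (EtCoh.pull j).map f) =
      ((EtCoh.pull j).obj F).obj.map (EtCore.bcTopIso j).inv.op
        (((EtCoh.pullPushAdj j).unit.app F).hom.app (op (EtCoh.top X)) (evalOne f)) := by
  let A1 := ((EtCore.constAdj X).comp (EtCoh.pullPushAdj j)).ofNatIsoRight (EtCore.pushGsecIso j)
  let M := AddCommGrpCat.of (ULift.{u + 1} ℤ)
  have h1 : (EtCore.constAdj Y).homEquiv _ _ ((EtCore.pullConst j ℤ).inv ≫ (EtCoh.pull j).map f) =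
      A1.homEquiv M _ ((EtCoh.pull j).map f) := by
    have h : (EtCore.constAdj Y).homEquiv M _ (EtCore.pullConst j ℤ).inv = A1.unit.app M :=
      Adjunction.homEquiv_leftAdjointUniq_hom_app (EtCore.constAdj Y) A1 M
    rw [Adjunction.homEquiv_naturality_right, h, A1.homEquiv_unit]
  unfold evalOne
  rw [h1, Adjunction.homEquiv_ofNatIsoRight_apply, Adjunction.comp_homEquiv]
  have h2 : (EtCoh.pullPushAdj j).homEquiv _ _ ((EtCoh.pull j).map f) = f ≫ (EtCoh.pullPushAdj j).unit.app F := by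
    rw [Adjunction.homEquiv_unit]
    exact (EtCoh.pullPushAdj j).unit_naturality f
  rw [Equiv.trans_apply, h2, Adjunction.homEquiv_naturality_right]
  rfl

/-- Classes of `H¹(G_m)` die Zariski locally. -/
theorem exists_open_Hpull_eq_zero (c : EtCoh.H X (EtCoh.Gm X) 1) (x : X) :
    ∃ U : X.Opens, x ∈ U ∧
      ∀ [PreservesFiniteLimits (EtCoh.pull U.ι)], EtCore.Hpull U.ι (EtCoh.Gm X) 1 c = 0 := by
  obtain ⟨q, rfl⟩ := Λ_surjective c
  obtain ⟨U, hx, S, hS⟩ := seq_lift_local q x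
  refine ⟨U, hx, fun {_} => ?_⟩
  obtain ⟨f, hf, hfq⟩ := evalOne_mk₀ q
  let η := (EtCoh.pullPushAdj U.ι).unit
  let P := EtCoh.pull U.ι
  let k : EtCoh.top U.toScheme ⟶ (EtCoh.bc U.ι).obj (et U) :=
    MorphismProperty.Over.homMk (pullback.lift (𝟙 _) (𝟙 _) rfl) (pullback.lift_snd _ _ _)
  obtain ⟨φ, hφ⟩ := evalOne_surjective ((P.obj (seq X).X₂).obj.map k.op ((η.app (seq X).X₂).hom.app _ S))
  have hfac : (EtCore.pullConst U.ι ℤ).inv ≫ P.map f = φ ≫ P.map (seq X).g := by
    apply evalOne_injective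
    rw [evalOne_pullConst, evalOne_comp, hφ, hfq, app_natural]
    have hn : (P.map (seq X).g).hom.app _ ((η.app (seq X).X₂).hom.app (op (et U)) S) =
        (η.app (seq X).X₃).hom.app (op (et U)) ((seq X).g.hom.app _ S) :=
      (congr(($(η.naturality (seq X).g)).hom.app (op (et U)) S)).symm
    erw [hn, hS, app_natural]
    exact (map_eq_map _ ((EtCore.bcTopIsTerminal U.ι).hom_ext _ _) _).trans
      (map_map (P.obj (seq X).X₃) k ((EtCoh.bc U.ι).map (toTop (et U))) _).symm
  show (Ext.mk₀ (EtCore.pullConst U.ι ℤ).inv).comp ((((Sheaf.H.equiv₀ (seq X).X₃ (EtCore.topIsTerminal X)).symm q).comp (seq_shortExact X).extClass (zero_add 1)).mapExactFunctor P) (zero_add 1) = 0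
  rw [hf, Ext.mapExactFunctor_comp, Ext.mapExactFunctor_mk₀, Ext.mapExactFunctor_extClass]
  erw [Ext.mk₀_comp_mk₀_assoc, hfac, ← Ext.mk₀_comp_mk₀_assoc,
    ((seq_shortExact X).map_of_exact P).comp_extClass, Ext.comp_zero]

end Groth.Agent.EtPic3
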