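import Groth.Agent.Lib.EtFlasque24.Push
import Groth.Agent.Lib.EtStalk.HofPush
import Groth.Agent.Lib.EtPic3.Connect
import Groth.Agent.Lib.EtField24.Coprod
import Groth.Prelude.Def_Dix

/-!
# `G_m` pushed forward from a point
-/

set_option autoImplicit false
set_option linter.style.haveILetI false
set_option backward.isDefEq.respectTransparency false
set_option backward.isDefEq.respectTransparency.types false
set_option maxHeartbeats 1000000

universe u

open CategoryTheory CategoryTheory.Limits AlgebraicGeometry Opposite CategoryTheory.Abelian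
open Groth.Agent.EtStalk

namespace Groth.Agent.EtPic3

variable {X Y : Scheme.{u}}

/-- An étale scheme over a field is discrete. -/
theorem discreteTopology_of_etale_field {κ : Type u} [Field κ] {U : Scheme.{u}}
    (φ : U ⟶ Spec (CommRingCat.of κ)) [Etale φ] : DiscreteTopology U :=
  haveI : IsLocallyArtinian U := (isLocallyArtinian_iff_openCover U.affineCover).mpr fun i => by
    obtain ⟨R, hR⟩ : ∃ R, U.affineCover.X i = Spec R := ⟨_, rfl⟩
    let j : Spec R ⟶ U := eqToHom hR.symm ≫ U.affineCover.f i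
    let θ := Spec.preimage (j ≫ φ)
    letI : Algebra κ R := θ.hom.toAlgebra
    haveI : Algebra.Etale κ R := by
      have h : AlgebraicGeometry.Etale (Spec.map θ) := by rw [Spec.map_preimage]; infer_instance
      exact RingHom.etale_algebraMap.1 (HasRingHomProperty.Spec_iff.1 h)
    haveI : Module.Finite κ R := Algebra.FormallyUnramified.finite_of_free κ R
    rw [hR]
    exact Scheme.isLocallyArtinianScheme_Spec.mpr (IsArtinianRing.of_finite κ R)
  inferInstance

/-- A discrete scheme has no first cohomology of units. -/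
theorem subsingleton_H1_Gm_of_discrete [DiscreteTopology X] : Subsingleton (EtCoh.H X (EtCoh.Gm X) 1) := by
  refine subsingleton_of_forall_eq 0 fun c => ?_
  obtain ⟨q, rfl⟩ := Λ_surjective c
  refine (Λ_eq_zero_iff q).2 ?_
  let U : X → X.Opens := fun x => ⟨{x}, isOpen_discrete _⟩
  choose V hxV S hS using seq_lift_local q
  have hUV : ∀ x, U x ≤ V x := fun x y hy => by
    obtain rfl : y = x := hy
    exact hxV y
  let s : ∀ x, (seq X).X₂.obj.obj (op (et (U x))) := fun x => (seq X).X₂.obj.map (etHom (hUV x)).op (S x)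
  obtain ⟨G, hG⟩ := glue_opens_top (seq X).X₂ U (fun x => ⟨x, rfl⟩) s fun x y => by
    by_cases h : x = y
    · subst h; rfl
    · haveI : IsEmpty (et (U x ⊓ U y) : X.Etale).left := ⟨fun z => h (z.2.1.symm.trans z.2.2)⟩
      exact (AddCommGrpCat.subsingleton_of_isZero
        (EtStalk.isZero_of_isEmpty (seq X).X₂ _ inferInstance)).elim _ _
  refine ⟨G, ext_opens_top (seq X).X₃ U (fun x => ⟨x, rfl⟩) fun x => ?_⟩
  rw [← app_natural, hG]
  show (seq X).g.hom.app _ ((seq X).X₂.obj.map (etHom (hUV x)).op (S x)) = _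
  rw [app_natural, hS]
  exact (map_map _ _ _ q).trans (map_eq_map _ (hom_ext_top _ _) q)

/-- Restriction of units along an étale morphism. -/
noncomputable def pullGmIso (j : Y ⟶ X) [Etale j] : (EtCoh.pull j).obj (EtCoh.Gm X) ≅ EtCoh.Gm Y :=
  ((restrPullIso j).app (EtCoh.Gm X)).symm ≪≫ Iso.refl _

/-- Étale schemes over a field have no first cohomology of units. -/
theorem subsingleton_H1_pull_Gm (κ : Type u) [Field κ] (W : (Spec (CommRingCat.of κ)).Etale) :
    Subsingleton (EtCoh.H W.left ((EtCoh.pull W.hom).obj (EtCoh.Gm _)) 1) := by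
  haveI : Etale W.hom := W.prop
  haveI : DiscreteTopology W.left := Groth.Agent.EtPic3.discreteTopology_of_etale_field W.hom
  exact @Equiv.subsingleton _ _ ((EtCoh.HF W.left 1).mapIso (pullGmIso W.hom)).addCommGroupIsoToAddEquiv.toEquiv
    (subsingleton_H1_Gm_of_discrete (X := W.left))

variable (f : X ⟶ Y)

/-- Quotients of `H¹`-free sheaves keep short exactness under direct image. -/
theorem shortExact_push_of_H1 {S : ShortComplex (EtCoh.Ab X)} (hS : S.ShortExact)
    (h₁ : ∀ W : X.Etale, Subsingleton (EtCoh.H W.left ((EtCoh.pull W.hom).obj S.X₁) 1)) :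
    (S.map (EtCoh.push f)).ShortExact ∧ Function.Surjective (S.g.hom.app (op (EtCoh.top X))) := by
  have hsur : ∀ V : X.Etale, Function.Surjective (S.g.hom.app (op V)) := fun V => by
    let g : V.left ⟶ X := V.hom
    haveI : AlgebraicGeometry.Etale g := V.prop
    have h := surjective_sections_of_H_one g hS (h₁ V)
    let e : (EtShriek.compEtale g).obj (EtCoh.top V.left) ≅ V :=
      MorphismProperty.Over.isoMk (Iso.refl _) (by
        show 𝟙 _ ≫ g = 𝟙 _ ≫ g
        rfl)
    intro s
    obtain ⟨t, ht⟩ := h (S.X₃.obj.map e.hom.op s)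
    refine ⟨S.X₂.obj.map e.inv.op t, ?_⟩
    rw [NatTrans.naturality_apply, ht, ← Functor.map_comp_apply, ← op_comp, e.inv_hom_id, op_id,
      Functor.map_id_apply]
  refine ⟨?_, hsur _⟩
  haveI := hS.mono_f
  haveI : PreservesLimitsOfSize.{0, 0} (EtCoh.push f) := (EtCoh.pullPushAdj f).rightAdjoint_preservesLimits
  haveI : PreservesFiniteLimits (EtCoh.push f) := PreservesLimitsOfSize.preservesFiniteLimits _
  haveI : Epi (S.map (EtCoh.push f)).g := by
    rw [← Sheaf.isLocallySurjective_iff_epi']
    refine ⟨fun {V} s => ?_⟩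
    obtain ⟨t, ht⟩ := hsur ((EtCoh.bc f).obj V) s
    convert (Y.smallEtaleTopology).top_mem V using 1
    ext W i
    exact ⟨fun _ => trivial, fun _ => ⟨((EtCoh.push f).obj S.X₂).obj.map i.op t, by
      erw [NatTrans.naturality_apply ((EtCoh.push f).map S.g).hom i.op t]
      exact congrArg (((EtCoh.push f).obj S.X₃).obj.map i.op) ht⟩⟩
  exact { exact := hS.exact.map_of_mono_of_preservesKernel _ hS.mono_f inferInstance
          mono_f := inferInstanceAs (Mono ((EtCoh.push f).map S.f))
          epi_g := inferInstance }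

variable [PreservesFiniteLimits (EtCoh.pull f)]

/-- The edge map and a connecting map. -/
theorem HofPush_connect {S : ShortComplex (EtCoh.Ab X)} (hS : S.ShortExact) {C : EtCoh.Ab Y}
    (p : (EtCoh.push f).obj S.X₂ ⟶ C) (κ : C ⟶ (EtCoh.push f).obj S.X₃)
    (hκ : p ≫ κ = (EtCoh.push f).map S.g) (w : (EtCoh.push f).map S.f ≫ p = 0)
    (hT : (ShortComplex.mk ((EtCoh.push f).map S.f) p w).ShortExact) (c : EtCoh.H Y C 0) :
    EtLim.HofPush f S.X₁ 1 (c.comp hT.extClass (zero_add 1)) =
      (EtLim.HofPush f S.X₃ 0 (c.comp (Ext.mk₀ κ) (add_zero 0))).comp hS.extClass (zero_add 1) := by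
  rw [HofPush_apply, HofPush_apply]
  erw [Ext.mapExactFunctor_comp, Ext.mapExactFunctor_extClass]
  let φ : (ShortComplex.mk ((EtCoh.push f).map S.f) p w).map (EtCoh.pull f) ⟶ S :=
    { τ₁ := (EtCoh.pullPushAdj f).counit.app S.X₁
      τ₂ := (EtCoh.pullPushAdj f).counit.app S.X₂
      τ₃ := (EtCoh.pull f).map κ ≫ (EtCoh.pullPushAdj f).counit.app S.X₃
      comm₁₂ := ((EtCoh.pullPushAdj f).counit.naturality S.f).symm
      comm₂₃ := by
        show (EtCoh.pullPushAdj f).counit.app S.X₂ ≫ S.g =
          (EtCoh.pull f).map p ≫ (EtCoh.pull f).map κ ≫ (EtCoh.pullPushAdj f).counit.app S.X₃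
        rw [← Category.assoc, ← Functor.map_comp, hκ]
        exact ((EtCoh.pullPushAdj f).counit.naturality S.g).symm }
  have hn := ShortComplex.ShortExact.extClass_naturality (hT.map_of_exact (EtCoh.pull f)) hS φ
  rw [← Ext.comp_assoc (Ext.mk₀ (EtCore.pullConst f ℤ).inv) _ _ (zero_add 0) (zero_add 1) (by lia)]
  erw [Ext.comp_assoc_of_third_deg_zero, hn]
  rw [Ext.mapExactFunctor_comp, Ext.mapExactFunctor_mk₀, ← Ext.mk₀_comp_mk₀]
  simp only [Ext.comp_assoc_of_third_deg_zero, Ext.comp_assoc_of_second_deg_zero]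


/-- The degree zero edge map is injective. -/
theorem injective_HofPush_zero (A : EtCoh.Ab X) : Function.Injective (EtLim.HofPush f A 0) := fun u v huv => by
  obtain ⟨a, rfl⟩ := (Ext.mk₀_bijective _ _).2 u
  obtain ⟨b, rfl⟩ := (Ext.mk₀_bijective _ _).2 v
  rw [HofPush_apply, HofPush_apply, Ext.mapExactFunctor_mk₀, Ext.mapExactFunctor_mk₀, Ext.mk₀_comp_mk₀,
    Ext.mk₀_comp_mk₀, Ext.mk₀_comp_mk₀, Ext.mk₀_comp_mk₀] at huv
  refine congrArg _ (((EtCoh.pullPushAdj f).homEquiv _ _).symm.injective ?_)
  rw [Adjunction.homEquiv_counit, Adjunction.homEquiv_counit]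
  exact (cancel_epi (EtCore.pullConst f ℤ).inv).1 (by
    simpa only [Category.assoc] using (Ext.mk₀_bijective _ _).1 huv)

/-- The edge map in degree one is injective. -/
theorem injective_HofPush_one (A : EtCoh.Ab X) : Function.Injective (EtLim.HofPush f A 1) := by
  let S := ShortComplex.mk (Injective.ι A) (cokernel.π (Injective.ι A)) (cokernel.condition _)
  have hS : S.ShortExact := { exact := ShortComplex.exact_cokernel (Injective.ι A) }
  haveI : Injective S.X₂ := inferInstanceAs (Injective (Injective.under A))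
  haveI : (EtCoh.push f).IsRightAdjoint := (EtCoh.pullPushAdj f).isRightAdjoint
  haveI := hS.mono_f
  let a := (EtCoh.push f).map S.f
  haveI : Mono a := inferInstance
  haveI : Injective ((EtCoh.push f).obj S.X₂) := injective_push f S.X₂
  let T := ShortComplex.mk a (cokernel.π a) (cokernel.condition _)
  have hT : T.ShortExact := { exact := ShortComplex.exact_cokernel a }
  haveI : Injective T.X₂ := inferInstanceAs (Injective ((EtCoh.push f).obj S.X₂))
  haveI : PreservesLimitsOfSize.{0, 0} (EtCoh.push f) := (EtCoh.pullPushAdj f).rightAdjoint_preservesLimits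
  haveI : PreservesFiniteLimits (EtCoh.push f) := PreservesLimitsOfSize.preservesFiniteLimits _
  have hmap : (S.map (EtCoh.push f)).Exact :=
    hS.exact.map_of_mono_of_preservesKernel _ hS.mono_f inferInstance
  let κ : T.X₃ ⟶ (EtCoh.push f).obj S.X₃ := cokernel.desc a ((EtCoh.push f).map S.g)
    (by rw [← Functor.map_comp, S.zero, Functor.map_zero])
  haveI : Mono κ := hmap.mono_cokernelDesc
  have hκ : T.g ≫ κ = (EtCoh.push f).map S.g := cokernel.π_desc _ _ _
  refine (injective_iff_map_eq_zero _).2 fun x hx => ?_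
  obtain ⟨c, rfl⟩ := Ext.covariant_sequence_exact₁ _ hT x (Ext.eq_zero_of_injective _) (n₀ := 0) rfl
  have hφ := HofPush_connect f hS T.g κ hκ (cokernel.condition _) hT c
  obtain ⟨z, hz⟩ := Ext.covariant_sequence_exact₃ _ hS _ (zero_add 1) (hφ.symm.trans hx)
  obtain ⟨z', rfl⟩ := (bijective_HofPush f 0 S.X₂ (fun q hq => by
    obtain ⟨m, rfl⟩ := Nat.exists_eq_add_one.2 hq
    exact (EtCoh.push f).isZero_rightDerived_obj_injective_succ m S.X₂)).2 z
  rw [← HofPush_comp] at hz
  have h0 := injective_HofPush_zero f S.X₃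
  have hc : z'.comp (Ext.mk₀ T.g) (add_zero 0) = c := by
    refine Ext.postcomp_mk₀_injective_of_mono _ κ ?_
    show (z'.comp (Ext.mk₀ T.g) (add_zero 0)).comp (Ext.mk₀ κ) (add_zero 0) = c.comp (Ext.mk₀ κ) (add_zero 0)
    rw [Ext.comp_assoc_of_third_deg_zero, Ext.mk₀_comp_mk₀, hκ]
    exact h0 hz
  rw [← hc]
  exact (Ext.comp_assoc_of_second_deg_zero _ _ _ _).trans (by erw [hT.comp_extClass, Ext.comp_zero])

/-- Skyscraper units: no `H¹`, and the edge map in degree two is injective. -/
theorem skyPush_Gm (X : Scheme.{u}) (x : X) [PreservesFiniteLimits (EtCoh.pull (X.fromSpecResidueField x))] :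
    Subsingleton (EtCoh.H X ((Dix.skyPush X x).obj (EtCoh.Gm (Spec (X.residueField x)))) 1) ∧
      Function.Injective (EtLim.HofPush (X.fromSpecResidueField x) (EtCoh.Gm (Spec (X.residueField x))) 2) := by
  let f := X.fromSpecResidueField x
  have hH1 := subsingleton_H1_pull_Gm (X.residueField x : Type u)
  haveI : Subsingleton (EtCoh.H (Spec (X.residueField x)) (EtCoh.Gm _) 1) := by
    haveI : DiscreteTopology (Spec (X.residueField x)) := inferInstance
    exact subsingleton_H1_Gm_of_discrete
  refine ⟨(injective_HofPush_one f (EtCoh.Gm _)).subsingleton, ?_⟩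
  let S := seq (Spec (X.residueField x))
  have hS : S.ShortExact := seq_shortExact _
  obtain ⟨hS', -⟩ := shortExact_push_of_H1 f hS (fun W => hH1 W)
  haveI : Injective (S.map (EtCoh.push f)).X₂ := injective_push f S.X₂
  refine (injective_iff_map_eq_zero _).2 fun z hz => ?_
  obtain ⟨y, rfl⟩ := Ext.covariant_sequence_exact₁ _ hS' z (Ext.eq_zero_of_injective _) (n₀ := 1) rfl
  replace hz := (HofPush_extClass f hS hS' 1 y).symm.trans hz
  obtain ⟨w, hw⟩ := Ext.covariant_sequence_exact₃ _ hS _ rfl hz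
  rw [Ext.eq_zero_of_injective w, Ext.zero_comp] at hw
  rw [injective_HofPush_one f S.X₃ (hw.symm.trans (map_zero _).symm), Ext.zero_comp]

end Groth.Agent.EtPic3
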