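import Groth.Agent.Lib.EtPic3.PushPoint
import Groth.Agent.Lib.EtColim.Torsion
import Groth.Agent.Lib.FieldH25.Transfer
import Groth.Agent.Lib.FieldH25.Torsion

/-!
# Direct images from a point have torsion cohomology
-/

set_option autoImplicit false
set_option linter.style.haveILetI false
set_option backward.isDefEq.respectTransparency false
set_option backward.isDefEq.respectTransparency.types false
set_option maxHeartbeats 1000000

universe u

open CategoryTheory CategoryTheory.Limits AlgebraicGeometry Opposite CategoryTheory.Abelian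
open Groth.Agent.EtStalk

namespace Groth.Agent.EtPic3

/-- A compact étale scheme over a field is finite over it. -/
theorem isIntegralHom_of_etale_field {κ : Type u} [Field κ] {U : Scheme.{u}}
    (φ : U ⟶ Spec (CommRingCat.of κ)) [Etale φ] [CompactSpace U] : IsIntegralHom φ := by
  haveI := discreteTopology_of_etale_field φ
  haveI : Finite U := finite_of_compact_of_discrete
  haveI : IsAffine U := inferInstance
  haveI : IsFinite φ := by
    rw [HasAffineProperty.iff_of_isAffine (P := @IsFinite)]
    refine ⟨inferInstance, ?_⟩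
    letI : Algebra Γ(Spec (CommRingCat.of κ), ⊤) Γ(U, ⊤) := φ.appTop.hom.toAlgebra
    letI : Field Γ(Spec (CommRingCat.of κ), ⊤) :=
      ((Scheme.ΓSpecIso (CommRingCat.of κ)).commRingCatIsoToRingEquiv.toMulEquiv.isField
        (Field.toIsField κ)).toField
    have h : φ.appTop.hom.Etale := (HasRingHomProperty.iff_of_isAffine (P := @Etale)).1 inferInstance
    haveI : Algebra.Etale Γ(Spec (CommRingCat.of κ), ⊤) Γ(U, ⊤) := h
    exact RingHom.finite_algebraMap.2 (Algebra.FormallyUnramified.finite_of_free _ _)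
  infer_instance

/-- Positive degree cohomology of a compact étale scheme over a field is torsion. -/
theorem isAddTorsion_H_etale {κ : Type u} [Field κ] (W : (Spec (CommRingCat.of κ)).Etale)
    [CompactSpace W.left] (G : EtCoh.Ab W.left) {q : ℕ} (hq : 0 < q) :
    IsAddTorsion (EtCoh.H W.left G q) := by
  haveI : Etale W.hom := W.prop
  haveI : CompactSpace ((𝟭 Scheme).obj W.left) := inferInstanceAs (CompactSpace W.left)
  haveI := isIntegralHom_of_etale_field W.hom
  intro x
  obtain ⟨y, rfl⟩ := (FieldH25.bijective_HofPush_integral W.hom G q).2 x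
  exact AddMonoidHom.isOfFinAddOrder _ (FieldH25.isOfFinAddOrder_H _ hq y)

variable (X : Scheme.{u}) [CompactSpace X] [QuasiSeparatedSpace X] (x : X)

/-- The fibre of a quasi-compact étale scheme at a point is compact. -/
theorem compactSpace_bc (V : X.Etale) [IsAffine V.left] :
    CompactSpace ((EtCoh.bc (X.fromSpecResidueField x)).obj V).left := by
  haveI : CompactSpace ((𝟭 Scheme).obj V.left) := inferInstanceAs (CompactSpace V.left)
  haveI : QuasiCompact (X.fromSpecResidueField x) :=
    quasiCompact_of_compactSpace _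
  haveI : QuasiCompact (pullback.fst V.hom (X.fromSpecResidueField x)) := inferInstance
  exact QuasiCompact.compactSpace_of_compactSpace (pullback.fst V.hom (X.fromSpecResidueField x) : _ ⟶ V.left)

/-- The values of the higher direct image presheaves are torsion. -/
theorem isAddTorsion_rpushPsh_point (F : EtCoh.Ab (Spec (X.residueField x))) {n : ℕ} (hn : 0 < n) (V : X.Etale)
    [IsAffine V.left] :
    IsAddTorsion (((((EtColim.pushPsh (X.fromSpecResidueField x)).rightDerived n).obj F).obj (op V)) : Type (u + 1)) := by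
  let f := X.fromSpecResidueField x
  let W := (EtCoh.bc f).obj V
  haveI : AlgebraicGeometry.Etale W.hom := W.prop
  haveI : CompactSpace W.left := compactSpace_bc X x V
  haveI : ((evaluation X.Etaleᵒᵖ AddCommGrpCat.{u + 1}).obj (op V)).Additive := { }
  haveI : (EtColim.pushPsh f).Additive := { }
  let e := (RDComp.rightDerivedPostIso (EtColim.pushPsh f) ((evaluation X.Etaleᵒᵖ AddCommGrpCat.{u + 1}).obj (op V)) n).symm ≪≫
    (ExtDerived.rightDerivedMapIso n (EtColim.zExtSectIso W)).symm ≪≫
      ExtDerived.rightDerivedCoyonedaNatIso (EtStalk.zExt W.hom) n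
  let e' := (e.app F).addCommGroupIsoToAddEquiv.trans (EtStalk.extCohEquiv W.hom F n)
  intro y
  have h := isAddTorsion_H_etale (κ := (X.residueField x : Type u)) W ((EtCoh.pull W.hom).obj F) hn (e' y)
  have := AddMonoidHom.isOfFinAddOrder e'.symm.toAddMonoidHom h
  simpa using this

/-- The higher direct images from a point are torsion. -/
theorem isTorsion_Rpush_point (F : EtCoh.Ab (Spec (X.residueField x))) {n : ℕ} (hn : 0 < n) :
    EtCoh.IsTorsion ((EtCoh.Rpush (X.fromSpecResidueField x) n).obj F) := by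
  let f := X.fromSpecResidueField x
  let L := presheafToSheaf X.smallEtaleTopology AddCommGrpCat.{u + 1}
  haveI : L.Additive := presheafToSheaf_additive
  haveI : (EtColim.pushPsh f).Additive := { }
  let e : EtColim.pushPsh f ⋙ L ≅ EtCoh.push f :=
    Functor.isoWhiskerLeft (EtCoh.push f)
      (asIso (sheafificationAdjunction X.smallEtaleTopology AddCommGrpCat.{u + 1}).counit) ≪≫ (EtCoh.push f).rightUnitor
  let P := ((EtColim.pushPsh f).rightDerived n).obj F
  refine EtColim.isTorsion_of_iso (F := L.obj P)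
    (((RDComp.rightDerivedPostIso (EtColim.pushPsh f) L n).symm ≪≫ ExtDerived.rightDerivedMapIso n e).app F)
    fun U s u => ?_
  have hcov := Presheaf.imageSieve_mem X.smallEtaleTopology (toSheafify X.smallEtaleTopology P) (U := op U) s
  rw [EtSite.mem_et_iff] at hcov
  obtain ⟨V, g, v, ⟨p, hp⟩, hv⟩ := hcov u
  obtain ⟨A, hA, hvA, -⟩ := exists_isAffineOpen_mem_and_subset (X := V.left) (x := v) (U := ⊤) trivial
  haveI : IsAffine (EtSite.sub V A).left := hA
  refine ⟨EtSite.sub V A, EtSite.subHom V A ≫ g, ⟨⟨v, hvA⟩, hv⟩, ?_⟩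
  rw [op_comp, Functor.map_comp_apply]
  have h1 : (L.obj P).obj.map (EtSite.subHom V A).op ((L.obj P).obj.map g.op s) =
      (toSheafify X.smallEtaleTopology P).app (op (EtSite.sub V A)) (P.map (EtSite.subHom V A).op p) := by
    rw [NatTrans.naturality_apply]
    exact congrArg _ hp.symm
  rw [h1]
  exact AddMonoidHom.isOfFinAddOrder _ (isAddTorsion_rpushPsh_point X x F hn (EtSite.sub V A) _)

/-- A multiple of a section lifts when the first cohomology is torsion. -/
theorem exists_nsmul_lift_of_torsion {Y : Scheme.{u}} {U : Scheme.{u}} (j : U ⟶ Y) [Etale j]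
    {S : ShortComplex (EtCoh.Ab Y)} (hS : S.ShortExact)
    (h : IsAddTorsion (EtCoh.H U ((EtCoh.pull j).obj S.X₁) 1))
    (q : S.X₃.obj.obj (op ((EtShriek.compEtale j).obj (EtCoh.top U)))) :
    ∃ N : ℕ, 0 < N ∧ ∃ t, S.g.hom.app _ t = N • q := by
  obtain ⟨φ, rfl⟩ := secOf_surjective j S.X₃ q
  obtain ⟨N, hN, h0⟩ := isOfFinAddOrder_iff_nsmul_eq_zero.1
    (h (extCohEquiv j S.X₁ 1 ((Ext.mk₀ φ).comp hS.extClass (zero_add 1))))
  rw [← map_nsmul, map_eq_zero_iff _ (extCohEquiv j S.X₁ 1).injective] at h0
  have h1 : ((N • Ext.mk₀ φ : Ext (zExt j) S.X₃ 0)).comp hS.extClass (zero_add 1) = 0 :=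
    (map_nsmul (hS.extClass.postcomp _ (zero_add 1)) N (Ext.mk₀ φ)).trans h0
  obtain ⟨y, hy⟩ := Ext.covariant_sequence_exact₃ _ hS (N • Ext.mk₀ φ) (zero_add 1) h1
  obtain ⟨ψ, rfl⟩ := (Ext.mk₀_bijective _ _).2 y
  rw [Ext.mk₀_comp_mk₀] at hy
  replace hy : Ext.mk₀ (ψ ≫ S.g) = Ext.mk₀ (N • φ) := hy.trans (map_nsmul Ext.addEquiv₀.symm N φ).symm
  refine ⟨N, hN, secOf j S.X₂ ψ, ?_⟩
  rw [← secOf_comp, (Ext.mk₀_bijective _ _).1 hy, secOf]
  exact congrArg (fun z : (EtCoh.const U ℤ ⟶ (EtShriek.restrAlong j).obj S.X₃) => z.hom.app (op (EtCoh.top U)) (oneSec U))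
    (map_nsmul ((EtShriek.extZeroAdj j).homAddEquiv _ _) N φ)

/-- Cohomology of a sheaf pushed forward from a point is torsion in positive degree. -/
theorem isAddTorsion_H_push : ∀ (n : ℕ) (F : EtCoh.Ab (Spec (X.residueField x))),
    IsAddTorsion (EtCoh.H X ((Dix.skyPush X x).obj F) (n + 1)) := by
  intro n
  induction n with
  | zero =>
    intro F y
    obtain ⟨N, hN, h⟩ := isOfFinAddOrder_iff_nsmul_eq_zero.1 (FieldH25.isOfFinAddOrder_H (k := (X.residueField x : Type u)) F
      one_pos (EtLim.HofPush (X.fromSpecResidueField x) F 1 y))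
    refine isOfFinAddOrder_iff_nsmul_eq_zero.2 ⟨N, hN, injective_HofPush_one _ F ?_⟩
    rw [map_nsmul, map_zero]
    exact h
  | succ m ih =>
    intro F
    let f := X.fromSpecResidueField x
    let S := ShortComplex.mk (Injective.ι F) (cokernel.π (Injective.ι F)) (cokernel.condition _)
    have hS : S.ShortExact := { exact := ShortComplex.exact_cokernel (Injective.ι F) }
    haveI : Injective S.X₂ := inferInstanceAs (Injective (Injective.under F))
    haveI : (EtCoh.push f).IsRightAdjoint := (EtCoh.pullPushAdj f).isRightAdjoint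
    haveI := hS.mono_f
    let a := (EtCoh.push f).map S.f
    haveI : Mono a := inferInstance
    let T := ShortComplex.mk a (cokernel.π a) (cokernel.condition _)
    have hT : T.ShortExact := { exact := ShortComplex.exact_cokernel a }
    haveI : Injective T.X₂ := EtStalk.injective_push f S.X₂
    haveI : PreservesLimitsOfSize.{0, 0} (EtCoh.push f) := (EtCoh.pullPushAdj f).rightAdjoint_preservesLimits
    haveI : PreservesFiniteLimits (EtCoh.push f) := PreservesLimitsOfSize.preservesFiniteLimits _
    let κ : T.X₃ ⟶ (EtCoh.push f).obj S.X₃ := cokernel.desc a ((EtCoh.push f).map S.g)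
      (by rw [← Functor.map_comp, S.zero, Functor.map_zero])
    haveI : Mono κ := (hS.exact.map_of_mono_of_preservesKernel (EtCoh.push f) hS.mono_f inferInstance).mono_cokernelDesc
    let Q := ShortComplex.mk κ (cokernel.π κ) (cokernel.condition _)
    have hQ : Q.ShortExact := { exact := ShortComplex.exact_cokernel κ }
    have hD : EtCoh.IsTorsion Q.X₃ := fun U s u => by
      haveI : Sheaf.IsLocallySurjective Q.g := (Sheaf.isLocallySurjective_iff_epi' _ Q.g).2 inferInstance
      have hcov := Presheaf.imageSieve_mem X.smallEtaleTopology Q.g.hom (U := op U) s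
      rw [EtSite.mem_et_iff] at hcov
      obtain ⟨V, g, v, ⟨p, hp⟩, hv⟩ := hcov u
      obtain ⟨A, hA, hvA, -⟩ := exists_isAffineOpen_mem_and_subset (X := V.left) (x := v) (U := ⊤) trivial
      let V' := EtSite.sub V A
      haveI : IsAffine V'.left := hA
      refine ⟨V', EtSite.subHom V A ≫ g, ⟨⟨v, hvA⟩, hv⟩, ?_⟩
      let W := (EtCoh.bc f).obj V'
      haveI : CompactSpace W.left := compactSpace_bc X x V'
      haveI : Etale W.hom := W.prop
      let e : (EtShriek.compEtale W.hom).obj (EtCoh.top W.left) ≅ W :=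
        MorphismProperty.Over.isoMk (Iso.refl _) (by
          show 𝟙 _ ≫ W.hom = 𝟙 _ ≫ W.hom
          rfl)
      let p' : ((EtCoh.push f).obj S.X₃).obj.obj (op V') := ((EtCoh.push f).obj S.X₃).obj.map (EtSite.subHom V A).op p
      obtain ⟨N, hN, t, ht⟩ := exists_nsmul_lift_of_torsion W.hom hS
        (isAddTorsion_H_etale (κ := (X.residueField x : Type u)) W _ one_pos) (S.X₃.obj.map e.hom.op p')
      let t' : ((EtCoh.push f).obj S.X₂).obj.obj (op V') := S.X₂.obj.map e.inv.op t
      have hg : ((EtCoh.push f).map S.g).hom.app (op V') t' = N • p' := by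
        show S.g.hom.app (op W) (S.X₂.obj.map e.inv.op t) = _
        rw [NatTrans.naturality_apply]
        erw [ht]
        rw [map_nsmul, ← Functor.map_comp_apply, ← op_comp, e.inv_hom_id, op_id, Functor.map_id_apply]
      have hz : (EtCoh.push f).map S.g ≫ Q.g = 0 := by
        rw [← cokernel.π_desc a ((EtCoh.push f).map S.g) (by rw [← Functor.map_comp, S.zero, Functor.map_zero]),
          Category.assoc]
        exact (congrArg (_ ≫ ·) (cokernel.condition κ)).trans comp_zero
      refine isOfFinAddOrder_iff_nsmul_eq_zero.2 ⟨N, hN, ?_⟩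
      rw [op_comp, Functor.map_comp_apply, ← hp, ← NatTrans.naturality_apply, ← map_nsmul]
      show Q.g.hom.app (op V') (N • p') = 0
      rw [← hg]
      exact congrArg (fun z : (EtCoh.push f).obj S.X₂ ⟶ Q.X₃ => z.hom.app (op V') t') hz
    intro y
    obtain ⟨c, rfl⟩ := Ext.covariant_sequence_exact₁ _ hT y (Ext.eq_zero_of_injective _) (n₀ := m + 1) rfl
    refine AddMonoidHom.isOfFinAddOrder (hT.extClass.postcomp _ rfl) (x := c) ?_
    obtain ⟨N, hN, hNc⟩ := isOfFinAddOrder_iff_nsmul_eq_zero.1 (ih S.X₃ (c.comp (Ext.mk₀ κ) (add_zero _)))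
    have h0 : (N • c).comp (Ext.mk₀ Q.f) (add_zero _) = 0 :=
      (map_nsmul ((Ext.mk₀ Q.f).postcomp _ (add_zero (m + 1))) N c).trans hNc
    obtain ⟨d, hd⟩ := Ext.covariant_sequence_exact₁ _ hQ (N • c) h0 (n₀ := m) rfl
    obtain ⟨M, hM, hMc⟩ := isOfFinAddOrder_iff_nsmul_eq_zero.1
      (AddMonoidHom.isOfFinAddOrder (hQ.extClass.postcomp _ rfl) (EtColim.isAddTorsion_H Q.X₃ hD m d))
    refine isOfFinAddOrder_iff_nsmul_eq_zero.2 ⟨M * N, Nat.mul_pos hM hN, ?_⟩
    rw [mul_nsmul', ← hd]
    exact hMc

end Groth.Agent.EtPic3
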