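import Groth.Agent.Lib.EtPic3.PushPoint
import Groth.Agent.Lib.FieldH25.H1

/-!
# Constant torsion free sheaves pushed forward from a point
-/

set_option autoImplicit false
set_option linter.style.haveILetI false
set_option backward.isDefEq.respectTransparency false
set_option backward.isDefEq.respectTransparency.types false

universe u

open CategoryTheory CategoryTheory.Limits AlgebraicGeometry Opposite
open Groth.Agent.EtSite Groth.Agent.FieldH25

namespace Groth.Agent.EtPic3

variable {X : Scheme.{u}} (M : Type) [AddCommGroup M]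

/-- The constant sections. -/
noncomputable def cst (V : X.Etale) : ULift.{u + 1} M →+ (EtCoh.const X M).obj.obj (op V) :=
  ((toSheafify X.smallEtaleTopology
    ((Functor.const X.Etaleᵒᵖ).obj (AddCommGrpCat.of (ULift.{u + 1} M)))).app (op V)).hom

theorem map_cst {V W : X.Etale} (b : V ⟶ W) (m : ULift.{u + 1} M) :
    (EtCoh.const X M).obj.map b.op (cst M W m) = cst M V m :=
  (ConcreteCategory.congr_hom
    ((toSheafify X.smallEtaleTopology
      ((Functor.const X.Etaleᵒᵖ).obj (AddCommGrpCat.of (ULift.{u + 1} M)))).naturality b.op) m).symm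

theorem cst_injective (V : X.Etale) (h : Nonempty V.left) : Function.Injective (cst M V) := fun m n e => by
  obtain ⟨z⟩ := h
  obtain ⟨Y, f, y, hf, -⟩ := (mem_et_iff V _).1 (Presheaf.equalizerSieve_mem X.smallEtaleTopology
    (toSheafify X.smallEtaleTopology ((Functor.const X.Etaleᵒᵖ).obj (AddCommGrpCat.of (ULift.{u + 1} M))))
    m n e) z
  exact hf

theorem cst_surjective_of_point (V : X.Etale) [Subsingleton V.left] (h : Nonempty V.left) :
    Function.Surjective (cst M V) := fun s => by
  obtain ⟨z⟩ := h
  obtain ⟨Y, f, y, ⟨m, hm⟩, hy⟩ := (mem_et_iff V _).1 (Presheaf.imageSieve_mem X.smallEtaleTopology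
    (toSheafify X.smallEtaleTopology ((Functor.const X.Etaleᵒᵖ).obj (AddCommGrpCat.of (ULift.{u + 1} M)))) s) z
  refine ⟨m, sect_ext _ (fun _ : PUnit.{u + 1} => f) (fun x => ⟨⟨⟩, y, Subsingleton.elim _ _⟩) fun _ => ?_⟩
  rw [map_cst]
  exact hm

variable [IsAddTorsionFree M]

/-- A field has no first cohomology with torsion free constant coefficients. -/
theorem subsingleton_H1_const (κ : Type u) [Field κ] :
    Subsingleton (EtCoh.H (Spec (CommRingCat.of κ)) (EtCoh.const (Spec (CommRingCat.of κ)) M) 1) := by
  refine subsingleton_H_one _ fun L _ _ _ _ c hc => ⟨0, fun σ => ?_⟩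
  haveI : Subsingleton (ext κ L).left := inferInstanceAs (Subsingleton (PrimeSpectrum L))
  have hne : Nonempty (ext κ L).left := inferInstanceAs (Nonempty (PrimeSpectrum L))
  have htriv : ∀ (τ : L ≃ₐ[κ] L) t, galAct (EtCoh.const _ M) τ t = t := fun τ t => by
    obtain ⟨m, rfl⟩ := cst_surjective_of_point M (ext κ L) hne t
    exact map_cst M _ m
  rw [htriv, sub_self]
  choose d hd using fun τ => cst_surjective_of_point M (ext κ L) hne (c τ)
  have hadd : ∀ τ τ', d (τ * τ') = d τ' + d τ := fun τ τ' => by
    refine cst_injective M _ hne ?_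
    rw [map_add, hd, hd, hd, hc, htriv]
  have h1 : d 1 = 0 := by
    have h := hadd 1 1
    rw [one_mul] at h
    exact left_eq_add.1 h
  have hpow : ∀ n : ℕ, d (σ ^ n) = n • d σ := fun n => by
    induction n with
    | zero => rw [pow_zero, h1, zero_nsmul]
    | succ n ih => rw [pow_succ, hadd, ih, succ_nsmul']
  have h0 : (d σ).down = 0 := by
    have h := hpow (orderOf σ)
    rw [pow_orderOf_eq_one, h1] at h
    exact (nsmul_eq_zero_iff_right (orderOf_pos σ).ne').1 (congrArg ULift.down h).symm
  rw [← hd σ, show d σ = 0 from ULift.ext _ _ h0, map_zero]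

/-- No first cohomology of constant torsion free skyscrapers. -/
theorem skyPush_const (X : Scheme.{u}) (x : X) :
    Subsingleton (EtCoh.H X ((Dix.skyPush X x).obj (EtCoh.const (Spec (X.residueField x)) M)) 1) :=
  haveI := subsingleton_H1_const M (X.residueField x : Type u)
  (injective_HofPush_one (X.fromSpecResidueField x) (EtCoh.const _ M)).subsingleton

end Groth.Agent.EtPic3
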