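import Groth.Agent.Lib.EtPic3.Basic
import Mathlib.RingTheory.Etale.Basic
import Mathlib.AlgebraicGeometry.Pullbacks

/-!
# Affine objects of the small étale site over an affine open
-/

set_option autoImplicit false
set_option linter.style.haveILetI false
set_option backward.isDefEq.respectTransparency.types false

universe u

open CategoryTheory CategoryTheory.Limits AlgebraicGeometry Opposite TensorProduct

namespace Groth.Agent.EtPic3

variable {X : Scheme.{u}} {A : CommRingCat.{u}} (j : Spec A ⟶ X) [IsOpenImmersion j]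

instance etale_specMap (C : Type u) [CommRing C] [Algebra A C] [Algebra.Etale A C] :
    Etale (Spec.map (CommRingCat.ofHom (algebraMap A C))) :=
  (HasRingHomProperty.Spec_iff (P := @Etale)).2 (RingHom.etale_algebraMap.2 inferInstance)

instance etale_tensor (B C : Type u) [CommRing B] [CommRing C] [Algebra A B] [Algebra A C]
    [Algebra.Etale A B] [Algebra.Etale A C] : Algebra.Etale A (B ⊗[A] C) :=
  Algebra.Etale.comp A B (B ⊗[A] C)

/-- An étale algebra over the coordinate ring of an affine open, as an object of the small étale site. -/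
noncomputable abbrev aobj (C : Type u) [CommRing C] [Algebra A C] [Algebra.Etale A C] : X.Etale :=
  Scheme.Etale.mk (Spec.map (CommRingCat.ofHom (algebraMap A C)) ≫ j)

variable {C D E : Type u} [CommRing C] [Algebra A C] [Algebra.Etale A C] [CommRing D] [Algebra A D]
  [Algebra.Etale A D] [CommRing E] [Algebra A E] [Algebra.Etale A E]

/-- Algebra maps give morphisms. -/
noncomputable def amap (f : C →ₐ[A] D) : aobj j D ⟶ aobj j C :=
  MorphismProperty.Over.homMk (Spec.map (CommRingCat.ofHom f.toRingHom)) (by
    show Spec.map _ ≫ Spec.map _ ≫ j = Spec.map _ ≫ j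
    rw [← Spec.map_comp_assoc]
    congr 2
    exact CommRingCat.hom_ext f.comp_algebraMap)

theorem amap_comp (f : C →ₐ[A] D) (g : D →ₐ[A] E) : amap j g ≫ amap j f = amap j (g.comp f) :=
  hom_ext (Spec.map_comp (CommRingCat.ofHom f.toRingHom) (CommRingCat.ofHom g.toRingHom)).symm

/-- Evaluation of an element at a generalized point. -/
noncomputable def pt {T : X.Etale} (a : T ⟶ aobj j C) : C →+* Γ(T.left, ⊤) :=
  a.left.appTop.hom.comp (Scheme.ΓSpecIso (CommRingCat.of C)).inv.hom

theorem pt_comp_amap {T : X.Etale} (a : T ⟶ aobj j D) (f : C →ₐ[A] D) :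
    pt j (a ≫ amap j f) = (pt j a).comp f.toRingHom := by
  have h := Scheme.ΓSpecIso_inv_naturality (CommRingCat.ofHom f.toRingHom)
  refine RingHom.ext fun c => ?_
  show (a.left ≫ Spec.map (CommRingCat.ofHom f.toRingHom)).appTop ((Scheme.ΓSpecIso (CommRingCat.of C)).inv c) =
    a.left.appTop ((Scheme.ΓSpecIso (CommRingCat.of D)).inv (f.toRingHom c))
  rw [Scheme.Hom.comp_appTop, CommRingCat.comp_apply]
  exact congrArg _ (ConcreteCategory.congr_hom h c).symm

/-- An invertible element as a section of `G_m`. -/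
noncomputable def εC (v : Cˣ) : (EtCoh.Gm X).obj.obj (op (aobj j C)) :=
  ε (aobj j C) (Additive.ofMul (Units.map (Scheme.ΓSpecIso (CommRingCat.of C)).inv.hom.toMonoidHom v))

theorem map_εC {T : X.Etale} (a : T ⟶ aobj j C) (v : Cˣ) :
    (EtCoh.Gm X).obj.map a.op (εC j v) = ε T (Additive.ofMul (Units.map (pt j a).toMonoidHom v)) := rfl

theorem map_amap_εC (f : C →ₐ[A] D) (v : Cˣ) :
    (EtCoh.Gm X).obj.map (amap j f).op (εC j v) = εC j (Units.map f.toRingHom.toMonoidHom v) := by
  rw [map_εC, εC]
  refine congrArg (fun w => ε (aobj j D) (Additive.ofMul w)) (Units.ext ?_)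
  exact (ConcreteCategory.congr_hom (Scheme.ΓSpecIso_inv_naturality (CommRingCat.ofHom f.toRingHom)) v.1).symm

theorem εC_mul (v w : Cˣ) : εC j (v * w) = εC j v + εC j w := by
  rw [εC, map_mul]; exact (ε (aobj j C)).map_add _ _

theorem εC_bijective : Function.Bijective (εC j (C := C)) := by
  let e : Cˣ ≃* Γ(Spec (CommRingCat.of C), ⊤)ˣ :=
    Units.mapEquiv (Scheme.ΓSpecIso (CommRingCat.of C)).symm.commRingCatIsoToRingEquiv.toMulEquiv
  exact ((AddEquiv.ulift.symm.bijective).comp (Additive.ofMul.bijective.comp e.bijective) : _)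

/-- Two generalized points with values in `aobj C` and `aobj D` factor through the tensor product. -/
theorem exists_pair {T : X.Etale} (a : T ⟶ aobj j C) (b : T ⟶ aobj j D) :
    ∃ c : T ⟶ aobj j (C ⊗[A] D), c ≫ amap j Algebra.TensorProduct.includeLeft = a ∧
      c ≫ amap j Algebra.TensorProduct.includeRight = b := by
  have ha : a.left ≫ Spec.map (CommRingCat.ofHom (algebraMap A C)) =
      b.left ≫ Spec.map (CommRingCat.ofHom (algebraMap A D)) := by
    rw [← cancel_mono j, Category.assoc, Category.assoc]
    exact (MorphismProperty.Over.w a).trans (MorphismProperty.Over.w b).symm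
  let l := pullback.lift a.left b.left ha ≫ (pullbackSpecIso A C D).hom
  have h1 : l ≫ Spec.map (CommRingCat.ofHom (Algebra.TensorProduct.includeLeft (R := A) (S := A)).toRingHom) = a.left :=
    (Category.assoc _ _ _).trans ((congrArg (_ ≫ ·) (pullbackSpecIso_hom_fst A C D)).trans (pullback.lift_fst _ _ _))
  have h2 : l ≫ Spec.map (CommRingCat.ofHom (Algebra.TensorProduct.includeRight (R := A)).toRingHom) = b.left :=
    (Category.assoc _ _ _).trans ((congrArg (_ ≫ ·) (pullbackSpecIso_hom_snd A C D)).trans (pullback.lift_snd _ _ _))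
  refine ⟨MorphismProperty.Over.homMk l ?_, hom_ext h1, hom_ext h2⟩
  refine Eq.trans ?_ (MorphismProperty.Over.w a)
  rw [← h1]
  show l ≫ _ = (l ≫ _) ≫ _
  rw [Category.assoc]
  exact congrArg (l ≫ ·) (MorphismProperty.Over.w (amap j (Algebra.TensorProduct.includeLeft (R := A) (S := A) (A := C) (B := D)))).symm

end Groth.Agent.EtPic3
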