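import Groth.Agent.Lib.EtPic3.Compare
import Groth.Agent.Lib.PicH1_21.Thickening
import Groth.Agent.Lib.FlatH4.PullChart
import Groth.Agent.Lib.CohFound.Bridge
import Groth.Agent.Lib.TensorMod.PicLaw
import Groth.Prelude.Def_Coh
import Mathlib.Algebra.DualNumber
import Mathlib.AlgebraicGeometry.Morphisms.Affine

/-!
# Units on the base change to the dual numbers
-/

set_option autoImplicit false
set_option linter.style.haveILetI false
set_option backward.isDefEq.respectTransparency false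

universe u

open CategoryTheory CategoryTheory.Limits AlgebraicGeometry TopologicalSpace Opposite DualNumber

noncomputable section

namespace Groth.Agent.EtPic3.Dual

variable (k : Type u) [Field k] {X : Scheme.{u}} (c : X ⟶ Spec (CommRingCat.of k))

/-- `Spec k[ε] → Spec k`. -/
abbrev spEps : Spec (CommRingCat.of (DualNumber k)) ⟶ Spec (CommRingCat.of k) :=
  Spec.map (CommRingCat.ofHom (algebraMap k (DualNumber k)))

/-- `X_ε`. -/
abbrev Xe : Scheme.{u} := pullback c (spEps k)

/-- The projection `X_ε → X`. -/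
abbrev r : Xe k c ⟶ X := pullback.fst c (spEps k)

/-- `k[ε] → k`. -/
abbrev fstR : DualNumber k →+* k := (TrivSqZeroExt.fstHom k k k).toRingHom

theorem fstR_algebraMap : (fstR k).comp (algebraMap k (DualNumber k)) = RingHom.id k :=
  RingHom.ext fun _ => rfl

/-- The closed immersion `X → X_ε`. -/
def i : X ⟶ Xe k c :=
  pullback.lift (𝟙 X) (c ≫ Spec.map (CommRingCat.ofHom (fstR k))) (by
    rw [Category.assoc, ← Spec.map_comp, ← CommRingCat.ofHom_comp, fstR_algebraMap, Category.id_comp,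
      CommRingCat.ofHom_id, Spec.map_id, Category.comp_id])

theorem i_r : i k c ≫ r k c = 𝟙 X := pullback.lift_fst _ _ _

theorem r_i_apply (x : X) : r k c (i k c x) = x := by
  rw [← Scheme.Hom.comp_apply, i_r]; rfl

theorem le_i_preimage (U : X.Opens) : U ≤ i k c ⁻¹ᵁ (r k c ⁻¹ᵁ U) := fun x hx => by
  show r k c (i k c x) ∈ U
  rwa [r_i_apply]

/-- `X_ε → X` on sections. -/
def rU' (U : X.Opens) : Γ(X, U) →+* Γ(Xe k c, r k c ⁻¹ᵁ U) := ((r k c).app U).hom

/-- `X → X_ε` on sections. -/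
def iU (U : X.Opens) : Γ(Xe k c, r k c ⁻¹ᵁ U) →+* Γ(X, U) :=
  ((i k c).appLE (r k c ⁻¹ᵁ U) U (le_i_preimage k c U)).hom

theorem iU_rU' (U : X.Opens) (a : Γ(X, U)) : iU k c U (rU' k c U a) = a := by
  show ((r k c).app U ≫ (i k c).appLE (r k c ⁻¹ᵁ U) U (le_i_preimage k c U)) a = a
  have key : ∀ (f : X ⟶ X), f = 𝟙 X → ∀ h, f.appLE U U h a = a := by rintro _ rfl h; simp [Scheme.Hom.appLE]; exact congr($(X.presheaf.map_id _) a)
  rw [Scheme.Hom.app_eq_appLE, Scheme.Hom.appLE_comp_appLE]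
  exact key _ (i_r k c) _
theorem rU'_res {U V : X.Opens} (h : V ≤ U) (a : Γ(X, U)) :
    (Xe k c).presheaf.map (homOfLE ((r k c).preimage_mono h)).op (rU' k c U a) =
      rU' k c V (X.presheaf.map (homOfLE h).op a) :=
  (NatTrans.naturality_apply (r k c).c (homOfLE h).op a).symm

theorem iU_res {U V : X.Opens} (h : V ≤ U) (t : Γ(Xe k c, r k c ⁻¹ᵁ U)) :
    X.presheaf.map (homOfLE h).op (iU k c U t) =
      iU k c V ((Xe k c).presheaf.map (homOfLE ((r k c).preimage_mono h)).op t) := by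
  show ((i k c).appLE (r k c ⁻¹ᵁ U) U _ ≫ X.presheaf.map (homOfLE h).op) t =
    ((Xe k c).presheaf.map (homOfLE ((r k c).preimage_mono h)).op ≫ (i k c).appLE (r k c ⁻¹ᵁ V) V _) t
  rw [Scheme.Hom.appLE_map, Scheme.Hom.map_appLE]

/-- `ε` as a global function. -/
def eTop : Γ(Xe k c, ⊤) :=
  (pullback.snd c (spEps k)).appTop ((Scheme.ΓSpecIso (CommRingCat.of (DualNumber k))).inv ε)

/-- `ε` on an open. -/
def e (U : X.Opens) : Γ(Xe k c, r k c ⁻¹ᵁ U) :=
  (Xe k c).presheaf.map (homOfLE (le_top : r k c ⁻¹ᵁ U ≤ ⊤)).op (eTop k c)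

theorem e_res {U V : X.Opens} (h : V ≤ U) :
    (Xe k c).presheaf.map (homOfLE ((r k c).preimage_mono h)).op (e k c U) = e k c V := by
  rw [e, e, ← CommRingCat.comp_apply, ← Functor.map_comp]
  rfl

theorem e_mul_e (U : X.Opens) : e k c U * e k c U = 0 := by
  rw [e, ← map_mul, eTop, ← map_mul, ← map_mul, DualNumber.eps_mul_eps, map_zero, map_zero, map_zero]

theorem iU_e (U : X.Opens) : iU k c U (e k c U) = 0 := by
  have h := ConcreteCategory.congr_hom
    (Scheme.ΓSpecIso_inv_naturality (CommRingCat.ofHom (fstR k))) (ε : DualNumber k)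
  have h' : (Spec.map (CommRingCat.ofHom (fstR k))).appTop
      ((Scheme.ΓSpecIso (CommRingCat.of (DualNumber k))).inv ε) = 0 := by
    refine h.symm.trans ?_
    show (Scheme.ΓSpecIso (CommRingCat.of k)).inv (TrivSqZeroExt.fst (ε : DualNumber k)) = 0
    rw [DualNumber.fst_eps, map_zero]
  show ((Xe k c).presheaf.map _ ≫ (i k c).appLE (r k c ⁻¹ᵁ U) U _) (eTop k c) = 0
  rw [Scheme.Hom.map_appLE]
  have e2 : (i k c).appTop (eTop k c) = 0 := by
    show (i k c ≫ pullback.snd c (spEps k)).appTop _ = 0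
    rw [show i k c ≫ pullback.snd c (spEps k) = c ≫ Spec.map (CommRingCat.ofHom (fstR k)) from pullback.lift_snd _ _ _,
      Scheme.Hom.comp_appTop, CommRingCat.comp_apply, h', map_zero]
  show X.presheaf.map _ ((i k c).appTop (eTop k c)) = 0
  rw [e2, map_zero]

/-- `(a, b) ↦ a + b ε`. -/
def comb (U : X.Opens) : DualNumber Γ(X, U) →+* Γ(Xe k c, r k c ⁻¹ᵁ U) where
  toFun p := rU' k c U p.fst + rU' k c U p.snd * e k c U
  map_one' := by simp
  map_zero' := by simp
  map_add' p q := by simp only [TrivSqZeroExt.fst_add, TrivSqZeroExt.snd_add, map_add]; ring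
  map_mul' p q := by
    simp only [TrivSqZeroExt.fst_mul, DualNumber.snd_mul, map_add, map_mul]
    linear_combination -(rU' k c U p.snd * rU' k c U q.snd) * e_mul_e k c U

theorem comb_res {U V : X.Opens} (h : V ≤ U) (a b : Γ(X, U)) :
    (Xe k c).presheaf.map (homOfLE ((r k c).preimage_mono h)).op (rU' k c U a + rU' k c U b * e k c U) =
      rU' k c V (X.presheaf.map (homOfLE h).op a) + rU' k c V (X.presheaf.map (homOfLE h).op b) * e k c V := by
  rw [map_add, map_mul, rU'_res k c h, rU'_res k c h, e_res k c h]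

variable {k c} in
theorem bijective_comb {W : X.Opens} (hW : IsAffineOpen W) : Function.Bijective (comb k c W) := by
  have hS := isAffineOpen_top (Spec (CommRingCat.of k))
  have hT := isAffineOpen_top (Spec (CommRingCat.of (DualNumber k)))
  have hUY : r k c ⁻¹ᵁ W = r k c ⁻¹ᵁ W ⊓ (pullback.snd c (spEps k)) ⁻¹ᵁ ⊤ := by simp
  have P := FlatH4.isPushout_sections (IsPullback.of_hasPullback c (spEps k)) (US := ⊤) (UT := ⊤) (UX := W)
    (UY := r k c ⁻¹ᵁ W) le_top le_top hUY hS hT hW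
  let ψ : CommRingCat.of (DualNumber Γ(X, W)) ⟶ Γ(Xe k c, r k c ⁻¹ᵁ W) := CommRingCat.ofHom (comb k c W)
  let σ : k →+* Γ(X, W) := ((c.appLE ⊤ W le_top).hom).comp (Scheme.ΓSpecIso (CommRingCat.of k)).inv.hom
  letI : Algebra k Γ(X, W) := σ.toAlgebra
  let μ : DualNumber k →+* DualNumber Γ(X, W) :=
    (DualNumber.lift ⟨⟨(TrivSqZeroExt.inlAlgHom k Γ(X, W) Γ(X, W)).comp (Algebra.ofId k Γ(X, W)), ε⟩,
      DualNumber.eps_mul_eps, fun _ => Commute.all _ _⟩).toRingHom
  let τ : Γ(Spec (CommRingCat.of (DualNumber k)), ⊤) ⟶ CommRingCat.of (DualNumber Γ(X, W)) :=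
    (Scheme.ΓSpecIso (CommRingCat.of (DualNumber k))).hom ≫ CommRingCat.ofHom μ
  let inl : Γ(X, W) ⟶ CommRingCat.of (DualNumber Γ(X, W)) :=
    CommRingCat.ofHom (TrivSqZeroExt.inlHom Γ(X, W) Γ(X, W))
  have hμ : ∀ a : k, μ (algebraMap k (DualNumber k) a) = TrivSqZeroExt.inl (σ a) := fun a => by
    simp [μ]; rfl
  have hw : c.appLE ⊤ W le_top ≫ inl = (spEps k).appLE ⊤ ⊤ le_top ≫ τ := by
    rw [← cancel_epi (Scheme.ΓSpecIso (CommRingCat.of k)).inv]
    refine CommRingCat.hom_ext (RingHom.ext fun a => ?_)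
    show TrivSqZeroExt.inl (σ a) = μ ((Scheme.ΓSpecIso (CommRingCat.of (DualNumber k))).hom
      ((spEps k).appLE ⊤ ⊤ le_top ((Scheme.ΓSpecIso (CommRingCat.of k)).inv a)))
    rw [show (spEps k).appLE ⊤ ⊤ le_top ((Scheme.ΓSpecIso (CommRingCat.of k)).inv a) =
      (Scheme.ΓSpecIso (CommRingCat.of (DualNumber k))).inv (algebraMap k (DualNumber k) a) from by
        rw [show (spEps k).appLE ⊤ ⊤ le_top = (spEps k).appTop from Scheme.Hom.appLE_eq_app _]
        exact (ConcreteCategory.congr_hom (Scheme.ΓSpecIso_inv_naturality (CommRingCat.ofHom (algebraMap k (DualNumber k)))) a).symm,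
      Iso.inv_hom_id_apply, hμ]
  let φ : Γ(Xe k c, r k c ⁻¹ᵁ W) ⟶ CommRingCat.of (DualNumber Γ(X, W)) := P.desc inl τ hw
  have hφr : ∀ a, φ (rU' k c W a) = TrivSqZeroExt.inl a := fun a => by
    have h := ConcreteCategory.congr_hom (P.inl_desc inl τ hw) a
    exact (congrArg φ (ConcreteCategory.congr_hom (Scheme.Hom.appLE_eq_app (r k c) (U := W)).symm a)).trans h
  have hφe : φ (e k c W) = (ε : DualNumber Γ(X, W)) := by
    have h := ConcreteCategory.congr_hom (P.inr_desc inl τ hw)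
      ((Scheme.ΓSpecIso (CommRingCat.of (DualNumber k))).inv ε)
    refine h.trans ?_
    show μ ((Scheme.ΓSpecIso (CommRingCat.of (DualNumber k))).hom ((Scheme.ΓSpecIso (CommRingCat.of (DualNumber k))).inv ε)) = ε
    rw [Iso.inv_hom_id_apply]
    simp [μ]
  have h1 : ψ ≫ φ = 𝟙 _ := by
    refine CommRingCat.hom_ext (RingHom.ext fun (p : DualNumber Γ(X, W)) => ?_)
    show φ (rU' k c W p.fst + rU' k c W p.snd * e k c W) = p
    rw [map_add, map_mul, hφr, hφr, hφe]
    refine TrivSqZeroExt.ext ?_ ?_ <;> simp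
  have h2 : φ ≫ ψ = 𝟙 _ := by
    refine P.hom_ext ?_ ?_
    · rw [← Category.assoc, P.inl_desc, Category.comp_id, Scheme.Hom.appLE_eq_app]
      ext a
      show rU' k c W a + rU' k c W 0 * e k c W = (r k c).app W a
      rw [map_zero, zero_mul, add_zero]; rfl
    · rw [← Category.assoc, P.inr_desc, Category.comp_id, ← cancel_epi (Scheme.ΓSpecIso (CommRingCat.of (DualNumber k))).inv]
      apply CommRingCat.hom_ext
      refine DualNumber.ringHom_ext (RingHom.ext fun a => ?_) ?_
      · have hw' := ConcreteCategory.congr_hom P.w ((Scheme.ΓSpecIso (CommRingCat.of k)).inv a)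
        show comb k c W (μ ((Scheme.ΓSpecIso (CommRingCat.of (DualNumber k))).hom ((Scheme.ΓSpecIso (CommRingCat.of (DualNumber k))).inv (algebraMap k (DualNumber k) a)))) = _
        rw [Iso.inv_hom_id_apply, hμ]
        show rU' k c W (σ a) + rU' k c W 0 * e k c W = _
        rw [map_zero, zero_mul, add_zero]
        refine ((ConcreteCategory.congr_hom (congrArg (c.appLE ⊤ W le_top ≫ ·) (Scheme.Hom.appLE_eq_app (r k c)))
          ((Scheme.ΓSpecIso (CommRingCat.of k)).inv a)).symm.trans hw').trans ?_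
        refine congrArg ((pullback.snd c (spEps k)).appLE ⊤ (r k c ⁻¹ᵁ W) (by simp)) ?_
        rw [show (spEps k).appLE ⊤ ⊤ le_top = (spEps k).appTop from Scheme.Hom.appLE_eq_app _]
        exact (ConcreteCategory.congr_hom (Scheme.ΓSpecIso_inv_naturality (CommRingCat.ofHom (algebraMap k (DualNumber k)))) a).symm
      · show comb k c W (μ ((Scheme.ΓSpecIso (CommRingCat.of (DualNumber k))).hom ((Scheme.ΓSpecIso (CommRingCat.of (DualNumber k))).inv ε))) = _
        rw [Iso.inv_hom_id_apply, show μ ε = ε by simp [μ]]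
        show rU' k c W 0 + rU' k c W 1 * e k c W = _
        rw [map_zero, map_one, zero_add, one_mul]
        rfl
  exact Function.bijective_iff_has_inverse.2
    ⟨φ, fun p => ConcreteCategory.congr_hom h1 p, fun t => ConcreteCategory.congr_hom h2 t⟩

theorem injective_comb (U : X.Opens) : Function.Injective (comb k c U) := by
  refine (injective_iff_map_eq_zero _).2 fun p hp => ?_
  have hloc : ∀ (W : X.Opens) (hW : IsAffineOpen W) (h : W ≤ U),
      X.presheaf.map (homOfLE h).op p.fst = 0 ∧ X.presheaf.map (homOfLE h).op p.snd = 0 := fun W hW h => by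
    let q : DualNumber Γ(X, W) :=
      TrivSqZeroExt.inl (X.presheaf.map (homOfLE h).op p.fst) + TrivSqZeroExt.inr (X.presheaf.map (homOfLE h).op p.snd)
    have hq : comb k c W q = 0 := by
      have h2 := congrArg ((Xe k c).presheaf.map (homOfLE ((r k c).preimage_mono h)).op) hp
      rw [map_zero] at h2
      refine Eq.trans ?_ h2
      refine Eq.trans ?_ (comb_res k c h p.fst p.snd).symm
      show rU' k c W q.fst + rU' k c W q.snd * e k c W = _
      simp [q]
    have h0 := (bijective_comb (k := k) (c := c) hW).1 (hq.trans (map_zero (comb k c W)).symm)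
    have h1 := congrArg TrivSqZeroExt.fst h0
    have h2 := congrArg TrivSqZeroExt.snd h0
    simp [q] at h1 h2
    exact ⟨h1, h2⟩
  refine TrivSqZeroExt.ext ?_ ?_ <;>
  · refine TopCat.Presheaf.section_ext X.sheaf U _ _ fun x hx => ?_
    obtain ⟨W, hW, hxW, hWU⟩ := exists_isAffineOpen_mem_and_subset hx
    have hWU' : W ≤ U := hWU
    refine (TopCat.Presheaf.germ_res_apply X.presheaf (homOfLE hWU') x hxW _).symm.trans ?_
    first
      | rw [(hloc W hW hWU').1]
      | rw [(hloc W hW hWU').2]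
    exact (map_zero _).trans (map_zero (X.presheaf.germ U x hx).hom).symm

theorem injective_r : Function.Injective (r k c) := by
  intro z z' hzz
  obtain ⟨W, hW, hzW, -⟩ := exists_isAffineOpen_mem_and_subset (show r k c z ∈ (⊤ : X.Opens) from trivial)
  haveI : IsAffineHom (r k c) := MorphismProperty.pullback_fst (P := @IsAffineHom) c (spEps k) inferInstance
  have hV : IsAffineOpen (r k c ⁻¹ᵁ W) := hW.preimage (r k c)
  have hz : z ∈ r k c ⁻¹ᵁ W := hzW
  have hz' : z' ∈ r k c ⁻¹ᵁ W := by show r k c z' ∈ W; rw [← hzz]; exact hzW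
  have key : ∀ (y : Xe k c) (hy : y ∈ r k c ⁻¹ᵁ W) (p : DualNumber Γ(X, W)),
      comb k c W p ∈ (hV.primeIdealOf ⟨y, hy⟩).asIdeal ↔
        p.fst ∈ (hW.primeIdealOf ⟨r k c y, hy⟩).asIdeal := fun y hy p => by
    have he : e k c W ∈ (hV.primeIdealOf ⟨y, hy⟩).asIdeal :=
      (hV.primeIdealOf ⟨y, hy⟩).2.isRadical ⟨2, by rw [pow_two, e_mul_e]; exact zero_mem _⟩
    have hc := hW.comap_primeIdealOf_appLE (f := r k c) W (r k c ⁻¹ᵁ W) hV le_rfl hy
    rw [← hc, Scheme.Hom.appLE_eq_app]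
    exact Ideal.add_mem_iff_left _ (Ideal.mul_mem_left _ _ he)
  have hp : hV.primeIdealOf ⟨z, hz⟩ = hV.primeIdealOf ⟨z', hz'⟩ := by
    refine PrimeSpectrum.ext (Ideal.ext fun t => ?_)
    obtain ⟨p, rfl⟩ := (bijective_comb hW).2 t
    rw [key, key]
    simp only [hzz]
  have h := congrArg hV.fromSpec hp
  rwa [hV.fromSpec_primeIdealOf, hV.fromSpec_primeIdealOf] at h

theorem isClosedEmbedding_r : Topology.IsClosedEmbedding (r k c) := by
  have h : ∀ z, i k c (r k c z) = z := fun z => injective_r k c (r_i_apply k c _)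
  exact (Homeomorph.mk ⟨r k c, i k c, h, r_i_apply k c⟩ (r k c).continuous (i k c).continuous).isClosedEmbedding

end Groth.Agent.EtPic3.Dual
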