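import Groth.Agent.Lib.EtPic3.DualNum

/-!
# `H¹(X_ε, O^×) = H¹(X, O) × H¹(X, O^×)`
-/

set_option autoImplicit false
set_option linter.style.haveILetI false
set_option backward.isDefEq.respectTransparency false

universe u

open CategoryTheory CategoryTheory.Limits AlgebraicGeometry TopologicalSpace Opposite

noncomputable section

namespace Groth.Agent.EtPic3.Dual

variable (k : Type u) [Field k] {X : Scheme.{u}} (c : X ⟶ Spec (CommRingCat.of k))

theorem comb_inl_inr (U : X.Opens) (a b : Γ(X, U)) :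
    comb k c U (TrivSqZeroExt.inl a + TrivSqZeroExt.inr b) = rU' k c U a + rU' k c U b * e k c U := by
  show rU' k c U (TrivSqZeroExt.inl a + TrivSqZeroExt.inr b : DualNumber Γ(X, U)).fst +
    rU' k c U (TrivSqZeroExt.inl a + TrivSqZeroExt.inr b : DualNumber Γ(X, U)).snd * e k c U = _
  simp

/-- `a ↦ 1 + a ε`. -/
def oneEps (U : X.Opens) (a : Γ(X, U)) : Γ(Xe k c, r k c ⁻¹ᵁ U)ˣ where
  val := 1 + rU' k c U a * e k c U
  inv := 1 - rU' k c U a * e k c U
  val_inv := by linear_combination -(rU' k c U a * rU' k c U a) * e_mul_e k c U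
  inv_val := by linear_combination -(rU' k c U a * rU' k c U a) * e_mul_e k c U

theorem oneEps_add (U : X.Opens) (a b : Γ(X, U)) : oneEps k c U (a + b) = oneEps k c U a * oneEps k c U b := by
  refine Units.ext ?_
  show (1 : Γ(Xe k c, r k c ⁻¹ᵁ U)) + rU' k c U (a + b) * e k c U =
    (1 + rU' k c U a * e k c U) * (1 + rU' k c U b * e k c U)
  rw [map_add]
  linear_combination -(rU' k c U a * rU' k c U b) * e_mul_e k c U

theorem oneEps_res {U V : X.Opens} (h : V ≤ U) (a : Γ(X, U)) :
    Units.map ((Xe k c).presheaf.map (homOfLE ((r k c).preimage_mono h)).op).hom.toMonoidHom (oneEps k c U a) =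
      oneEps k c V (X.presheaf.map (homOfLE h).op a) := by
  refine Units.ext ?_
  show (Xe k c).presheaf.map (homOfLE ((r k c).preimage_mono h)).op (1 + rU' k c U a * e k c U) =
    1 + rU' k c V (X.presheaf.map (homOfLE h).op a) * e k c V
  rw [map_add, map_one, map_mul, rU'_res k c h, e_res k c h]

/-- `O → r_* O_ε^×`. -/
def epsHom : Coh.toAb (Coh.structureModule X) ⟶ (CohTop.push (r k c).base).obj (UnitsSh.unitsAb (Xe k c)) :=
  ⟨{ app := fun U => AddCommGrpCat.ofHom
      { toFun := fun a => UnitsSh.sectOfUnit (O := (Xe k c).presheaf) (oneEps k c U.unop a)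
        map_zero' := congrArg Additive.ofMul (Units.ext (show (1 : Γ(Xe k c, r k c ⁻¹ᵁ U.unop)) +
          rU' k c U.unop (0 : Γ(X, U.unop)) * e k c U.unop = 1 by rw [map_zero, zero_mul, add_zero]))
        map_add' := fun a b => congrArg Additive.ofMul (oneEps_add k c U.unop a b) }
     naturality := fun U V j => by
      ext a
      exact (congrArg Additive.ofMul (oneEps_res k c j.unop.le a)).symm }⟩

/-- `r_* O_ε^× → O^×`. -/
def iHom : (CohTop.push (r k c).base).obj (UnitsSh.unitsAb (Xe k c)) ⟶ UnitsSh.unitsAb X :=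
  ⟨{ app := fun U => AddCommGrpCat.ofHom
      { toFun := fun t => Additive.ofMul (Units.map (iU k c U.unop).toMonoidHom (Additive.toMul t))
        map_zero' := congrArg Additive.ofMul (map_one _)
        map_add' := fun s t => congrArg Additive.ofMul (map_mul _ _ _) }
     naturality := fun U V j => by
      ext t
      exact congrArg Additive.ofMul (Units.ext (iU_res k c j.unop.le _).symm) }⟩

theorem comap_iHom : UnitsSh.comap (r k c) ≫ iHom k c = 𝟙 _ := by
  apply Sheaf.hom_ext
  ext U a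
  exact congrArg Additive.ofMul (Units.ext (iU_rU' k c U.unop _))

theorem epsHom_iHom : epsHom k c ≫ iHom k c = 0 := by
  apply Sheaf.hom_ext
  ext U a
  refine congrArg Additive.ofMul (Units.ext ?_)
  show iU k c U.unop (1 + rU' k c U.unop (show Γ(X, U.unop) from a) * e k c U.unop) = 1
  rw [map_add, map_one, map_mul, iU_e, mul_zero, add_zero]

/-- `0 → O → r_* O_ε^× → O^× → 0`. -/
def dsc : ShortComplex (CohTop.Ab X.toTopCat) := ShortComplex.mk (epsHom k c) (iHom k c) (epsHom_iHom k c)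

theorem exists_eps_eq (U : X.Opens) (t : Γ(Xe k c, r k c ⁻¹ᵁ U)) (ht : iU k c U t = 1) :
    ∃ b : Γ(X, U), 1 + rU' k c U b * e k c U = t := by
  choose W hW hxW hWU' using fun x : U => exists_isAffineOpen_mem_and_subset x.2
  have hWU : ∀ x, W x ≤ U := hWU'
  have hb : ∀ x, ∃ b : Γ(X, W x), 1 + rU' k c (W x) b * e k c (W x) =
      (Xe k c).presheaf.map (homOfLE ((r k c).preimage_mono (hWU x))).op t := fun x => by
    obtain ⟨p, hp⟩ := (bijective_comb (k := k) (c := c) (hW x)).2
      ((Xe k c).presheaf.map (homOfLE ((r k c).preimage_mono (hWU x))).op t)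
    have h1 : p.fst = 1 := by
      have h2 := congrArg (iU k c (W x)) hp
      rw [← iU_res k c (hWU x), ht, map_one] at h2
      rw [← h2]
      show p.fst = iU k c (W x) (rU' k c (W x) p.fst + rU' k c (W x) p.snd * e k c (W x))
      rw [map_add, map_mul, iU_rU', iU_e, mul_zero, add_zero]
    refine ⟨p.snd, ?_⟩
    rw [← hp]
    show _ = rU' k c (W x) p.fst + _
    rw [h1, map_one]
  choose b hb using hb
  have hagree : ∀ x y, X.presheaf.map (Opens.infLELeft (W x) (W y)).op (b x) =
      X.presheaf.map (Opens.infLERight (W x) (W y)).op (b y) := fun x y => by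
    let q : X.Opens := W x ⊓ W y
    have hh : ∀ (z : U) (hz : q ≤ W z), comb k c q (TrivSqZeroExt.inl 1 +
        TrivSqZeroExt.inr (X.presheaf.map (homOfLE hz).op (b z))) =
        (Xe k c).presheaf.map (homOfLE ((r k c).preimage_mono (hz.trans (hWU z)))).op t := fun z hz => by
      have h2 := congrArg ((Xe k c).presheaf.map (homOfLE ((r k c).preimage_mono hz)).op) (hb z)
      rw [map_add, map_one, map_mul, rU'_res k c hz, e_res k c hz, ← CommRingCat.comp_apply,
        ← Functor.map_comp, ← op_comp, homOfLE_comp] at h2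
      rw [← h2]
      rw [comb_inl_inr, map_one]
    have h3 := injective_comb k c q ((hh x inf_le_left).trans (hh y inf_le_right).symm)
    have h4 := congrArg TrivSqZeroExt.snd h3
    simp at h4
    exact h4
  obtain ⟨B, hB, -⟩ := X.sheaf.existsUnique_gluing' W U (fun x => homOfLE (hWU x))
    (fun y hy => Opens.mem_iSup.2 ⟨⟨y, hy⟩, hxW ⟨y, hy⟩⟩) b hagree
  refine ⟨B, TopCat.Presheaf.section_ext (Xe k c).sheaf (r k c ⁻¹ᵁ U) _ _ fun z hz => ?_⟩
  let x : U := ⟨r k c z, hz⟩
  have h2 : (Xe k c).presheaf.map (homOfLE ((r k c).preimage_mono (hWU x))).op (1 + rU' k c U B * e k c U) =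
      (Xe k c).presheaf.map (homOfLE ((r k c).preimage_mono (hWU x))).op t := by
    rw [← hb x, map_add, map_one, map_mul, rU'_res k c (hWU x), e_res k c (hWU x)]
    rw [show X.presheaf.map (homOfLE (hWU x)).op B = b x from hB x]
  have h3 := congrArg ((Xe k c).presheaf.germ (r k c ⁻¹ᵁ W x) z (hxW x)) h2
  rw [TopCat.Presheaf.germ_res_apply, TopCat.Presheaf.germ_res_apply] at h3
  exact h3

theorem dsc_shortExact : (dsc k c).ShortExact := by
  refine CohFound.shortExact_of_sections (fun U a b h => ?_) (fun U s hs => ?_) fun U s x hx =>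
    ⟨U, le_rfl, hx, (UnitsSh.comap (r k c)).hom.app (op U) s, ?_⟩
  · have h1 := congrArg (fun t : Additive Γ(Xe k c, r k c ⁻¹ᵁ U)ˣ => (Additive.toMul t).val) h
    have h2 : comb k c U (TrivSqZeroExt.inl 1 + TrivSqZeroExt.inr (show Γ(X, U) from a)) =
        comb k c U (TrivSqZeroExt.inl 1 + TrivSqZeroExt.inr (show Γ(X, U) from b)) := by
      rw [comb_inl_inr, comb_inl_inr, map_one]
      exact h1
    have h4 := congrArg TrivSqZeroExt.snd (injective_comb k c U h2)
    simp at h4
    exact h4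
  · obtain ⟨b, hb⟩ := exists_eps_eq k c U (Additive.toMul (show Additive Γ(Xe k c, r k c ⁻¹ᵁ U)ˣ from s)).val
      (congrArg (fun t : Additive Γ(X, U)ˣ => (Additive.toMul t).val) hs)
    exact ⟨b, congrArg Additive.ofMul (Units.ext hb)⟩
  · refine Eq.trans ?_ (congrArg (fun φ => (dsc k c).X₃.obj.map φ s) (Subsingleton.elim (𝟙 (op U)) _))
    rw [CategoryTheory.Functor.map_id]
    exact congr($(comap_iHom k c).hom.app (op U) s)

/-- Splitting of the middle term of a split exact piece. -/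
theorem nonempty_addEquiv_prod {A B C : Type*} [AddCommGroup A] [AddCommGroup B] [AddCommGroup C]
    (α : A →+ B) (β : B →+ C) (σ : C →+ B) (hα : Function.Injective α) (hσ : ∀ z, β (σ z) = z)
    (hαβ : ∀ a, β (α a) = 0) (hex : ∀ b, β b = 0 → ∃ a, α a = b) : Nonempty (B ≃+ A × C) := by
  refine ⟨(AddEquiv.ofBijective (α.coprod σ) ⟨?_, fun b => ?_⟩).symm⟩
  · refine (injective_iff_map_eq_zero _).2 fun p hp => ?_
    rw [AddMonoidHom.coprod_apply] at hp
    have hc : p.2 = 0 := by simpa [hαβ, hσ] using congrArg β hp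
    rw [hc, map_zero, add_zero] at hp
    exact Prod.ext (hα (hp.trans (map_zero α).symm)) hc
  · obtain ⟨a, ha⟩ := hex (b - σ (β b)) (by rw [map_sub, hσ, sub_self])
    exact ⟨(a, β b), by rw [AddMonoidHom.coprod_apply, ha, sub_add_cancel]⟩

theorem nonempty_addEquiv_H1_r :
    Nonempty (PicH1_21.H1 (r k c) ≃+ CohFound.Hc (Coh.toAb (Coh.structureModule X)) 1 ⊤ ×
      CohFound.Hc (UnitsSh.unitsAb X) 1 ⊤) := by
  have hs : ∀ (n : ℕ) (z : CohFound.Hc (UnitsSh.unitsAb X) n ⊤),
      CohFound.mp (iHom k c) n ⊤ (CohFound.mp (UnitsSh.comap (r k c)) n ⊤ z) = z := fun n z => by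
    refine (CohFound.mp_comp _ _ n ⊤ z).symm.trans ?_
    rw [comap_iHom, CohFound.mp_id]
  refine nonempty_addEquiv_prod (CohFound.mp (epsHom k c) 1 ⊤) (CohFound.mp (iHom k c) 1 ⊤)
    (CohFound.mp (UnitsSh.comap (r k c)) 1 ⊤) ?_ (hs 1) (fun a => ?_) fun b hb => ?_
  · refine (injective_iff_map_eq_zero _).2 fun a ha => ?_
    obtain ⟨y, hy⟩ := CohFound.exact₁ (dsc_shortExact k c) 0 ⊤ a ha
    rw [← hy, ← hs 0 y]
    exact CohFound.delta_mp (dsc_shortExact k c) 0 ⊤ _
  · refine (CohFound.mp_comp (epsHom k c) (iHom k c) 1 ⊤ a).symm.trans ?_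
    rw [epsHom_iHom, CohFound.mp_zero]
  · exact CohFound.exact₂ (dsc_shortExact k c) 1 ⊤ b hb

attribute [local instance] M2.law in
theorem nonempty_addEquiv_etale :
    Nonempty (EtCoh.H (Xe k c) (EtCoh.Gm (Xe k c)) 1 ≃+
      (Coh.HH X (Coh.structureModule X) 1 × EtCoh.H X (EtCoh.Gm X) 1)) := by
  obtain ⟨e₁⟩ := EtPic3.nonempty_addEquiv_H1 (Xe k c)
  obtain ⟨e₂⟩ := EtPic3.nonempty_addEquiv_H1 X
  obtain ⟨s⟩ := nonempty_addEquiv_H1_r k c
  exact ⟨(((e₁.trans (PicH1_21.picEquiv PicH1_21.good_id).symm).trans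
    (PicH1_21.picEquiv (PicH1_21.good_of_isEmbedding (isClosedEmbedding_r k c)))).trans s).trans
    (AddEquiv.prodCongr (CohFound.hExt (Coh.toAb (Coh.structureModule X)) 1).symm
      ((PicH1_21.picEquivId X).symm.trans ((PicH1_21.picEquiv PicH1_21.good_id).trans e₂.symm)))⟩

end Groth.Agent.EtPic3.Dual
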