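import Groth.Agent.Lib.EtPic3.DualSeq
import Groth.Agent.Lib.CohFound.AffMor
import Groth.Agent.Lib.CohFound.HHBridge

/-!
# The kernel of `H^q(X_ε, O^×) → H^q(X, O^×)`
-/

set_option autoImplicit false
set_option linter.style.haveILetI false
set_option backward.isDefEq.respectTransparency false

universe u

open CategoryTheory CategoryTheory.Limits AlgebraicGeometry TopologicalSpace Opposite

noncomputable section

namespace Groth.Agent.EtPic3.Dual

variable (k : Type u) [Field k] {X : Scheme.{u}} (c : X ⟶ Spec (CommRingCat.of k))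

theorem i_r_apply (z : Xe k c) : i k c (r k c z) = z := injective_r k c (r_i_apply k c _)

theorem le_r_preimage (V : (Xe k c).Opens) : V ≤ r k c ⁻¹ᵁ (i k c ⁻¹ᵁ V) := fun z hz => by
  show i k c (r k c z) ∈ V
  rwa [i_r_apply]

theorem exists_preimage_eq (V : (Xe k c).Opens) : ∃ U : X.Opens, r k c ⁻¹ᵁ U = V :=
  ⟨i k c ⁻¹ᵁ V, le_antisymm (fun z hz => by
    have h : i k c (r k c z) ∈ V := hz
    rwa [i_r_apply] at h) (le_r_preimage k c V)⟩

theorem isAffineHom_i : IsClosedImmersion (i k c) := by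
  haveI : IsAffineHom (r k c) := MorphismProperty.pullback_fst (P := @IsAffineHom) c (spEps k) inferInstance
  haveI : IsClosedImmersion (i k c ≫ r k c) := by rw [i_r]; infer_instance
  exact IsClosedImmersion.of_comp (i k c) (r k c)

/-- `X → X_ε` backwards on sections over an open of `X_ε`. -/
def rV (V : (Xe k c).Opens) : Γ(X, i k c ⁻¹ᵁ V) →+* Γ(Xe k c, V) :=
  ((r k c).appLE (i k c ⁻¹ᵁ V) V (le_r_preimage k c V)).hom

/-- `ε` on an open of `X_ε`. -/
def eV (V : (Xe k c).Opens) : Γ(Xe k c, V) := (Xe k c).presheaf.map (homOfLE (le_top : V ≤ ⊤)).op (eTop k c)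

theorem eV_preimage (U : X.Opens) : eV k c (r k c ⁻¹ᵁ U) = e k c U := rfl

theorem eV_res {V W : (Xe k c).Opens} (h : W ≤ V) :
    (Xe k c).presheaf.map (homOfLE h).op (eV k c V) = eV k c W := by
  rw [eV, eV, ← CommRingCat.comp_apply, ← Functor.map_comp]
  rfl

theorem eV_mul_eV (V : (Xe k c).Opens) : eV k c V * eV k c V = 0 := by
  rw [eV, ← map_mul, eTop, ← map_mul, ← map_mul, DualNumber.eps_mul_eps, map_zero, map_zero, map_zero]

theorem rV_res {V W : (Xe k c).Opens} (h : W ≤ V) (a : Γ(X, i k c ⁻¹ᵁ V)) :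
    (Xe k c).presheaf.map (homOfLE h).op (rV k c V a) =
      rV k c W (X.presheaf.map (homOfLE ((i k c).preimage_mono h)).op a) := by
  show ((r k c).appLE (i k c ⁻¹ᵁ V) V _ ≫ (Xe k c).presheaf.map (homOfLE h).op) a =
    (X.presheaf.map (homOfLE ((i k c).preimage_mono h)).op ≫ (r k c).appLE (i k c ⁻¹ᵁ W) W _) a
  rw [Scheme.Hom.appLE_map, Scheme.Hom.map_appLE]

theorem iU_rV (U : X.Opens) (a : Γ(X, i k c ⁻¹ᵁ (r k c ⁻¹ᵁ U))) :
    rV k c (r k c ⁻¹ᵁ U) a = rU' k c U (X.presheaf.map (homOfLE (le_i_preimage k c U)).op a) := by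
  show (r k c).appLE _ _ _ a = (X.presheaf.map (homOfLE (le_i_preimage k c U)).op ≫ (r k c).app U) a
  rw [Scheme.Hom.app_eq_appLE, Scheme.Hom.map_appLE]

theorem bijective_res_U (U : X.Opens) :
    Function.Bijective (X.presheaf.map (homOfLE (le_i_preimage k c U)).op) := by
  have h : U = i k c ⁻¹ᵁ (r k c ⁻¹ᵁ U) := le_antisymm (le_i_preimage k c U) fun x hx => by
    have h' : r k c (i k c x) ∈ U := hx
    rwa [r_i_apply] at h'
  rw [show homOfLE (le_i_preimage k c U) = eqToHom h from Subsingleton.elim _ _]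
  exact ConcreteCategory.bijective_of_isIso _

theorem app_i (U : X.Opens) (t : Γ(Xe k c, r k c ⁻¹ᵁ U)) :
    iU k c U t = X.presheaf.map (homOfLE (le_i_preimage k c U)).op ((i k c).app (r k c ⁻¹ᵁ U) t) := rfl

theorem app_i_rV (V : (Xe k c).Opens) (a : Γ(X, i k c ⁻¹ᵁ V)) : (i k c).app V (rV k c V a) = a := by
  obtain ⟨U, rfl⟩ := exists_preimage_eq k c V
  apply (bijective_res_U k c U).1
  rw [← app_i, iU_rV, iU_rU']

theorem app_i_eV (V : (Xe k c).Opens) : (i k c).app V (eV k c V) = 0 := by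
  obtain ⟨U, rfl⟩ := exists_preimage_eq k c V
  apply (bijective_res_U k c U).1
  rw [← app_i, eV_preimage, iU_e, map_zero]

theorem eps_injective (V : (Xe k c).Opens) {a b : Γ(X, i k c ⁻¹ᵁ V)}
    (h : rV k c V a * eV k c V = rV k c V b * eV k c V) : a = b := by
  obtain ⟨U, rfl⟩ := exists_preimage_eq k c V
  rw [iU_rV, iU_rV, eV_preimage] at h
  apply (bijective_res_U k c U).1
  have h2 : comb k c U (TrivSqZeroExt.inl 0 + TrivSqZeroExt.inr (X.presheaf.map (homOfLE (le_i_preimage k c U)).op a)) =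
      comb k c U (TrivSqZeroExt.inl 0 + TrivSqZeroExt.inr (X.presheaf.map (homOfLE (le_i_preimage k c U)).op b)) := by
    rw [comb_inl_inr, comb_inl_inr, h]
  have h4 := congrArg TrivSqZeroExt.snd (injective_comb k c U h2)
  simp at h4
  exact h4

theorem exists_eps_eq' (V : (Xe k c).Opens) (t : Γ(Xe k c, V)) (ht : (i k c).app V t = 1) :
    ∃ a, 1 + rV k c V a * eV k c V = t := by
  obtain ⟨U, rfl⟩ := exists_preimage_eq k c V
  obtain ⟨b, hb⟩ := exists_eps_eq k c U t (by rw [app_i, ht, map_one])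
  obtain ⟨a, rfl⟩ := (bijective_res_U k c U).2 b
  exact ⟨a, by rw [iU_rV, eV_preimage]; exact hb⟩

/-- `a ↦ 1 + a ε` over an open of `X_ε`. -/
def oneV (V : (Xe k c).Opens) (a : Γ(X, i k c ⁻¹ᵁ V)) : Γ(Xe k c, V)ˣ where
  val := 1 + rV k c V a * eV k c V
  inv := 1 - rV k c V a * eV k c V
  val_inv := by linear_combination -(rV k c V a * rV k c V a) * eV_mul_eV k c V
  inv_val := by linear_combination -(rV k c V a * rV k c V a) * eV_mul_eV k c V

theorem oneV_add (V : (Xe k c).Opens) (a b : Γ(X, i k c ⁻¹ᵁ V)) :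
    oneV k c V (a + b) = oneV k c V a * oneV k c V b := by
  refine Units.ext ?_
  show (1 : Γ(Xe k c, V)) + rV k c V (a + b) * eV k c V =
    (1 + rV k c V a * eV k c V) * (1 + rV k c V b * eV k c V)
  rw [map_add]
  linear_combination -(rV k c V a * rV k c V b) * eV_mul_eV k c V

theorem oneV_res {V W : (Xe k c).Opens} (h : W ≤ V) (a : Γ(X, i k c ⁻¹ᵁ V)) :
    Units.map ((Xe k c).presheaf.map (homOfLE h).op).hom.toMonoidHom (oneV k c V a) =
      oneV k c W (X.presheaf.map (homOfLE ((i k c).preimage_mono h)).op a) := by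
  refine Units.ext ?_
  show (Xe k c).presheaf.map (homOfLE h).op (1 + rV k c V a * eV k c V) =
    1 + rV k c W (X.presheaf.map (homOfLE ((i k c).preimage_mono h)).op a) * eV k c W
  rw [map_add, map_one, map_mul, rV_res k c h, eV_res k c h]

/-- `i_* O → O_ε^×`. -/
def epsV : (CohTop.push (i k c).base).obj (Coh.toAb (Coh.structureModule X)) ⟶ UnitsSh.unitsAb (Xe k c) :=
  ⟨{ app := fun V => AddCommGrpCat.ofHom
      { toFun := fun a => UnitsSh.sectOfUnit (O := (Xe k c).presheaf) (oneV k c V.unop a)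
        map_zero' := congrArg Additive.ofMul (Units.ext (show (1 : Γ(Xe k c, V.unop)) +
          rV k c V.unop (0 : Γ(X, i k c ⁻¹ᵁ V.unop)) * eV k c V.unop = 1 by rw [map_zero, zero_mul, add_zero]))
        map_add' := fun a b => congrArg Additive.ofMul (oneV_add k c V.unop a b) }
     naturality := fun V W j => by
      ext a
      exact (congrArg Additive.ofMul (oneV_res k c j.unop.le a)).symm }⟩

theorem epsV_comap : epsV k c ≫ UnitsSh.comap (i k c) = 0 := by
  apply Sheaf.hom_ext
  ext V a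
  refine congrArg Additive.ofMul (Units.ext ?_)
  show (i k c).app V.unop (1 + rV k c V.unop (show Γ(X, i k c ⁻¹ᵁ V.unop) from a) * eV k c V.unop) = 1
  rw [map_add, map_one, map_mul, app_i_eV, mul_zero, add_zero]

/-- The section of `O_ε^× → i_* O^×`. -/
def retr : (CohTop.push (i k c).base).obj (UnitsSh.unitsAb X) ⟶ UnitsSh.unitsAb (Xe k c) :=
  ⟨{ app := fun V => AddCommGrpCat.ofHom
      { toFun := fun t => Additive.ofMul (Units.map (rV k c V.unop).toMonoidHom (Additive.toMul t))
        map_zero' := congrArg Additive.ofMul (map_one _)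
        map_add' := fun s t => congrArg Additive.ofMul (map_mul _ _ _) }
     naturality := fun V W j => by
      ext t
      exact congrArg Additive.ofMul (Units.ext (rV_res k c j.unop.le _).symm) }⟩

theorem retr_comap : retr k c ≫ UnitsSh.comap (i k c) = 𝟙 _ := by
  apply Sheaf.hom_ext
  ext V a
  exact congrArg Additive.ofMul (Units.ext (app_i_rV k c V.unop _))

/-- `0 → i_* O → O_ε^× → i_* O^× → 0`. -/
def tsc : ShortComplex (CohTop.Ab (Xe k c).toTopCat) :=
  ShortComplex.mk (epsV k c) (UnitsSh.comap (i k c)) (epsV_comap k c)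

theorem tsc_shortExact : (tsc k c).ShortExact := by
  refine CohFound.shortExact_of_sections (fun V a b h => ?_) (fun V s hs => ?_) fun V s x hx =>
    ⟨V, le_rfl, hx, (retr k c).hom.app (op V) s, ?_⟩
  · have h1 := congrArg (fun t : Additive Γ(Xe k c, V)ˣ => (Additive.toMul t).val) h
    exact eps_injective k c V (add_left_cancel (a := (1 : Γ(Xe k c, V))) h1)
  · obtain ⟨b, hb⟩ := exists_eps_eq' k c V (Additive.toMul (show Additive Γ(Xe k c, V)ˣ from s)).val
      (congrArg (fun t : Additive Γ(X, i k c ⁻¹ᵁ V)ˣ => (Additive.toMul t).val) hs)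
    exact ⟨b, congrArg Additive.ofMul (Units.ext hb)⟩
  · refine Eq.trans ?_ (congrArg (fun φ => (tsc k c).X₃.obj.map φ s) (Subsingleton.elim (𝟙 (op V)) _))
    rw [CategoryTheory.Functor.map_id]
    exact congr($(retr_comap k c).hom.app (op V) s)

theorem mp_epsV_injective (q : ℕ) : Function.Injective (CohFound.mp (epsV k c) q ⊤) := by
  cases q with
  | zero => exact CohFound.mp_f_injective (tsc_shortExact k c) ⊤
  | succ q =>
    refine (injective_iff_map_eq_zero _).2 fun a ha => ?_
    obtain ⟨y, hy⟩ := CohFound.exact₁ (tsc_shortExact k c) q ⊤ a ha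
    rw [← hy, show y = CohFound.mp (tsc k c).g q ⊤ (CohFound.mp (retr k c) q ⊤ y) from
      (CohFound.mp_id _ q ⊤ y).symm.trans ((congrArg (fun φ => CohFound.mp φ q ⊤ y) (retr_comap k c).symm).trans
        (CohFound.mp_comp _ _ q ⊤ y))]
    exact CohFound.delta_mp (tsc_shortExact k c) q ⊤ _

/-- The kernel of `H^q` of `comap` along a morphism isomorphic to `i`. -/
theorem nonempty_ker_equiv (q : ℕ) {X' : Scheme.{u}} (g : X' ⟶ Xe k c) (j : X' ≅ X) (hg : g = j.hom ≫ i k c) :
    Nonempty ((Sheaf.H.map (UnitsSh.comap g) q).ker ≃+ Coh.HH X' (Coh.structureModule X') q) := by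
  haveI := isAffineHom_i k c
  haveI : IsClosedImmersion j.hom := inferInstance
  have hgcomp : UnitsSh.comap g = UnitsSh.comap (i k c) ≫ (CohTop.push (i k c).base).map (UnitsSh.comap j.hom) ≫
      eqToHom (by rw [hg]; rfl) := by
    subst hg
    simp only [eqToHom_refl, Category.comp_id]
    apply Sheaf.hom_ext
    ext V t
    exact congrArg Additive.ofMul (Units.ext (show (j.hom ≫ i k c).app V.unop _ = _ by
      rw [Scheme.Hom.comp_app]; rfl))
  haveI : IsIso (UnitsSh.comap j.hom) := by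
    haveI : IsIso (UnitsSh.comap j.hom).hom := by
      haveI : ∀ U, IsIso ((UnitsSh.comap j.hom).hom.app U) := fun U => by
        haveI : IsIso (j.hom.c.app U) := inferInstanceAs (IsIso (j.hom.app U.unop))
        exact inferInstanceAs (IsIso (UnitsSh.unitsFunctor.map (j.hom.c.app U)))
      exact NatIso.isIso_of_isIso_app _
    haveI : IsIso ((sheafToPresheaf (Opens.grothendieckTopology X.toTopCat) AddCommGrpCat.{u}).map (UnitsSh.comap j.hom)) :=
      ‹IsIso (UnitsSh.comap j.hom).hom›
    exact isIso_of_fully_faithful (sheafToPresheaf _ _) _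
  have hker : ∀ x : CohTop.H (UnitsSh.unitsAb (Xe k c)) q, Sheaf.H.map (UnitsSh.comap g) q x = 0 ↔
      ∃ a, CohFound.mp (epsV k c) q ⊤ a = CohFound.hExt (UnitsSh.unitsAb (Xe k c)) q x := fun x => by
    rw [← (CohFound.hExt _ q).map_eq_zero_iff]
    erw [CohFound.hExt_map]
    constructor
    · intro h
      rw [hgcomp, CohFound.mp_comp] at h
      exact CohFound.exact₂ (tsc_shortExact k c) q ⊤ _
        ((CohFound.mpEquiv (asIso ((CohTop.push (i k c).base).map (UnitsSh.comap j.hom) ≫
          eqToHom (by rw [hg]; rfl))) q ⊤).map_eq_zero_iff.1 h)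
    · rintro ⟨a, ha⟩
      refine (congrArg _ ha.symm).trans ?_
      rw [hgcomp]
      refine (CohFound.mp_comp (epsV k c) _ q ⊤ a).symm.trans ?_
      rw [← Category.assoc, epsV_comap, zero_comp, CohFound.mp_zero]
  let F := (CohTop.push (i k c).base).obj (Coh.toAb (Coh.structureModule X))
  let K : AddSubgroup (CohTop.H (UnitsSh.unitsAb (Xe k c)) q) := (Sheaf.H.map (UnitsSh.comap g) q).ker
  letI : AddCommGroup K := AddSubgroup.toAddCommGroup K
  let θ : CohFound.Hc F q ⊤ →+ K :=
    AddMonoidHom.codRestrict ((CohFound.hExt _ q).symm.toAddMonoidHom.comp (CohFound.mp (epsV k c) q ⊤)) _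
      fun a => (hker _).2 ⟨a, ((CohFound.hExt (UnitsSh.unitsAb (Xe k c)) q).apply_symm_apply _).symm⟩
  let E₁ := AddEquiv.ofBijective θ ⟨fun a b h => mp_epsV_injective k c q
    ((CohFound.hExt _ q).symm.injective (congrArg Subtype.val h)), fun x => by
      obtain ⟨a, ha⟩ := (hker x.1).1 x.2
      exact ⟨a, Subtype.ext ((congrArg _ ha).trans ((CohFound.hExt _ q).symm_apply_apply _))⟩⟩
  haveI : IsAffineHom (i k c) := inferInstance
  haveI : IsAffineHom j.hom := inferInstance
  haveI := M1.isQCoh_structureModule X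
  haveI := M1.isQCoh_structureModule X'
  obtain ⟨E₂⟩ := CohFound.nonempty_hc_push_isAffineHom (i k c) (Coh.structureModule X) q ⊤
  obtain ⟨E₃⟩ := CohFound.nonempty_hc_push_isAffineHom j.hom (Coh.structureModule X') q ⊤
  let ψ : Coh.toAb (Coh.structureModule X) ⟶ (CohTop.push j.hom.base).obj (Coh.toAb (Coh.structureModule X')) :=
    ⟨{ app := fun U => AddCommGrpCat.ofHom (j.hom.app U.unop).hom.toAddMonoidHom
       naturality := fun U W f => by
        ext a
        exact NatTrans.naturality_apply j.hom.c f a }⟩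
  haveI : IsIso ψ := by
    haveI : IsIso ψ.hom := by
      haveI : ∀ U, IsIso (ψ.hom.app U) := fun U =>
        (ConcreteCategory.isIso_iff_bijective _).2 (ConcreteCategory.bijective_of_isIso (j.hom.app U.unop))
      exact NatIso.isIso_of_isIso_app _
    haveI : IsIso ((sheafToPresheaf (Opens.grothendieckTopology X) AddCommGrpCat.{u}).map ψ) := ‹IsIso ψ.hom›
    exact isIso_of_fully_faithful (sheafToPresheaf _ _) _
  exact ⟨(E₁.symm.trans ((CohFound.mpEquiv (CohFound.abFPushIso (i k c) (Coh.structureModule X)).symm q ⊤).trans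
    (E₂.trans ((CohFound.mpEquiv (asIso ψ ≪≫ (CohFound.abFPushIso j.hom (Coh.structureModule X')).symm) q ⊤).trans
      E₃)))).trans (CohFound.hhExt (Coh.structureModule X') q).symm⟩

end Groth.Agent.EtPic3.Dual
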