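import Mathlib.RingTheory.TensorProduct.Maps
import Mathlib.RingTheory.Flat.Basic
import Mathlib.RingTheory.Ideal.Span

/-!
# Hilbert 90 along a flat ring map
-/

set_option autoImplicit false

universe u

open TensorProduct

namespace Groth.Agent.EtPic3

variable {A B : Type u} [CommRing A] [CommRing B] [Algebra A B]

/-- `(x₀, x₁) ↦ (x₀, x₁, x₂)`. -/
noncomputable abbrev e01 : B ⊗[A] B →ₐ[A] B ⊗[A] (B ⊗[A] B) :=
  Algebra.TensorProduct.map (AlgHom.id A B) Algebra.TensorProduct.includeLeft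

/-- `(x₀, x₂) ↦ (x₀, x₁, x₂)`. -/
noncomputable abbrev e02 : B ⊗[A] B →ₐ[A] B ⊗[A] (B ⊗[A] B) :=
  Algebra.TensorProduct.map (AlgHom.id A B) Algebra.TensorProduct.includeRight

/-- `(x₁, x₂) ↦ (x₀, x₁, x₂)`. -/
noncomputable abbrev e12 : B ⊗[A] B →ₐ[A] B ⊗[A] (B ⊗[A] B) := Algebra.TensorProduct.includeRight

/-- The descended line of a multiplicative cocycle generates the unit ideal. -/
theorem span_twisted_eq_top [Module.Flat A B] (g : (B ⊗[A] B)ˣ)
    (hg : e02 (g : B ⊗[A] B) = e01 (g : B ⊗[A] B) * e12 (g : B ⊗[A] B)) :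
    Ideal.span {m : B | m ⊗ₜ[A] (1 : B) = g * ((1 : B) ⊗ₜ[A] m)} = ⊤ := by
  set S := {m : B | m ⊗ₜ[A] (1 : B) = g * ((1 : B) ⊗ₜ[A] m)}
  let μ : B ⊗[A] B →ₐ[A] B := Algebra.TensorProduct.lmul' A
  have hμ1 : μ (g : B ⊗[A] B) = 1 := by
    let ν : B ⊗[A] (B ⊗[A] B) →ₐ[A] B := μ.comp (Algebra.TensorProduct.map (AlgHom.id A B) μ)
    have h01 : ν.comp e01 = μ := Algebra.TensorProduct.ext' fun x y => by simp [ν, μ]
    have h02 : ν.comp e02 = μ := Algebra.TensorProduct.ext' fun x y => by simp [ν, μ]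
    have h12 : ν.comp e12 = μ := Algebra.TensorProduct.ext' fun x y => by simp [ν, μ]
    have h := congrArg ν hg
    rw [map_mul, ← AlgHom.comp_apply, ← AlgHom.comp_apply ν e01, ← AlgHom.comp_apply ν e12, h01, h02, h12] at h
    exact ((g.isUnit.map μ).mul_eq_left.mp h.symm)
  let φ : B →ₗ[A] B ⊗[A] B :=
    (TensorProduct.mk A B B).flip 1 - (LinearMap.mulLeft A (g : B ⊗[A] B)).comp (TensorProduct.mk A B B 1)
  have hφ : ∀ b, φ b = b ⊗ₜ[A] (1 : B) - g * ((1 : B) ⊗ₜ[A] b) := fun b => rfl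
  let z : B ⊗[A] B := ((g⁻¹ : (B ⊗[A] B)ˣ) : B ⊗[A] B)
  have key : ∀ w : B ⊗[A] B, φ.lTensor B w = e01 w - e12 (g : B ⊗[A] B) * e02 w := fun w => by
    induction w using TensorProduct.induction_on with
    | zero => simp
    | tmul x y => simp [hφ, TensorProduct.tmul_sub]
    | add x y hx hy => simp only [map_add, hx, hy, mul_add]; abel
  have hz : φ.lTensor B z = 0 := by
    rw [key, sub_eq_zero]
    have h01 : e01 (g : B ⊗[A] B) * e01 z = 1 := by rw [← map_mul, Units.mul_inv, map_one]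
    have h02 : e02 (g : B ⊗[A] B) * e02 z = 1 := by rw [← map_mul, Units.mul_inv, map_one]
    calc e01 z = e01 z * (e02 (g : B ⊗[A] B) * e02 z) := by rw [h02, mul_one]
      _ = (e01 (g : B ⊗[A] B) * e01 z) * (e12 (g : B ⊗[A] B) * e02 z) := by rw [hg]; ring
      _ = _ := by rw [h01, one_mul]
  have hex : Function.Exact φ.ker.subtype φ := LinearMap.exact_subtype_ker_map φ
  obtain ⟨w, hw⟩ := (Module.Flat.lTensor_exact B hex z).mp hz
  have hmem : ∀ w : B ⊗[A] φ.ker, μ (φ.ker.subtype.lTensor B w) ∈ Ideal.span S := fun w => by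
    induction w using TensorProduct.induction_on with
    | zero => simp
    | tmul x m =>
      have hm : m.1 ∈ S := sub_eq_zero.mp ((hφ m.1).symm.trans m.2)
      simpa [μ] using Ideal.mul_mem_left _ x (Ideal.subset_span hm)
    | add x y hx hy => rw [map_add, map_add]; exact add_mem hx hy
  refine (Ideal.eq_top_iff_one _).mpr ?_
  have h1 : μ z = 1 := by
    have h := congrArg μ (Units.mul_inv g)
    rwa [map_mul, map_one, hμ1, one_mul] at h
  rw [← h1, ← hw]
  exact hmem w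

end Groth.Agent.EtPic3
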