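import Groth.Agent.Lib.EtPic3.AffineObj
import Groth.Agent.Lib.EtPic3.Hilbert90
import Mathlib.RingTheory.Etale.Basic
import Mathlib.RingTheory.Spectrum.Prime.Topology

/-!
# Sections of a quotient by `G_m` lift Zariski locally
-/

set_option autoImplicit false
set_option linter.style.haveILetI false
set_option backward.isDefEq.respectTransparency.types false

universe u

open CategoryTheory CategoryTheory.Limits AlgebraicGeometry Opposite TensorProduct

namespace Groth.Agent.EtPic3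

variable {X : Scheme.{u}}

section Affine

variable {A : CommRingCat.{u}} (j : Spec A ⟶ X) [IsOpenImmersion j] (B : Type u) [CommRing B] [Algebra A B]
  [Algebra.Etale A B]

/-- The two primes of `B` over a common prime of `A` lie under a common prime of `B ⊗ B`. -/
theorem exists_prime_pair (w w' : PrimeSpectrum B)
    (h : w.comap (algebraMap A B) = w'.comap (algebraMap A B)) :
    ∃ z : PrimeSpectrum (B ⊗[A] B), (∀ b : B, b ⊗ₜ[A] (1 : B) ∈ z.asIdeal ↔ b ∈ w.asIdeal) ∧
      ∀ b : B, (1 : B) ⊗ₜ[A] b ∈ z.asIdeal ↔ b ∈ w'.asIdeal := by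
  obtain ⟨z₀, h1, h2⟩ := Scheme.Pullback.exists_preimage_pullback
    (f := Spec.map (CommRingCat.ofHom (algebraMap A B))) (g := Spec.map (CommRingCat.ofHom (algebraMap A B))) w w' h
  let z : PrimeSpectrum (B ⊗[A] B) := (pullbackSpecIso A B B).hom z₀
  have e1 : PrimeSpectrum.comap (Algebra.TensorProduct.includeLeft (R := A) (S := A) (A := B) (B := B)).toRingHom z = w :=
    (congr($(pullbackSpecIso_hom_fst A B B) z₀)).trans h1
  have e2 : PrimeSpectrum.comap (Algebra.TensorProduct.includeRight (R := A) (A := B) (B := B)).toRingHom z = w' :=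
    (congr($(pullbackSpecIso_hom_snd A B B) z₀)).trans h2
  refine ⟨z, fun b => ?_, fun b => ?_⟩
  · rw [← e1]; rfl
  · rw [← e2]; rfl

variable {I Q : EtCoh.Ab X} (m₀ : EtCoh.Gm X ⟶ I) [Mono m₀] (g : I ⟶ Q)

/-- A section of the quotient with a lift on an affine étale neighbourhood lifts Zariski locally. -/
theorem exists_lift_affine (hm : m₀ ≫ g = 0)
    (hex : ∀ (V : X.Etale) (t : I.obj.obj (op V)), g.hom.app _ t = 0 → ∃ u, m₀.hom.app _ u = t)
    (q : Q.obj.obj (op (EtCoh.top X))) (s : I.obj.obj (op (aobj j B)))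
    (hs : g.hom.app _ s = Q.obj.map (toTop (aobj j B)).op q) (p : PrimeSpectrum B) :
    ∃ U : X.Opens, (Spec.map (CommRingCat.ofHom (algebraMap A B)) ≫ j) p ∈ U ∧
      ∃ S : I.obj.obj (op (et U)), g.hom.app _ S = Q.obj.map (toTop (et U)).op q := by
  have hmap : ∀ {T : X.Etale} (a : T ⟶ aobj j B), g.hom.app _ (I.obj.map a.op s) = Q.obj.map (toTop T).op q :=
    fun a => by rw [app_natural, hs, map_map, map_eq_map Q (hom_ext_top _ (toTop _))]
  let L := Algebra.TensorProduct.includeLeft (R := A) (S := A) (A := B) (B := B)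
  let R := Algebra.TensorProduct.includeRight (R := A) (A := B) (B := B)
  obtain ⟨t, ht⟩ := hex _ (I.obj.map (amap j L).op s - I.obj.map (amap j R).op s)
    (by rw [map_sub, hmap, hmap, sub_self])
  obtain ⟨u, rfl⟩ := (εC_bijective j).2 t
  have hpush : ∀ (f : B ⊗[A] B →ₐ[A] B ⊗[A] (B ⊗[A] B)),
      m₀.hom.app _ (εC j (Units.map f.toRingHom.toMonoidHom u)) =
        I.obj.map (amap j (f.comp L)).op s - I.obj.map (amap j (f.comp R)).op s := fun f => by
    rw [← map_amap_εC, app_natural, ht, map_sub, map_map, map_map, amap_comp, amap_comp]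
  have hcoc : e02 (u : B ⊗[A] B) = e01 (u : B ⊗[A] B) * e12 (u : B ⊗[A] B) := by
    have h1 : (e01 (A := A) (B := B)).comp L = e02.comp L := AlgHom.ext fun x => by simp [L]
    have h2 : (e01 (A := A) (B := B)).comp R = e12.comp L := AlgHom.ext fun x => by simp [L, R]
    have h3 : (e02 (A := A) (B := B)).comp R = e12.comp R := AlgHom.ext fun x => by simp [R]
    have h : εC j (Units.map (e02 (A := A) (B := B)).toRingHom.toMonoidHom u) =
        εC j (Units.map (e01 (A := A) (B := B)).toRingHom.toMonoidHom u *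
          Units.map (e12 (A := A) (B := B)).toRingHom.toMonoidHom u) := by
      apply app_injective m₀
      rw [εC_mul, map_add, hpush, hpush, hpush, h1, h2, h3]
      abel
    exact congrArg Units.val ((εC_bijective j).1 h)
  obtain ⟨m, hmS, hmp⟩ : ∃ m ∈ {m : B | m ⊗ₜ[A] (1 : B) = u * ((1 : B) ⊗ₜ[A] m)}, m ∉ p.asIdeal := by
    by_contra hall
    push Not at hall
    exact p.2.ne_top (top_le_iff.1 ((span_twisted_eq_top u hcoc).symm.le.trans (Ideal.span_le.2 hall)))
  replace hmS : m ⊗ₜ[A] (1 : B) = u * ((1 : B) ⊗ₜ[A] m) := hmS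
  let φ := Spec.map (CommRingCat.ofHom (algebraMap A B))
  have hO : IsOpen (φ '' (PrimeSpectrum.basicOpen m : Set (PrimeSpectrum B))) :=
    φ.isOpenMap _ (PrimeSpectrum.basicOpen m).2
  obtain ⟨_, ⟨f, rfl⟩, hxf, hfO⟩ := PrimeSpectrum.isTopologicalBasis_basic_opens.exists_subset_of_mem_open
    (show p.comap (algebraMap A B) ∈ φ '' (PrimeSpectrum.basicOpen m : Set (PrimeSpectrum B)) from ⟨p, hmp, rfl⟩) hO
  let C := Localization.Away (algebraMap A B f)
  haveI : Algebra.Etale B C := Algebra.Etale.of_isLocalizationAway (algebraMap A B f)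
  haveI : Algebra.Etale A C := Algebra.Etale.comp A B C
  let η : B →ₐ[A] C := IsScalarTower.toAlgHom A B C
  have hmC : IsUnit (η m) := by
    by_contra hn
    obtain ⟨M, hM, hmM⟩ := exists_max_ideal_of_mem_nonunits hn
    let w : PrimeSpectrum B := PrimeSpectrum.comap η.toRingHom ⟨M, hM.isPrime⟩
    have hfw : w.comap (algebraMap A B) ∈ PrimeSpectrum.basicOpen f := fun h => hM.ne_top
      (M.eq_top_of_isUnit_mem h (IsLocalization.Away.algebraMap_isUnit (algebraMap A B f)))
    obtain ⟨w', hw', hww⟩ := hfO hfw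
    obtain ⟨z, hz1, hz2⟩ := exists_prime_pair B w w' hww.symm
    have : m ⊗ₜ[A] (1 : B) ∈ z.asIdeal := (hz1 m).2 hmM
    rw [hmS, Ideal.unit_mul_mem_iff_mem _ u.isUnit, hz2] at this
    exact hw' this
  let U : X.Opens := j ''ᵁ PrimeSpectrum.basicOpen f
  refine ⟨U, ⟨_, hxf, rfl⟩, ?_⟩
  have hCU : ∀ z, (aobj j C).hom z ∈ U := fun z => by
    refine ⟨PrimeSpectrum.comap (algebraMap A C) z, fun h => z.2.ne_top (z.asIdeal.eq_top_of_isUnit_mem h ?_), rfl⟩
    rw [IsScalarTower.algebraMap_apply A B C]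
    exact IsLocalization.Away.algebraMap_isUnit (algebraMap A B f)
  let k : aobj j C ⟶ et U := liftEt _ U hCU
  have hsurj : ∀ x : (et U).left, ∃ z, k.left z = x := by
    rintro ⟨x, p', hp', rfl⟩
    obtain ⟨w, hw, hwp⟩ := hfO hp'
    have hfw : w ∈ PrimeSpectrum.basicOpen (algebraMap A B f) := fun h => hp' (hwp ▸ h)
    have hw2 : w ∈ Set.range (PrimeSpectrum.comap (algebraMap B C)) :=
      (PrimeSpectrum.localization_away_comap_range C (algebraMap A B f)).symm.subset hfw
    obtain ⟨z, rfl⟩ := hw2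
    refine ⟨z, Subtype.ext ?_⟩
    have e : U.ι (k.left z) = (aobj j C).hom z := congrArg (fun l : _ ⟶ X => l z) (MorphismProperty.Over.w k)
    refine e.trans (congrArg j (Eq.trans ?_ hwp))
    show PrimeSpectrum.comap (algebraMap A C) z = PrimeSpectrum.comap (algebraMap A B) _
    rw [IsScalarTower.algebraMap_eq A B C]
    rfl
  let mC : (EtCoh.Gm X).obj.obj (op (aobj j C)) := εC j hmC.unit
  let s' : I.obj.obj (op (aobj j C)) := I.obj.map (amap j η).op s - m₀.hom.app _ mC
  obtain ⟨S, hS⟩ := exists_glue I (fun _ : PUnit.{u+1} => k) (fun x => ⟨⟨⟩, hsurj x⟩) (fun _ => s')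
    fun _ _ T a b _ => by
      obtain ⟨c, hc1, hc2⟩ := exists_pair j (a ≫ amap j η) (b ≫ amap j η)
      have key : (EtCoh.Gm X).obj.map a.op mC =
          (EtCoh.Gm X).obj.map c.op (εC j u) + (EtCoh.Gm X).obj.map b.op mC := by
        rw [map_εC, map_εC, map_εC, ← map_add, ← ofMul_mul]
        refine congrArg (fun v => ε T (Additive.ofMul v)) (Units.ext ?_)
        show pt j a (η m) = pt j c u * pt j b (η m)
        have ea : pt j a (η m) = pt j c (m ⊗ₜ[A] 1) := by
          show ((pt j a).comp η.toRingHom) m = _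
          rw [← pt_comp_amap, ← hc1, pt_comp_amap]; rfl
        have eb : pt j b (η m) = pt j c ((1 : B) ⊗ₜ[A] m) := by
          show ((pt j b).comp η.toRingHom) m = _
          rw [← pt_comp_amap, ← hc2, pt_comp_amap]; rfl
        rw [ea, eb, hmS, map_mul]
      rw [map_sub, map_sub, map_map, map_map, ← app_natural, ← app_natural, key, map_add, ← hc1, ← hc2,
        app_natural, ht, map_sub, map_map, map_map]
      abel
  refine ⟨S, sect_ext Q (fun _ : PUnit.{u+1} => k) (fun x => ⟨⟨⟩, hsurj x⟩) fun i => ?_⟩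
  rw [← app_natural, hS i, map_sub, hmap, map_map, map_eq_map Q (hom_ext_top (k ≫ toTop _) (toTop _))]
  have h0 : g.hom.app _ (m₀.hom.app _ mC) = (0 : Q.obj.obj (op (aobj j C))) := by
    show (m₀ ≫ g).hom.app _ mC = 0
    rw [hm]; rfl
  rw [h0, sub_zero]

end Affine

/-- A section of a quotient by `G_m` lifts Zariski locally. -/
theorem exists_lift_local {I Q : EtCoh.Ab X} (m₀ : EtCoh.Gm X ⟶ I) [Mono m₀] (g : I ⟶ Q) [Epi g]
    (hm : m₀ ≫ g = 0)
    (hex : ∀ (V : X.Etale) (t : I.obj.obj (op V)), g.hom.app _ t = 0 → ∃ u, m₀.hom.app _ u = t)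
    (q : Q.obj.obj (op (EtCoh.top X))) (x : X) :
    ∃ U : X.Opens, x ∈ U ∧ ∃ S : I.obj.obj (op (et U)), g.hom.app _ S = Q.obj.map (toTop (et U)).op q := by
  haveI : Sheaf.IsLocallySurjective g := (Sheaf.isLocallySurjective_iff_epi' _ g).2 inferInstance
  have e : X.smallEtaleTopology = (X.smallPretopology (P := EtCoh.etaleMP) (Q := EtCoh.etaleMP)).toGrothendieck :=
    Scheme.smallGrothendieckTopology_eq_toGrothendieck_smallPretopology _ le_rfl
  have hS := Presheaf.imageSieve_mem X.smallEtaleTopology g.hom q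
  replace hS := (Scheme.mem_toGrothendieck_smallPretopology _ _).1
    ((congrArg (fun J : GrothendieckTopology X.Etale => Presheaf.imageSieve g.hom q ∈ J (EtCoh.top X)) e).mp hS)
  obtain ⟨V, h, v, ⟨t, ht⟩, -, hv⟩ := hS x
  have hvx : V.hom v = x := by
    rw [← hv, ← MorphismProperty.Over.w h]; rfl
  obtain ⟨_, ⟨W, hW, rfl⟩, hxW, -⟩ := X.isBasis_affineOpens.exists_subset_of_mem_open (Set.mem_univ x) isOpen_univ
  obtain ⟨_, ⟨W', hW', rfl⟩, hvW', hsub⟩ := V.left.isBasis_affineOpens.exists_subset_of_mem_open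
    (show v ∈ V.hom ⁻¹ᵁ W from (hvx.symm ▸ hxW : V.hom v ∈ W)) (V.hom ⁻¹ᵁ W).2
  letI : Algebra Γ(X, W) Γ(V.left, W') := (V.hom.appLE W W' hsub).hom.toAlgebra
  haveI : Etale V.hom := V.prop
  haveI : Algebra.Etale Γ(X, W) Γ(V.left, W') :=
    HasRingHomProperty.appLE @Etale V.hom inferInstance ⟨W, hW⟩ ⟨W', hW'⟩ hsub
  have hcomp : hW'.fromSpec ≫ V.hom =
      Spec.map (CommRingCat.ofHom (algebraMap Γ(X, W) Γ(V.left, W'))) ≫ hW.fromSpec :=
    (hW.SpecMap_appLE_fromSpec V.hom hW' hsub).symm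
  let r : aobj hW.fromSpec Γ(V.left, W') ⟶ V := MorphismProperty.Over.homMk hW'.fromSpec hcomp
  obtain ⟨U, hU, hS⟩ := exists_lift_affine hW.fromSpec Γ(V.left, W') m₀ g hm hex q (I.obj.map r.op t)
    (by rw [app_natural, ht, map_map, map_eq_map Q (hom_ext_top (r ≫ h) (toTop _))]) (hW'.primeIdealOf ⟨v, hvW'⟩)
  refine ⟨U, ?_, hS⟩
  rw [← hcomp] at hU
  rw [← hvx]
  exact (congrArg V.hom (hW'.fromSpec_primeIdealOf ⟨v, hvW'⟩)) ▸ hU

end Groth.Agent.EtPic3
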