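import Groth.Agent.Lib.EtPic3.Killed

/-!
# The kernel of the edge maps of a direct image
-/

set_option autoImplicit false
set_option linter.style.haveILetI false
set_option backward.isDefEq.respectTransparency false
set_option backward.isDefEq.respectTransparency.types false
set_option maxHeartbeats 1000000

universe u

open CategoryTheory CategoryTheory.Limits AlgebraicGeometry Opposite CategoryTheory.Abelian
open Groth.Agent.EtStalk

namespace Groth.Agent.EtPic3

variable {X Y : Scheme.{u}}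

/-- A multiple of a section lifts when the obstruction is killed. -/
theorem exists_killed_lift (P : Submonoid ℕ) {U : Scheme.{u}} (j : U ⟶ Y) [Etale j]
    {S : ShortComplex (EtCoh.Ab Y)} (hS : S.ShortExact)
    (h : ∀ z : EtCoh.H U ((EtCoh.pull j).obj S.X₁) 1, Killed P z)
    (q : S.X₃.obj.obj (op ((EtShriek.compEtale j).obj (EtCoh.top U)))) :
    ∃ N ∈ P, ∃ t, S.g.hom.app _ t = N • q := by
  obtain ⟨φ, rfl⟩ := secOf_surjective j S.X₃ q
  obtain ⟨N, hN, h0⟩ := h (extCohEquiv j S.X₁ 1 ((Ext.mk₀ φ).comp hS.extClass (zero_add 1)))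
  rw [← map_nsmul, map_eq_zero_iff _ (extCohEquiv j S.X₁ 1).injective] at h0
  have h1 : ((N • Ext.mk₀ φ : Ext (zExt j) S.X₃ 0)).comp hS.extClass (zero_add 1) = 0 :=
    (map_nsmul (hS.extClass.postcomp _ (zero_add 1)) N (Ext.mk₀ φ)).trans h0
  obtain ⟨y, hy⟩ := Ext.covariant_sequence_exact₃ _ hS (N • Ext.mk₀ φ) (zero_add 1) h1
  obtain ⟨ψ, rfl⟩ := (Ext.mk₀_bijective _ _).2 y
  rw [Ext.mk₀_comp_mk₀] at hy
  replace hy : Ext.mk₀ (ψ ≫ S.g) = Ext.mk₀ (N • φ) := hy.trans (map_nsmul Ext.addEquiv₀.symm N φ).symm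
  refine ⟨N, hN, secOf j S.X₂ ψ, ?_⟩
  rw [← secOf_comp, (Ext.mk₀_bijective _ _).1 hy, secOf]
  exact congrArg (fun z : (EtCoh.const U ℤ ⟶ (EtShriek.restrAlong j).obj S.X₃) => z.hom.app (op (EtCoh.top U)) (oneSec U))
    (map_nsmul ((EtShriek.extZeroAdj j).homAddEquiv _ _) N φ)

/-- Cohomology of quotients inside injectives, over étale schemes. -/
theorem killed_H_pull_quotient (P : Submonoid ℕ) {U : Scheme.{u}} (j : U ⟶ Y) [Etale j]
    {S : ShortComplex (EtCoh.Ab Y)} (hS : S.ShortExact)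
    [Injective S.X₂] {q : ℕ} (h : ∀ z : EtCoh.H U ((EtCoh.pull j).obj S.X₁) (q + 1), Killed P z)
    (hq : 0 < q) (z : EtCoh.H U ((EtCoh.pull j).obj S.X₃) q) : Killed P z := by
  obtain ⟨m, rfl⟩ := Nat.exists_eq_succ_of_ne_zero hq.ne'
  obtain ⟨z, rfl⟩ := (extCohEquiv j S.X₃ (m + 1)).surjective z
  refine Killed.map (extCohEquiv j S.X₃ (m + 1)).toAddMonoidHom (x := z) ?_
  obtain ⟨N, hN, hz⟩ := h (extCohEquiv j S.X₁ (m + 1 + 1) (z.comp hS.extClass rfl))
  rw [← map_nsmul, map_eq_zero_iff _ (extCohEquiv j S.X₁ (m + 1 + 1)).injective] at hz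
  have h1 : (N • z).comp hS.extClass (rfl : m + 1 + 1 = m + 1 + 1) = 0 :=
    (map_nsmul (hS.extClass.postcomp _ rfl) N z).trans hz
  obtain ⟨y, hy⟩ := Ext.covariant_sequence_exact₃ _ hS (N • z) rfl h1
  refine ⟨N, hN, ?_⟩
  rw [← hy, Ext.eq_zero_of_injective y, Ext.zero_comp]

variable (f : Y ⟶ X) [PreservesFiniteLimits (EtCoh.pull f)]

/-- The edge map and a connecting map. -/
theorem HofPush_connect' {S : ShortComplex (EtCoh.Ab Y)} (hS : S.ShortExact) {C : EtCoh.Ab X}
    (p : (EtCoh.push f).obj S.X₂ ⟶ C) (κ : C ⟶ (EtCoh.push f).obj S.X₃)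
    (hκ : p ≫ κ = (EtCoh.push f).map S.g) (w : (EtCoh.push f).map S.f ≫ p = 0)
    (hT : (ShortComplex.mk ((EtCoh.push f).map S.f) p w).ShortExact) (n : ℕ) (c : EtCoh.H X C n) :
    EtLim.HofPush f S.X₁ (n + 1) (c.comp hT.extClass rfl) =
      (EtLim.HofPush f S.X₃ n (c.comp (Ext.mk₀ κ) (add_zero n))).comp hS.extClass rfl := by
  rw [HofPush_apply, HofPush_apply]
  erw [Ext.mapExactFunctor_comp, Ext.mapExactFunctor_extClass]
  let φ : (ShortComplex.mk ((EtCoh.push f).map S.f) p w).map (EtCoh.pull f) ⟶ S :=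
    { τ₁ := (EtCoh.pullPushAdj f).counit.app S.X₁
      τ₂ := (EtCoh.pullPushAdj f).counit.app S.X₂
      τ₃ := (EtCoh.pull f).map κ ≫ (EtCoh.pullPushAdj f).counit.app S.X₃
      comm₁₂ := ((EtCoh.pullPushAdj f).counit.naturality S.f).symm
      comm₂₃ := by
        show (EtCoh.pullPushAdj f).counit.app S.X₂ ≫ S.g =
          (EtCoh.pull f).map p ≫ (EtCoh.pull f).map κ ≫ (EtCoh.pullPushAdj f).counit.app S.X₃
        rw [← Category.assoc, ← Functor.map_comp, hκ]
        exact ((EtCoh.pullPushAdj f).counit.naturality S.g).symm }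
  have hn := ShortComplex.ShortExact.extClass_naturality (hT.map_of_exact (EtCoh.pull f)) hS φ
  rw [← Ext.comp_assoc (Ext.mk₀ (EtCore.pullConst f ℤ).inv) _ _ (zero_add n) rfl (by lia)]
  erw [Ext.comp_assoc_of_third_deg_zero, hn]
  rw [Ext.mapExactFunctor_comp, Ext.mapExactFunctor_mk₀, ← Ext.mk₀_comp_mk₀,
    ← Ext.comp_assoc _ ((Ext.mk₀ _).comp (Ext.mk₀ _) (add_zero 0)) hS.extClass (add_zero n) (zero_add 1) (by lia)]
  congr 1
  simp only [Ext.comp_assoc_of_third_deg_zero]

variable [CompactSpace X] [QuasiSeparatedSpace X]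
  (hc : ∀ V : X.Etale, IsAffine V.left → CompactSpace ((EtCoh.bc f).obj V).left)

include hc in
/-- The kernels of the edge maps are killed when the local cohomology in between is. -/
theorem killed_ker_HofPush (P : Submonoid ℕ) : ∀ (n : ℕ) (F : EtCoh.Ab Y),
    (∀ q : ℕ, 0 < q → q ≤ n → ∀ W : Y.Etale, CompactSpace W.left →
      ∀ z : EtCoh.H W.left ((EtCoh.pull W.hom).obj F) q, Killed P z) →
    ∀ x : EtCoh.H X ((EtCoh.push f).obj F) (n + 1), EtLim.HofPush f F (n + 1) x = 0 → Killed P x := by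
  intro n
  induction n with
  | zero =>
    intro F _ x hx
    rw [injective_HofPush_one f F (hx.trans (map_zero _).symm)]
    exact killed_zero
  | succ m ih =>
    intro F hF x hx
    let S := ShortComplex.mk (Injective.ι F) (cokernel.π (Injective.ι F)) (cokernel.condition _)
    have hS : S.ShortExact := { exact := ShortComplex.exact_cokernel (Injective.ι F) }
    haveI : Injective S.X₂ := inferInstanceAs (Injective (Injective.under F))
    haveI : (EtCoh.push f).IsRightAdjoint := (EtCoh.pullPushAdj f).isRightAdjoint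
    haveI := hS.mono_f
    let a := (EtCoh.push f).map S.f
    haveI : Mono a := inferInstance
    let T := ShortComplex.mk a (cokernel.π a) (cokernel.condition _)
    have hT : T.ShortExact := { exact := ShortComplex.exact_cokernel a }
    haveI : Injective T.X₂ := EtStalk.injective_push f S.X₂
    haveI : PreservesLimitsOfSize.{0, 0} (EtCoh.push f) := (EtCoh.pullPushAdj f).rightAdjoint_preservesLimits
    haveI : PreservesFiniteLimits (EtCoh.push f) := PreservesLimitsOfSize.preservesFiniteLimits _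
    have hw : a ≫ (EtCoh.push f).map S.g = 0 := by rw [← Functor.map_comp, S.zero, Functor.map_zero]
    let κ : T.X₃ ⟶ (EtCoh.push f).obj S.X₃ := cokernel.desc a ((EtCoh.push f).map S.g) hw
    haveI : Mono κ := (hS.exact.map_of_mono_of_preservesKernel (EtCoh.push f) hS.mono_f inferInstance).mono_cokernelDesc
    let Q := ShortComplex.mk κ (cokernel.π κ) (cokernel.condition _)
    have hQ : Q.ShortExact := { exact := ShortComplex.exact_cokernel κ }
    have hκ : T.g ≫ κ = (EtCoh.push f).map S.g := cokernel.π_desc _ _ _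
    have hz : (EtCoh.push f).map S.g ≫ Q.g = 0 := by
      rw [← hκ, Category.assoc]
      exact (congrArg (_ ≫ ·) (cokernel.condition κ)).trans comp_zero
    have hD : IsPTor P Q.X₃ := fun U s u => by
      haveI : Sheaf.IsLocallySurjective Q.g := (Sheaf.isLocallySurjective_iff_epi' _ Q.g).2 inferInstance
      have hcov := Presheaf.imageSieve_mem X.smallEtaleTopology Q.g.hom (U := op U) s
      rw [EtSite.mem_et_iff] at hcov
      obtain ⟨V, g, v, ⟨p, hp⟩, hv⟩ := hcov u
      obtain ⟨A, hA, hvA, -⟩ := exists_isAffineOpen_mem_and_subset (X := V.left) (x := v) (U := ⊤) trivial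
      let V' := EtSite.sub V A
      haveI : IsAffine V'.left := hA
      refine ⟨V', EtSite.subHom V A ≫ g, ⟨⟨v, hvA⟩, hv⟩, ?_⟩
      let W := (EtCoh.bc f).obj V'
      haveI : CompactSpace W.left := hc V' hA
      haveI : Etale W.hom := W.prop
      let e : (EtShriek.compEtale W.hom).obj (EtCoh.top W.left) ≅ W :=
        MorphismProperty.Over.isoMk (Iso.refl _) (by
          show 𝟙 _ ≫ W.hom = 𝟙 _ ≫ W.hom
          rfl)
      let p' : ((EtCoh.push f).obj S.X₃).obj.obj (op V') := ((EtCoh.push f).obj S.X₃).obj.map (EtSite.subHom V A).op p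
      obtain ⟨N, hN, t, ht⟩ := exists_killed_lift P W.hom hS
        (hF 1 one_pos (by omega) W inferInstance) (S.X₃.obj.map e.hom.op p')
      let t' : ((EtCoh.push f).obj S.X₂).obj.obj (op V') := S.X₂.obj.map e.inv.op t
      have hg : ((EtCoh.push f).map S.g).hom.app (op V') t' = N • p' := by
        show S.g.hom.app (op W) (S.X₂.obj.map e.inv.op t) = _
        rw [NatTrans.naturality_apply]
        erw [ht]
        rw [map_nsmul, ← Functor.map_comp_apply, ← op_comp, e.inv_hom_id, op_id, Functor.map_id_apply]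
      refine ⟨N, hN, ?_⟩
      rw [op_comp, Functor.map_comp_apply, ← hp, ← NatTrans.naturality_apply, ← map_nsmul]
      show Q.g.hom.app (op V') (N • p') = 0
      rw [← hg]
      exact congrArg (fun z : (EtCoh.push f).obj S.X₂ ⟶ Q.X₃ => z.hom.app (op V') t') hz
    obtain ⟨c, rfl⟩ := Ext.covariant_sequence_exact₁ _ hT x (Ext.eq_zero_of_injective _) (n₀ := m + 1) rfl
    refine Killed.map (hT.extClass.postcomp _ rfl) (x := c) ?_
    have h1 := (HofPush_connect' f hS T.g κ hκ (cokernel.condition _) hT (m + 1) c).symm.trans hx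
    obtain ⟨z, hz'⟩ := Ext.covariant_sequence_exact₃ _ hS _ rfl h1
    rw [Ext.eq_zero_of_injective z, Ext.zero_comp] at hz'
    obtain ⟨N, hN, hNc⟩ := ih S.X₃ (fun q hq hqm W hW =>
      haveI : Etale W.hom := W.prop
      killed_H_pull_quotient P W.hom hS
      (hF (q + 1) q.succ_pos (by omega) W hW) hq) _ hz'.symm
    refine killed_of_nsmul hN ?_
    have h0 : (N • c).comp (Ext.mk₀ Q.f) (add_zero _) = 0 :=
      (map_nsmul ((Ext.mk₀ Q.f).postcomp _ (add_zero (m + 1))) N c).trans hNc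
    obtain ⟨d, hd⟩ := Ext.covariant_sequence_exact₁ _ hQ (N • c) h0 (n₀ := m) rfl
    rw [← hd]
    exact Killed.map (hQ.extClass.postcomp _ rfl) (killed_H P Q.X₃ hD m d)

end Groth.Agent.EtPic3
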